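/-
Small facts on unitary spaces of dimension four.
-/
import Cfsg.Agent.Lib.MaxCl.UnitarySmall
import Cfsg.Agent.Lib.MaxCl.UnitaryRoot

set_option autoImplicit false

namespace Cfsg.Agent.MaxCl.Unit

open Module (finrank)

variable {ι : Type} [Fintype ι] [DecidableEq ι] {F : Type*} [Field F] [Fintype F]
variable {σ : F ≃+* F} {f : (ι → F) → (ι → F) → F}
variable (hU : Cfsg.Geo.IsUnitaryForm σ f)
include hU

theorem top_nondegenerate : Cfsg.Geo.IsNondegenerateOn f (⊤ : Submodule F (ι → F)) := fun v _ hv => by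
  obtain ⟨⟨a, ha⟩, ⟨b, hb⟩⟩ := hU.nondegenerate v hv
  exact ⟨⟨a, trivial, ha⟩, ⟨b, trivial, hb⟩⟩

/-- an isotropic vector not orthogonal to a given one, dimension at least two -/
theorem exists_isotropic_ne_two (hn : 2 ≤ Fintype.card ι) {v : ι → F} (hv : v ≠ 0) :
    ∃ u, f u u = 0 ∧ f u v ≠ 0 := by
  obtain ⟨z, hz⟩ := (hU.nondegenerate v hv).1
  by_contra hno; push Not at hno
  have hsp : ∀ x ∈ Submodule.span F {u | u ∈ (⊤ : Submodule F (ι → F)) ∧ f u u = 0}, f x v = 0 := by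
    intro x hx
    induction hx using Submodule.span_induction with
    | mem y hy => exact hno y hy.2
    | zero => exact zero_left hU v
    | add a b _ _ ha hb => rw [add_left hU, ha, hb, add_zero]
    | smul c a _ ha => rw [smul_left hU, ha, mul_zero]
  exact hz (hsp z (mem_span_iso hU (top_nondegenerate hU)
    (by rw [finrank_top, Module.finrank_pi]; exact hn) trivial))

omit hU in
/-- a generator of the multiplicative group of the field with `q ^ 2` elements -/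
theorem exists_generator {q : ℕ} (hF : Fintype.card F = q ^ 2) :
    ∃ ξ : F, ξ ≠ 0 ∧ ∀ k : ℕ, ξ ^ k = 1 ↔ q ^ 2 - 1 ∣ k := by
  classical
  obtain ⟨u, hu⟩ := IsCyclic.exists_generator (α := Fˣ)
  refine ⟨(u : F), u.ne_zero, fun k => ?_⟩
  have ho : orderOf u = q ^ 2 - 1 := by
    rw [orderOf_eq_card_of_forall_mem_zpowers hu, Nat.card_eq_fintype_card, Fintype.card_units, hF]
  rw [← ho, orderOf_dvd_iff_pow_eq_one, ← Units.val_pow_eq_pow_val, Units.val_eq_one]

omit hU in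
/-- a fixed element outside `0, 1` -/
theorem exists_fixed_ne {q : ℕ} (hF : Fintype.card F = q ^ 2) (hq : 3 ≤ q) {τ : F ≃+* F}
    (hτ : ∀ x, τ x = x ^ q) : ∃ a : F, τ a = a ∧ a ≠ 0 ∧ a ≠ 1 ∧ (4 ≤ q → a * a ≠ 1) := by
  obtain ⟨ξ, hξ0, hξ⟩ := exists_generator hF
  refine ⟨ξ ^ (q + 1), ?_, pow_ne_zero _ hξ0, fun h => ?_, fun h4 h => ?_⟩
  · rw [hτ, ← pow_mul, show (q + 1) * q = q + 1 + (q ^ 2 - 1) by
      have : 1 ≤ q ^ 2 := Nat.one_le_pow _ _ (by omega)
      have e : (q + 1) * q = q ^ 2 + q := by ring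
      omega, pow_add, (hξ _).2 dvd_rfl, mul_one]
  · have h1 := Nat.le_of_dvd (by omega) ((hξ _).1 h)
    have : 3 * q ≤ q ^ 2 := by rw [sq]; exact Nat.mul_le_mul_right _ hq
    omega
  · rw [← pow_add] at h
    have h1 := Nat.le_of_dvd (by omega) ((hξ _).1 h)
    have : 4 * q ≤ q ^ 2 := by rw [sq]; exact Nat.mul_le_mul_right _ h4
    omega

omit hU in
/-- an element of norm one that is not fixed -/
theorem exists_norm_one_moved {q : ℕ} (hF : Fintype.card F = q ^ 2) (hq : 2 ≤ q) {τ : F ≃+* F}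
    (hτ : ∀ x, τ x = x ^ q) : ∃ l : F, l * τ l = 1 ∧ τ l ≠ l := by
  obtain ⟨ξ, hξ0, hξ⟩ := exists_generator hF
  have hl : (ξ ^ (q - 1)) * τ (ξ ^ (q - 1)) = 1 := by
    rw [hτ, ← pow_mul, ← pow_add, hξ]
    refine ⟨1, ?_⟩
    obtain ⟨m, rfl⟩ : ∃ m, q = m + 1 := ⟨q - 1, by omega⟩
    simp only [add_tsub_cancel_right]
    have : (m + 1) ^ 2 = m * m + 2 * m + 1 := by ring
    rw [this, mul_one, add_tsub_cancel_right]; ring
  refine ⟨_, hl, fun h => ?_⟩
  rw [h, ← pow_add] at hl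
  have h1 := Nat.le_of_dvd (by omega) ((hξ _).1 hl)
  have : 2 * q ≤ q ^ 2 := by rw [sq]; exact Nat.mul_le_mul_right _ hq
  omega

end Cfsg.Agent.MaxCl.Unit
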