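/-
Stabilisers of non-degenerate points of unitary spaces of dimension four are maximal.
-/
import Cfsg.Agent.Lib.MaxCl.SU4.Basic

set_option autoImplicit false
set_option maxHeartbeats 1600000

namespace Cfsg.Agent.MaxCl.SU4

open Cfsg Cfsg.Agent.MaxCl Cfsg.Agent.MaxCl.Unit

theorem mem_sl {ι : Type} [Fintype ι] [DecidableEq ι] {F : Type*} [Field F] {g : GL ι F}
    (h : (g : Matrix ι ι F).det = 1) : g ∈ Cfsg.Geo.specialLinear ι F :=
  MonoidHom.mem_ker.2 (Units.ext (by simpa using h))

theorem det_of_mem_sl {ι : Type} [Fintype ι] [DecidableEq ι] {F : Type*} [Field F] {g : GL ι F}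
    (h : g ∈ Cfsg.Geo.specialLinear ι F) : (g : Matrix ι ι F).det = 1 := by
  have := congrArg Units.val (MonoidHom.mem_ker.1 h)
  simpa using this

/-- Stabilisers of non-degenerate points are maximal in dimension four. -/
theorem point_maximal {F : Type*} [Field F] [Fintype F] (q : ℕ) (hF : Fintype.card F = q ^ 2)
    (W : Submodule F (Fin 4 → F)) (hW0 : W ≠ ⊥) (hW : Cfsg.Geo.IsNondegenerateOn (Cfsg.hermForm 4 F q) W)
    (hdim : 2 * Module.finrank F W < 4) :
    Cfsg.Geo.IsMaximalIn (Cfsg.GU 4 F q ⊓ Cfsg.Geo.specialLinear (Fin 4) F)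
      (Cfsg.Geo.subspaceStabilizer W ⊓ (Cfsg.GU 4 F q ⊓ Cfsg.Geo.specialLinear (Fin 4) F)) := by
  classical
  obtain ⟨τ, -, hf⟩ := hermForm_isUnitary 4 q hF
  set f := Cfsg.hermForm 4 F q
  change Cfsg.Geo.IsMaximalIn (uiso f ⊓ _) (_ ⊓ (uiso f ⊓ _))
  have hn4 : 4 ≤ Fintype.card (Fin 4) := by simp
  obtain ⟨s, hs0, hs⟩ := exists_skew hf.ne_refl hf.involutive
  have hU0 : ∀ u c, f u u = 0 → c + τ c = 0 → utv hf u c ∈ uiso f ⊓ Cfsg.Geo.specialLinear (Fin 4) F :=
    fun u c hu hc => ⟨utv_mem hf hu hc, det_ptv hf (by rw [smul_right hf, hu, mul_zero])⟩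
  obtain ⟨a, ha, ha0⟩ : ∃ a ∈ W, a ≠ 0 := Submodule.exists_mem_ne_zero_of_ne_bot hW0
  have hWa : W = F ∙ a := by
    refine (Submodule.eq_of_le_of_finrank_le ((Submodule.span_singleton_le_iff_mem _ _).2 ha) ?_).symm
    rw [finrank_span_singleton ha0]; omega
  subst hWa
  obtain ⟨X, hXdef⟩ : ∃ X, X = uperp hf (F ∙ a) := ⟨_, rfl⟩
  have hXiff : ∀ v, v ∈ X ↔ f v a = 0 := by
    intro v
    rw [hXdef, mem_uperp]
    refine ⟨fun h => h a (Submodule.mem_span_singleton_self a), fun h w hw => ?_⟩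
    obtain ⟨k, rfl⟩ := Submodule.mem_span_singleton.1 hw
    rw [smul_right hf, h, mul_zero]
  have haa : f a a ≠ 0 := by
    obtain ⟨y, hy, hay⟩ := (hW a ha ha0).2
    obtain ⟨k, rfl⟩ := Submodule.mem_span_singleton.1 hy
    rw [smul_right hf] at hay
    exact right_ne_zero_of_mul hay
  have hX : Cfsg.Geo.IsNondegenerateOn f X := hXdef ▸ uperp_nondegenerate hf hW
  have hXd : Module.finrank F X = 3 := by
    have := finrank_uperp hf (F ∙ a)
    rw [finrank_span_singleton ha0, Fintype.card_fin] at this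
    rw [hXdef]; omega
  have hstab : ∀ (g : GL (Fin 4) F) (k : F), act g a = k • a →
      g ∈ Cfsg.Geo.subspaceStabilizer (F ∙ a) := by
    intro g k hk
    refine mem_subspaceStabilizer_of_le fun v hv => ?_
    obtain ⟨j, rfl⟩ := Submodule.mem_span_singleton.1 hv
    rw [map_smul, hk, smul_smul]
    exact Submodule.smul_mem _ _ (Submodule.mem_span_singleton_self a)
  refine ⟨lt_of_le_of_ne inf_le_right ?_, ?_⟩
  · intro heq
    obtain ⟨b₀, hb₀, hb₀'⟩ : ∃ b ∈ X, f b b ≠ 0 := by
      obtain ⟨w, hw, -, hww⟩ := exists_aniso_perp_four hf hn4 (x := a) (y := a) (Or.inl haa)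
      exact ⟨w, (hXiff w).2 hw, hww⟩
    obtain ⟨β, hβ⟩ := exists_scale hf hb₀' (a := -f a a) (by rw [map_neg, herm' hf])
    have hβb : f (β • b₀) a = 0 := by rw [smul_left hf, (hXiff b₀).1 hb₀, mul_zero]
    have hab : f a (β • b₀) = 0 := eq_zero_symm hf hβb
    have hu : f (a + β • b₀) (a + β • b₀) = 0 := by
      rw [add_left hf, add_right hf, add_right hf, hab, hβb, hβ]; ring
    have h1 := (mem_subspaceStabilizer.1 ((inf_eq_right.1 heq) (hU0 _ s hu hs)) a).1
      (Submodule.mem_span_singleton_self a)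
    rw [act_utv hf hu, (F ∙ a).add_mem_iff_right (Submodule.mem_span_singleton_self a),
      add_right hf, hab, add_zero, (F ∙ a).smul_mem_iff (mul_ne_zero hs0 haa),
      (F ∙ a).add_mem_iff_right (Submodule.mem_span_singleton_self a)] at h1
    obtain ⟨k, hk⟩ := Submodule.mem_span_singleton.1 h1
    have h2 := hβb
    rw [← hk, smul_left hf, mul_eq_zero, or_iff_left haa] at h2
    have h3 := hβ
    rw [← hk, h2, zero_smul, zero_left hf, eq_comm, neg_eq_zero] at h3
    exact haa h3
  intro M hM1 hM2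
  by_cases hsub : M ≤ Cfsg.Geo.subspaceStabilizer (F ∙ a)
  · exact Or.inl (le_antisymm (le_inf hsub hM2) hM1)
  right
  obtain ⟨g, hgM, hg⟩ := SetLike.not_le_iff_exists.1 hsub
  have hgf : g ∈ uiso f := (hM2 hgM).1
  have hXM : ∀ u ∈ X, f u u = 0 → RootIn hf M u := by
    intro u hu huu
    refine ⟨huu, fun c hc => hM1 ⟨hstab _ 1 ?_, hU0 u c huu hc⟩⟩
    rw [act_utv hf huu, eq_zero_symm hf ((hXiff u).1 hu), mul_zero, zero_smul, add_zero, one_smul]
  obtain ⟨b, hb, hab⟩ : ∃ b ∈ X, RootIn hf M (a + b) := by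
    by_contra hno; push Not at hno
    apply hg
    have himg : ∀ u ∈ X, f u u = 0 → act g u ∈ X := by
      intro u hu huu
      rw [hXiff]
      by_contra hne
      have h := rootIn_conj hf hgM hgf (hXM u hu huu)
      obtain ⟨κ, hκ⟩ : ∃ κ, κ = f (act g u) a / f a a := ⟨_, rfl⟩
      have hκ0 : κ ≠ 0 := hκ ▸ div_ne_zero hne haa
      refine hno (κ⁻¹ • act g u - a) ?_ ?_
      · rw [hXiff, sub_left hf, smul_left hf, hκ, inv_div]
        field_simp
        ring
      · rw [add_sub_cancel]; exact rootIn_smul hf h _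
    have hle : X.map (act g) ≤ X := by
      rw [Submodule.map_le_iff_le_comap]
      intro x hx
      have hsp := mem_span_iso hf hX (by omega) hx
      refine Submodule.span_le.2 ?_ hsp
      exact fun u hu => himg u hu.1 hu.2
    have e : X.map (act g) = X := Submodule.eq_of_le_of_finrank_eq hle (finrank_map_act _ _)
    rw [hXdef, map_uperp hf hgf] at e
    have e' : (F ∙ a).map (act g) = F ∙ a := by
      rw [← uperp_uperp hf ((F ∙ a).map (act g)), e, uperp_uperp]
    obtain ⟨k, hk⟩ := Submodule.mem_span_singleton.1 (e' ▸ ⟨a, Submodule.mem_span_singleton_self a, rfl⟩ :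
      act g a ∈ F ∙ a)
    exact hstab g k hk.symm
  have hnorm : ∀ p ∈ X, f (a + p) (a + p) = f a a + f p p := by
    intro p hp
    rw [add_left hf, add_right hf, add_right hf, (hXiff p).1 hp, eq_zero_symm hf ((hXiff p).1 hp)]; ring
  -- one move
  have step : ∀ p r, p ∈ X → r ∈ X → f r r = f p p → f p p ≠ 0 → f p (r - p) ≠ 0 →
      RootIn hf M (a + p) → RootIn hf M (a + r) := by
    intro p r hp hr hpr hp0 hne h
    by_cases hu : f (r - p) (r - p) = 0
    · refine rootIn_step hf (v := a + p) ?_ h ?_ ?_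
      · rw [add_sub_add_left_eq_sub]; exact hXM _ (X.sub_mem hr hp) hu
      · rw [add_sub_add_left_eq_sub, add_left hf,
          eq_zero_symm hf ((hXiff _).1 (X.sub_mem hr hp)), zero_add]
        exact hne
      · rw [hnorm p hp, hnorm r hr, hpr]
    obtain ⟨l, hl⟩ : ∃ l, l = 1 + f (r - p) (r - p) / f p (r - p) := ⟨_, rfl⟩
    have hσ : τ (f p (r - p)) = f (r - p) p := herm' hf _ _
    have hl1 : l * τ l = 1 := by
      have hne' : f (r - p) p ≠ 0 := ne_symm hf hne
      rw [hl, map_add, map_one, map_div₀, hσ, herm' hf]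
      field_simp
      simp only [sub_left hf, sub_right hf] at *
      linear_combination (f r r - f r p - (f p r - f p p)) * hpr
    obtain ⟨d, hd, hdl⟩ := exists_qref hf hu hl1
    obtain ⟨w, hwa, hwr, hww⟩ := exists_aniso_perp_four hf hn4 (x := a) (y := r) (Or.inl haa)
    have hl0 : l ≠ 0 := left_ne_zero_of_mul (hl1.symm ▸ one_ne_zero)
    obtain ⟨d', hd', hdl'⟩ := exists_qref hf hww (l := τ l) (by rw [hf.involutive, mul_comm, hl1])
    have hda : act (d' * d) a = a := by
      rw [act_mul, hdl, eq_zero_symm hf ((hXiff _).1 (X.sub_mem hr hp)), mul_zero, zero_div, zero_smul,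
        add_zero, hdl', eq_zero_symm hf hwa, mul_zero, zero_div, zero_smul, add_zero]
    have hdp : act (d' * d) p = r := by
      rw [act_mul, hdl, hl, add_sub_cancel_left, div_mul_cancel₀ _ hne, div_self hu, one_smul,
        add_sub_cancel, hdl', eq_zero_symm hf hwr, mul_zero, zero_div, zero_smul, add_zero]
    have hdM : d' * d ∈ M := by
      refine hM1 ⟨hstab _ 1 (by rw [hda, one_smul]), mul_mem hd' hd, mem_sl ?_⟩
      rw [Units.val_mul, Matrix.det_mul, det_qref hf hww hdl', det_qref hf hu hdl, mul_comm, hl1]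
    have := rootIn_conj hf hdM (mul_mem hd' hd) h
    rwa [map_add, hda, hdp] at this
  have hbb : f b b = -f a a := by
    have := hab.1
    rw [hnorm b hb] at this
    linear_combination this
  have hall : ∀ r ∈ X, f r r = -f a a → RootIn hf M (a + r) := by
    intro r hr hrr
    have hb0 : f b b ≠ 0 := by rw [hbb]; exact neg_ne_zero.2 haa
    by_cases hne : f b (r - b) = 0
    swap; · exact step b r hb hr (hrr.trans hbb.symm) hb0 hne hab
    obtain ⟨μ, hμ⟩ := exists_moved hf.ne_refl
    have hμ0 : μ ≠ 0 := by rintro rfl; exact hμ (map_zero _)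
    obtain ⟨l, hl⟩ : ∃ l, l = τ μ / μ := ⟨_, rfl⟩
    have hτμ : τ μ ≠ 0 := (map_ne_zero τ).2 hμ0
    have hl1 : l * τ l = 1 := by rw [hl, map_div₀, hf.involutive]; field_simp
    have hlne : l ≠ 1 := by rw [hl, Ne, div_eq_one_iff_eq hμ0]; exact hμ
    rw [sub_right hf, sub_eq_zero] at hne
    have hlb : f (l • r) (l • r) = f r r := by
      rw [smul_left hf, smul_right hf, ← mul_assoc, hl1, one_mul]
    have h1 : RootIn hf M (a + l • r) := by
      refine step b (l • r) hb (X.smul_mem _ hr) (by rw [hlb, hrr, hbb]) hb0 ?_ hab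
      rw [sub_right hf, smul_right hf, hne]
      intro h
      have h' : (τ l - 1) * f b b = 0 := by linear_combination h
      rw [mul_eq_zero, or_iff_left hb0, sub_eq_zero, ← map_one τ] at h'
      exact hlne (τ.injective h')
    refine step (l • r) r (X.smul_mem _ hr) hr hlb.symm (by rw [hlb, hrr]; exact neg_ne_zero.2 haa) ?_ h1
    rw [sub_right hf, smul_left hf, hlb, sub_ne_zero]
    intro h
    have h' : (l - 1) * f r r = 0 := by linear_combination h
    rw [mul_eq_zero, or_iff_left (show f r r ≠ 0 by rw [hrr]; exact neg_ne_zero.2 haa), sub_eq_zero] at h'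
    exact hlne h'
  refine le_antisymm hM2 (su_le_of_utv_four hf hn4 M fun v c hv hc => ?_)
  suffices h : RootIn hf M v from h.2 c hc
  obtain ⟨p, hp, r, hr, rfl⟩ := exists_decomp hf hW v
  obtain ⟨κ, rfl⟩ := Submodule.mem_span_singleton.1 hp
  rw [← hXdef] at hr
  rcases eq_or_ne κ 0 with rfl | hκ
  · rw [zero_smul, zero_add] at hv ⊢; exact hXM r hr hv
  have h2 := hall (κ⁻¹ • r) (X.smul_mem _ hr) (by
    have e : f (κ • a + r) (κ • a + r) = κ * τ κ * f a a + f r r := by
      simp only [add_left hf, add_right hf, smul_left hf, smul_right hf, (hXiff r).1 hr,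
        eq_zero_symm hf ((hXiff r).1 hr)]
      ring
    rw [e] at hv
    rw [smul_left hf, smul_right hf, map_inv₀]
    field_simp [(map_ne_zero τ).2 hκ]
    linear_combination hv)
  have h3 := rootIn_smul hf h2 κ
  rwa [smul_add, smul_inv_smul₀ hκ] at h3

end Cfsg.Agent.MaxCl.SU4
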