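/-
Norm one scalars with prescribed traces: for four non-zero coordinates and a double transposition of them there are
two diagonal elements carrying the vector to orthogonal ones, and four if the norms agree along the transposition.
-/
import Cfsg.Agent.Lib.MaxCl.UnitaryTorusPoly

set_option autoImplicit false
set_option linter.unusedSectionVars false

namespace Cfsg.Agent.MaxCl.SU4.Frame

open Unit

variable {F : Type*} [Field F] [Fintype F] {σ : F ≃+* F} {q : ℕ}

/-- Phases carrying `z` to an orthogonal vector along the double transposition `(01)(23)`. -/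
def IsSol (σ : F ≃+* F) (z D : Fin 4 → F) : Prop :=
  (∀ i, D i * σ (D i) = 1) ∧ D 0 * D 1 * D 2 * D 3 = 1 ∧
    D 0 * (z 0 * σ (z 1)) + D 1 * (z 1 * σ (z 0)) + (D 2 * (z 2 * σ (z 3)) + D 3 * (z 3 * σ (z 2))) = 0

/-- Four pairwise independent solutions. -/
def HasFour (σ : F ≃+* F) (z : Fin 4 → F) : Prop :=
  ∃ f : Fin 4 → Fin 4 → F, (∀ k, IsSol σ z (f k)) ∧ ∀ k l, k ≠ l → ∀ s : F, f k ≠ s • f l

variable (hq : QSq σ q)
include hq

theorem invol (a : F) : σ (σ a) = a := by
  rw [hq.apply_eq, hq.apply_eq, ← pow_mul, ← sq, ← hq.card, FiniteField.pow_card]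

theorem exists_xi : ∃ ξ : F, ξ * σ ξ = 1 ∧ ∀ k, ξ ^ k = 1 ↔ q + 1 ∣ k := by
  obtain ⟨ξ, h⟩ := hq.exists_primitive
  exact ⟨ξ, hq.norm_one_iff.2 h.pow_eq_one, fun k => h.pow_eq_one_iff_dvd k⟩

open Classical in
theorem card_norm_one : (Finset.univ.filter fun z : F => z * σ z = 1).card = q + 1 := by
  obtain ⟨ξ, h⟩ := hq.exists_primitive
  rw [← h.card_nthRootsFinset]
  congr 1
  ext x
  simp [hq.norm_one_iff, Polynomial.mem_nthRootsFinset]

open Classical in
theorem card_fixed_le : (Finset.univ.filter fun x : F => σ x = x).card ≤ q := by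
  have h1 : 1 < q := hq.two_le
  have hne : (Polynomial.X ^ q - Polynomial.X : Polynomial F) ≠ 0 := FiniteField.X_pow_card_sub_X_ne_zero F h1
  refine (Finset.card_le_card (t := (Polynomial.X ^ q - Polynomial.X : Polynomial F).roots.toFinset) fun x hx => ?_).trans
    ((Multiset.toFinset_card_le _).trans ((Polynomial.card_roots' _).trans
      (le_of_eq (FiniteField.X_pow_card_sub_X_natDegree_eq F h1))))
  simp only [Finset.mem_filter, Finset.mem_univ, true_and] at hx
  rw [Multiset.mem_toFinset, Polynomial.mem_roots hne]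
  simp [← hq.apply_eq, hx]

omit hq in
/-- Phases in pairs. -/
def pairD (σ : F ≃+* F) (ν ν' : F) : Fin 4 → F := ![ν, σ ν, ν', σ ν']

theorem isSol_pair {z : Fin 4 → F} {ν ν' : F} (h : ν * σ ν = 1) (h' : ν' * σ ν' = 1)
    (he : z 0 * σ (z 1) * ν + σ (z 0 * σ (z 1) * ν) + (z 2 * σ (z 3) * ν' + σ (z 2 * σ (z 3) * ν')) = 0) :
    IsSol σ z (pairD σ ν ν') := by
  refine ⟨fun i => ?_, ?_, ?_⟩
  · fin_cases i
    · simpa [pairD] using h
    · simp [pairD, invol hq]; linear_combination h
    · simpa [pairD] using h'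
    · simp [pairD, invol hq]; linear_combination h'
  · simp [pairD]; linear_combination (ν' * σ ν') * h + h'
  · simp only [map_mul, invol hq] at he
    simp [pairD]
    linear_combination he

theorem pair_eq_smul {ν ν' μ μ' s : F} (h : ν * σ ν = 1) (hμ : μ * σ μ = 1)
    (e : pairD σ ν ν' = s • pairD σ μ μ') : (ν = μ ∧ ν' = μ') ∨ (ν = -μ ∧ ν' = -μ') := by
  have e0 : ν = s * μ := by simpa [pairD] using congrFun e 0
  have e1 : σ ν = s * σ μ := by simpa [pairD] using congrFun e 1
  have e2 : ν' = s * μ' := by simpa [pairD] using congrFun e 2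
  have hs : s * s = 1 := by
    linear_combination h - σ ν * e0 - (s * μ) * e1 - (s * s) * hμ
  rcases mul_self_eq_one_iff.1 hs with rfl | rfl
  · left; exact ⟨by rw [e0, one_mul], by rw [e2, one_mul]⟩
  · right; exact ⟨by rw [e0, neg_one_mul], by rw [e2, neg_one_mul]⟩

variable (hq3 : 4 ≤ q)
include hq3

omit hq hq3 in
theorem four_of_keys {z : Fin 4 → F} (K : Fin 4 → F × F) (f : Fin 4 → Fin 4 → F) (hf : ∀ k, IsSol σ z (f k))
    (hinj : Function.Injective fun k => (K k).1 * (K k).2)
    (hkey : ∀ k l, ∀ s : F, f k = s • f l → (K k).1 * (K k).2 = (K l).1 * (K l).2) : HasFour σ z :=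
  ⟨f, hf, fun k l hkl s e => hkl (hinj (hkey k l s e))⟩

/-- Two skew products give a whole family of solutions. -/
theorem four_of_skew {z : Fin 4 → F} {ν ν' : F} (h : ν * σ ν = 1) (h' : ν' * σ ν' = 1)
    (e : z 0 * σ (z 1) * ν + σ (z 0 * σ (z 1) * ν) = 0)
    (e' : z 2 * σ (z 3) * ν' + σ (z 2 * σ (z 3) * ν') = 0) : HasFour σ z := by
  obtain ⟨ξ, hξ, hord⟩ := exists_xi hq
  obtain ⟨K, hK1, hinj⟩ : ∃ K : Fin 4 → F × F, (∀ k, (∃ m : ℕ, (K k).1 = (ξ ^ m) * (ξ ^ m)) ∧
      ((K k).2 = 1 ∨ (K k).2 = -1)) ∧ Function.Injective fun k => (K k).1 * (K k).2 := by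
    have h2ne : ξ ^ 2 ≠ 1 := fun h => by have := Nat.le_of_dvd two_pos ((hord 2).1 h); omega
    by_cases h2 : (2 : F) = 0
    · refine ⟨fun k => (ξ ^ (k : ℕ) * ξ ^ (k : ℕ), 1), fun k => ⟨⟨k, rfl⟩, Or.inl rfl⟩, fun k l e => ?_⟩
      by_contra hne
      obtain ⟨m, hm, hm6⟩ : ∃ m, ξ ^ m = 1 ∧ (m = 2 ∨ m = 4 ∨ m = 6) := by
        have hξ0 : ξ ≠ 0 := left_ne_zero_of_mul (hξ.symm ▸ one_ne_zero)
        simp only [mul_one, ← pow_add] at e
        rcases lt_or_gt_of_ne hne with hlt | hlt
        · refine ⟨(l : ℕ) + l - (k + k), ?_, by omega⟩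
          rw [pow_sub₀ _ hξ0 (by omega), e, mul_inv_cancel₀ (pow_ne_zero _ hξ0)]
        · refine ⟨(k : ℕ) + k - (l + l), ?_, by omega⟩
          rw [pow_sub₀ _ hξ0 (by omega), e, mul_inv_cancel₀ (pow_ne_zero _ hξ0)]
      have hd := (hord m).1 hm
      have hle := Nat.le_of_dvd (by omega) hd
      have hq5 : q = 5 := by
        rcases hm6 with rfl | rfl | rfl
        · omega
        · omega
        · have : q = 4 ∨ q = 5 := by omega
          rcases this with rfl | rfl
          · norm_num at hd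
          · rfl
      have h5 := hq.cast_q
      rw [hq5] at h5
      push_cast at h5
      exact one_ne_zero (show (1 : F) = 0 by linear_combination h5 - 2 * h2)
    · have hne : (1 : F) ≠ -1 := fun e => h2 (by linear_combination e)
      have h2ne' : ξ ^ 2 ≠ -1 := fun h => by
        have h4 : ξ ^ 4 = 1 := by linear_combination (ξ ^ 2 - 1) * h
        have := Nat.le_of_dvd (by norm_num) ((hord 4).1 h4); omega
      refine ⟨![(1, 1), (1, -1), (ξ * ξ, 1), (ξ * ξ, -1)], fun k => ?_, ?_⟩
      · fin_cases k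
        · exact ⟨⟨0, by simp⟩, Or.inl rfl⟩
        · exact ⟨⟨0, by simp⟩, Or.inr rfl⟩
        · exact ⟨⟨1, by simp⟩, Or.inl rfl⟩
        · exact ⟨⟨1, by simp⟩, Or.inr rfl⟩
      · intro k l e
        rw [pow_two] at h2ne h2ne'
        fin_cases k <;> fin_cases l <;> first | rfl | (exfalso; simp at e) <;>
          first | exact hne e | exact hne e.symm | exact h2ne e | exact h2ne e.symm | exact h2ne' e |
            exact h2ne' e.symm | exact h2ne (by linear_combination e) | exact h2ne (by linear_combination -e) |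
            exact h2ne' (by linear_combination e) | exact h2ne' (by linear_combination -e) |
            exact h2 (mul_left_cancel₀ (mul_ne_zero (left_ne_zero_of_mul (hξ.symm ▸ one_ne_zero))
              (left_ne_zero_of_mul (hξ.symm ▸ one_ne_zero))) (show ξ * ξ * 2 = ξ * ξ * 0 by linear_combination e)) |
            exact h2 (mul_left_cancel₀ (mul_ne_zero (left_ne_zero_of_mul (hξ.symm ▸ one_ne_zero))
              (left_ne_zero_of_mul (hξ.symm ▸ one_ne_zero))) (show ξ * ξ * 2 = ξ * ξ * 0 by linear_combination -e))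
  choose m hm using fun k => (hK1 k).1
  have he : ∀ k, (K k).2 * (K k).2 = 1 ∧ σ (K k).2 = (K k).2 := fun k => by
    rcases (hK1 k).2 with h | h <;> simp [h]
  let f : Fin 4 → Fin 4 → F := fun k =>
    ![ξ ^ m k * ν, ξ ^ m k * σ ν, σ (ξ ^ m k) * ((K k).2 * ν'), σ (ξ ^ m k) * ((K k).2 * σ ν')]
  have hκ : ∀ k, ξ ^ m k * σ (ξ ^ m k) = 1 := fun k => by rw [map_pow, ← mul_pow, hξ, one_pow]
  refine four_of_keys K f (fun k => ⟨fun i => ?_, ?_, ?_⟩) hinj fun k l s e => ?_
  · fin_cases i <;> simp only [f, map_mul, invol hq, (he k).2, Matrix.cons_val_zero, Matrix.cons_val_one,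
      Matrix.cons_val, Fin.zero_eta, Fin.mk_one, Fin.reduceFinMk]
    · linear_combination (ν * σ ν) * hκ k + h
    · linear_combination (ν * σ ν) * hκ k + h
    · linear_combination (ν' * σ ν' * ((K k).2 * (K k).2)) * hκ k + (ν' * σ ν') * (he k).1 + h'
    · linear_combination (ν' * σ ν' * ((K k).2 * (K k).2)) * hκ k + (ν' * σ ν') * (he k).1 + h'
  · simp only [f, Matrix.cons_val_zero, Matrix.cons_val_one, Matrix.cons_val]
    linear_combination ((ν * σ ν) * (ν' * σ ν') * ((K k).2 * (K k).2) * (ξ ^ m k * σ (ξ ^ m k) + 1)) * hκ k +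
      (ν' * σ ν' * ((K k).2 * (K k).2)) * h + (ν' * σ ν') * (he k).1 + h'
  · simp only [f, Matrix.cons_val_zero, Matrix.cons_val_one, Matrix.cons_val]
    simp only [map_mul, invol hq] at e e'
    linear_combination ξ ^ m k * e + (σ (ξ ^ m k) * (K k).2) * e'
  · have e0 : ξ ^ m k * ν = s * (ξ ^ m l * ν) := by simpa [f] using congrFun e 0
    have e2 : σ (ξ ^ m k) * ((K k).2 * ν') = s * (σ (ξ ^ m l) * ((K l).2 * ν')) := by simpa [f] using congrFun e 2
    have hν : ν ≠ 0 := left_ne_zero_of_mul (h.symm ▸ one_ne_zero)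
    have hν' : ν' ≠ 0 := left_ne_zero_of_mul (h'.symm ▸ one_ne_zero)
    have a0 : ξ ^ m k = s * ξ ^ m l := mul_right_cancel₀ hν (by linear_combination e0)
    have a2 : σ (ξ ^ m k) * (K k).2 = s * (σ (ξ ^ m l) * (K l).2) := mul_right_cancel₀ hν' (by linear_combination e2)
    have e1 : (K k).2 * (ξ ^ m l * ξ ^ m l) = ξ ^ m k * ξ ^ m k * (K l).2 := by
      linear_combination (-((K k).2 * (ξ ^ m l * ξ ^ m l))) * hκ k + (ξ ^ m k * ξ ^ m l * ξ ^ m l) * a2 +
        (ξ ^ m k * s * ξ ^ m l * (K l).2) * hκ l - (ξ ^ m k * (K l).2) * a0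
    rw [hm k, hm l]
    linear_combination (-((K k).2 * (K l).2)) * e1 - (ξ ^ m k * ξ ^ m k * (K k).2) * (he l).1 +
      (ξ ^ m l * ξ ^ m l * (K l).2) * (he k).1

/-- Equal norms along the transposition give four solutions. -/
theorem four_of_eq {z : Fin 4 → F} (hz : ∀ i, z i ≠ 0) (h01 : z 0 * σ (z 0) = z 1 * σ (z 1))
    (h23 : z 2 * σ (z 2) = z 3 * σ (z 3)) : HasFour σ z := by
  classical
  obtain ⟨A, hA⟩ : ∃ A, A = z 0 * σ (z 0) := ⟨_, rfl⟩
  obtain ⟨B, hB⟩ : ∃ B, B = z 2 * σ (z 2) := ⟨_, rfl⟩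
  have hA0 : A ≠ 0 := hA ▸ mul_ne_zero (hz 0) ((map_ne_zero σ).2 (hz 0))
  have hB0 : B ≠ 0 := hB ▸ mul_ne_zero (hz 2) ((map_ne_zero σ).2 (hz 2))
  have hAσ : σ A = A := by rw [hA, map_mul, invol hq, mul_comm]
  have hBσ : σ B = B := by rw [hB, map_mul, invol hq, mul_comm]
  obtain ⟨u, hu⟩ : ∃ u, u = A / (z 0 * σ (z 1)) := ⟨_, rfl⟩
  obtain ⟨v, hv⟩ : ∃ v, v = B / (z 2 * σ (z 3)) := ⟨_, rfl⟩
  have hna : z 0 * σ (z 1) ≠ 0 := mul_ne_zero (hz 0) ((map_ne_zero σ).2 (hz 1))
  have hnc : z 2 * σ (z 3) ≠ 0 := mul_ne_zero (hz 2) ((map_ne_zero σ).2 (hz 3))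
  have hu1 : u * σ u = 1 := by
    rw [hu, map_div₀, hAσ, map_mul, invol hq, div_mul_div_comm, div_eq_one_iff_eq]
    · rw [hA]; linear_combination (z 0 * σ (z 0)) * h01
    · exact mul_ne_zero hna (mul_ne_zero ((map_ne_zero σ).2 (hz 0)) (hz 1))
  have hv1 : v * σ v = 1 := by
    rw [hv, map_div₀, hBσ, map_mul, invol hq, div_mul_div_comm, div_eq_one_iff_eq]
    · rw [hB]; linear_combination (z 2 * σ (z 2)) * h23
    · exact mul_ne_zero hnc (mul_ne_zero ((map_ne_zero σ).2 (hz 2)) (hz 3))
  have hua : z 0 * σ (z 1) * u = A := by rw [hu, mul_div_cancel₀ _ hna]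
  have hvc : z 2 * σ (z 3) * v = B := by rw [hv, mul_div_cancel₀ _ hnc]
  have hmul : ∀ {x y : F}, x * σ x = 1 → y * σ y = 1 → x * y * σ (x * y) = 1 := fun {x y} hx hy => by
    rw [map_mul]; linear_combination (y * σ y) * hx + hy
  by_cases hsk : ∃ i : F, i * σ i = 1 ∧ i + σ i = 0
  · obtain ⟨i, hi, hi0⟩ := hsk
    refine four_of_skew hq hq3 (hmul hu1 hi) (hmul hv1 hi) ?_ ?_
    · rw [← mul_assoc, hua, map_mul, hAσ]; linear_combination A * hi0
    · rw [← mul_assoc, hvc, map_mul, hBσ]; linear_combination B * hi0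
  push Not at hsk
  have h2 : (2 : F) ≠ 0 := fun h => hsk 1 (by simp) (by rw [map_one]; linear_combination h)
  -- solutions of the reduced equation
  have build : ∀ {x y : F}, x * σ x = 1 → y * σ y = 1 → A * (x + σ x) + B * (y + σ y) = 0 →
      IsSol σ z (pairD σ (u * x) (v * y)) := fun {x y} hx hy he => by
    refine isSol_pair hq (hmul hu1 hx) (hmul hv1 hy) ?_
    rw [← mul_assoc, hua, ← mul_assoc, hvc, map_mul, map_mul, hAσ, hBσ]
    linear_combination he
  have sep : ∀ {x y x' y' : F}, x * σ x = 1 → x' * σ x' = 1 → (x = x' → y ≠ y') → (x = -x' → y ≠ -y') →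
      ∀ s : F, pairD σ (u * x) (v * y) ≠ s • pairD σ (u * x') (v * y') := by
    intro x y x' y' hx hx' h1 h1' s e
    have hu0 : u ≠ 0 := left_ne_zero_of_mul (hu1.symm ▸ one_ne_zero)
    have hv0 : v ≠ 0 := left_ne_zero_of_mul (hv1.symm ▸ one_ne_zero)
    rcases pair_eq_smul hq (hmul hu1 hx) (hmul hu1 hx') e with ⟨a, b⟩ | ⟨a, b⟩
    · exact h1 (mul_left_cancel₀ hu0 a) (mul_left_cancel₀ hv0 b)
    · exact h1' (mul_left_cancel₀ hu0 (by rw [a, mul_neg])) (mul_left_cancel₀ hv0 (by rw [b, mul_neg]))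
  have nonreal : ∀ {x : F}, x * σ x = 1 → x ≠ 1 → x ≠ -1 → σ x ≠ x := fun {x} hx a b e => by
    rw [e, mul_self_eq_one_iff] at hx
    exact hx.elim a b
  have nskew : ∀ {x : F}, x * σ x = 1 → x ≠ -σ x := fun {x} hx e => hsk x hx (by linear_combination e)
  let S : Finset F := (Finset.univ.filter fun x : F => x * σ x = 1) \ {1, -1}
  have hS : ∀ {x}, x ∈ S → x * σ x = 1 ∧ x ≠ 1 ∧ x ≠ -1 := fun {x} hx => by simpa [S] using hx
  let R : F → Finset F := fun C => S.image fun x => C * (x + σ x)
  have hR : ∀ {C : F}, C ≠ 0 → q - 1 ≤ 2 * (R C).card := by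
    intro C hC
    have h1 : q - 1 ≤ S.card := by
      have := Finset.le_card_sdiff ({1, -1} : Finset F) (Finset.univ.filter fun x : F => x * σ x = 1)
      rw [card_norm_one hq] at this
      have h' := Finset.card_le_two (a := (1 : F)) (b := -1)
      simp only [S]; omega
    refine h1.trans (Finset.card_le_mul_card_image S 2 fun b hb => ?_)
    obtain ⟨x, hx, rfl⟩ := Finset.mem_image.1 hb
    refine (Finset.card_le_card (t := {x, σ x}) fun y hy => ?_).trans Finset.card_le_two
    simp only [Finset.mem_filter] at hy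
    obtain ⟨hy, he⟩ := hy
    have he' := mul_left_cancel₀ hC he
    have h0 : (y - x) * (y - σ x) = 0 := by linear_combination y * he' - (hS hy).1 + (hS hx).1
    simpa [sub_eq_zero] using h0
  have hRσ : ∀ {C : F}, σ C = C → C ≠ 0 → ∀ b ∈ R C, σ b = b ∧ b ≠ 0 := by
    intro C hC hC0 b hb
    obtain ⟨x, hx, rfl⟩ := Finset.mem_image.1 hb
    refine ⟨by rw [map_mul, map_add, hC, invol hq, add_comm], ?_⟩
    exact mul_ne_zero hC0 (hsk x (hS hx).1)
  by_cases hint : (R A ∩ R (-B)).Nonempty
  · obtain ⟨T, hT⟩ := hint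
    rw [Finset.mem_inter] at hT
    obtain ⟨x, hx, ex⟩ := Finset.mem_image.1 hT.1
    obtain ⟨y, hy, ey⟩ := Finset.mem_image.1 hT.2
    obtain ⟨hx1, hxa, hxb⟩ := hS hx
    obtain ⟨hy1, hya, hyb⟩ := hS hy
    have hx1' : σ x * σ (σ x) = 1 := by rw [invol hq, mul_comm]; exact hx1
    have hy1' : σ y * σ (σ y) = 1 := by rw [invol hq, mul_comm]; exact hy1
    have e0 : A * (x + σ x) + B * (y + σ y) = 0 := by linear_combination ex - ey
    have nx := nonreal hx1 hxa hxb
    have ny := nonreal hy1 hya hyb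
    refine ⟨![pairD σ (u * x) (v * y), pairD σ (u * x) (v * σ y), pairD σ (u * σ x) (v * y),
      pairD σ (u * σ x) (v * σ y)], fun k => ?_, fun k l hkl => ?_⟩
    · fin_cases k
      · exact build hx1 hy1 e0
      · exact build hx1 hy1' (by rw [invol hq]; linear_combination e0)
      · exact build hx1' hy1 (by rw [invol hq]; linear_combination e0)
      · exact build hx1' hy1' (by rw [invol hq, invol hq]; linear_combination e0)
    · have sx := nskew hx1; have sy := nskew hy1
      have sx' : σ x ≠ -x := fun e => sx (by rw [e, neg_neg])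
      have sy' : σ y ≠ -y := fun e => sy (by rw [e, neg_neg])
      have yy : y ≠ -y := fun e => (left_ne_zero_of_mul (hy1.symm ▸ one_ne_zero))
        ((mul_eq_zero.1 (show (2 : F) * y = 0 by linear_combination e)).resolve_left h2)
      have xx : x ≠ -x := fun e => (left_ne_zero_of_mul (hx1.symm ▸ one_ne_zero))
        ((mul_eq_zero.1 (show (2 : F) * x = 0 by linear_combination e)).resolve_left h2)
      have sxx : σ x ≠ -σ x := fun e => xx (σ.injective (by rw [map_neg]; exact e))
      have syy : σ y ≠ -σ y := fun e => yy (σ.injective (by rw [map_neg]; exact e))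
      fin_cases k <;> fin_cases l <;> first
        | exact absurd rfl hkl
        | (refine sep ?_ ?_ ?_ ?_ <;>
            first
            | exact hx1
            | exact hx1'
            | exact fun _ => ny
            | exact fun _ => ny.symm
            | exact fun e => absurd e nx
            | exact fun e => absurd e nx.symm
            | exact fun e => absurd e xx
            | exact fun e => absurd e sxx
            | exact fun e => absurd e sx
            | exact fun e => absurd e sx'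
            | exact fun _ => sy
            | exact fun _ => sy'
            | exact fun _ => yy
            | exact fun _ => syy)
  · rw [Finset.not_nonempty_iff_eq_empty] at hint
    have hB' : σ (-B) = -B := by rw [map_neg, hBσ]
    have hall : ∀ b : F, σ b = b → b ≠ 0 → b ∈ R A ∪ R (-B) := by
      intro b hb hb0
      by_contra hno
      have hsub : insert 0 (insert b (R A ∪ R (-B))) ⊆ Finset.univ.filter fun x : F => σ x = x := by
        intro x hx
        simp only [Finset.mem_insert, Finset.mem_union] at hx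
        rw [Finset.mem_filter]
        refine ⟨Finset.mem_univ _, ?_⟩
        rcases hx with rfl | rfl | h | h
        · exact map_zero σ
        · exact hb
        · exact (hRσ hAσ hA0 _ h).1
        · exact (hRσ hB' (neg_ne_zero.2 hB0) _ h).1
      have h0 : (0 : F) ∉ insert b (R A ∪ R (-B)) := by
        simp only [Finset.mem_insert, Finset.mem_union, not_or]
        exact ⟨hb0.symm, fun h => (hRσ hAσ hA0 _ h).2 rfl, fun h => (hRσ hB' (neg_ne_zero.2 hB0) _ h).2 rfl⟩
      have h1 := (Finset.card_le_card hsub).trans (card_fixed_le hq)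
      rw [Finset.card_insert_of_notMem h0, Finset.card_insert_of_notMem hno] at h1
      have h3 := Finset.card_union_add_card_inter (R A) (R (-B))
      rw [hint, Finset.card_empty] at h3
      have := hR hA0; have := hR (neg_ne_zero.2 hB0)
      omega
    have self : ∀ {C : F}, C ≠ 0 → 2 * C ∉ R C ∧ -(2 * C) ∉ R C := by
      intro C hC
      refine ⟨fun h => ?_, fun h => ?_⟩ <;> obtain ⟨x, hx, e⟩ := Finset.mem_image.1 h <;>
        obtain ⟨hx1, hxa, hxb⟩ := hS hx
      · refine hxa (sub_eq_zero.1 (mul_self_eq_zero.1 ?_))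
        have := mul_left_cancel₀ hC (show C * (x + σ x) = C * 2 by linear_combination e)
        linear_combination x * this - hx1
      · refine hxb (eq_neg_of_add_eq_zero_left (mul_self_eq_zero.1 ?_))
        have := mul_left_cancel₀ hC (show C * (x + σ x) = C * (-2) by linear_combination e)
        linear_combination x * this - hx1
    have hA2 : 2 * A ∈ R (-B) := (Finset.mem_union.1 (hall _ (by rw [map_mul, map_ofNat, hAσ])
      (mul_ne_zero h2 hA0))).resolve_left (self hA0).1
    have hB2 : -(2 * B) ∈ R A := (Finset.mem_union.1 (hall _ (by rw [map_neg, map_mul, map_ofNat, hBσ])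
      (neg_ne_zero.2 (mul_ne_zero h2 hB0)))).resolve_right (by
        have := (self (neg_ne_zero.2 hB0)).1
        rwa [mul_neg] at this)
    obtain ⟨y, hy, ey⟩ := Finset.mem_image.1 hA2
    obtain ⟨x, hx, ex⟩ := Finset.mem_image.1 hB2
    obtain ⟨hx1, hxa, hxb⟩ := hS hx
    obtain ⟨hy1, hya, hyb⟩ := hS hy
    have hx1' : σ x * σ (σ x) = 1 := by rw [invol hq, mul_comm]; exact hx1
    have hy1' : σ y * σ (σ y) = 1 := by rw [invol hq, mul_comm]; exact hy1
    have hone : (1 : F) * σ 1 = 1 := by rw [map_one, mul_one]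
    have nx := nonreal hx1 hxa hxb
    have ny := nonreal hy1 hya hyb
    refine ⟨![pairD σ (u * 1) (v * y), pairD σ (u * 1) (v * σ y), pairD σ (u * x) (v * 1),
      pairD σ (u * σ x) (v * 1)], fun k => ?_, fun k l hkl => ?_⟩
    · fin_cases k
      · exact build hone hy1 (by rw [map_one]; linear_combination -ey)
      · exact build hone hy1' (by rw [map_one, invol hq]; linear_combination -ey)
      · exact build hx1 hone (by rw [map_one]; linear_combination ex)
      · exact build hx1' hone (by rw [map_one, invol hq]; linear_combination ex)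
    · have p1 : σ x ≠ 1 := fun e => hxa (by rw [← invol hq x, e, map_one])
      have p2 : σ x ≠ -1 := fun e => hxb (by rw [← invol hq x, e, map_neg, map_one])
      have p3 : (1 : F) ≠ -1 := fun e => h2 (by linear_combination e)
      have q1 : (1 : F) ≠ -x := fun e => hxb (by rw [e, neg_neg])
      have q2 : (1 : F) ≠ -σ x := fun e => p2 (by rw [e, neg_neg])
      have q3 : x ≠ -σ x := nskew hx1
      have q4 : σ x ≠ -x := fun e => q3 (by rw [e, neg_neg])
      fin_cases k <;> fin_cases l <;> first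
        | exact absurd rfl hkl
        | (refine sep ?_ ?_ ?_ ?_ <;>
            first
            | exact hx1
            | exact hx1'
            | exact hone
            | exact fun _ => ny
            | exact fun _ => ny.symm
            | exact fun e => absurd e nx
            | exact fun e => absurd e nx.symm
            | exact fun e => absurd e hxa
            | exact fun e => absurd e hxa.symm
            | exact fun e => absurd e hxb
            | exact fun e => absurd e p1
            | exact fun e => absurd e p1.symm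
            | exact fun e => absurd e p2
            | exact fun e => absurd e p3
            | exact fun e => absurd e q1
            | exact fun e => absurd e q2
            | exact fun e => absurd e q3
            | exact fun e => absurd e q4)

/-- Two solutions, or four. -/
theorem two_or_four {z : Fin 4 → F} (hz : ∀ i, z i ≠ 0) : HasFour σ z ∨
    ∃ D D' : Fin 4 → F, IsSol σ z D ∧ IsSol σ z D' ∧ ∀ s : F, D ≠ s • D' := by
  classical
  obtain ⟨a, ha⟩ : ∃ a, a = z 0 * σ (z 1) := ⟨_, rfl⟩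
  obtain ⟨c, hc⟩ : ∃ c, c = z 2 * σ (z 3) := ⟨_, rfl⟩
  have ha0 : a ≠ 0 := ha ▸ mul_ne_zero (hz 0) ((map_ne_zero σ).2 (hz 1))
  have hc0 : c ≠ 0 := hc ▸ mul_ne_zero (hz 2) ((map_ne_zero σ).2 (hz 3))
  by_cases hfam : ∃ ν ν', ν * σ ν = 1 ∧ ν' * σ ν' = 1 ∧ a * ν + σ (a * ν) = 0 ∧ c * ν' + σ (c * ν') = 0
  · obtain ⟨ν, ν', h, h', e, e'⟩ := hfam
    subst ha hc
    exact Or.inl (four_of_skew hq hq3 h h' e e')
  have h2 : (2 : F) ≠ 0 := by
    intro h2
    haveI : CharP F 2 := CharTwo.of_one_ne_zero_of_two_eq_zero one_ne_zero h2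
    have key : ∀ b : F, b ≠ 0 → ∃ ν, ν * σ ν = 1 ∧ b * ν + σ (b * ν) = 0 := by
      intro b hb
      obtain ⟨ν, hν⟩ := isSquare_of_charTwo' (σ b / b)
      have hb' : σ b ≠ 0 := (map_ne_zero σ).2 hb
      have hν1 : ν * σ ν = 1 := by
        have : (ν * σ ν) * (ν * σ ν) = 1 := by
          calc (ν * σ ν) * (ν * σ ν) = (ν * ν) * σ (ν * ν) := by rw [map_mul]; ring
            _ = 1 := by rw [← hν, map_div₀, invol hq]; field_simp
        rcases mul_self_eq_one_iff.1 this with h | h
        · exact h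
        · rw [h]; linear_combination -h2
      refine ⟨ν, hν1, ?_⟩
      have e : b * ν * ν = σ b := by rw [mul_assoc, ← hν, mul_div_cancel₀ _ hb]
      rw [map_mul, ← e]
      linear_combination (b * ν) * hν1 + (b * ν) * h2
    obtain ⟨ν, h, e⟩ := key a ha0
    obtain ⟨ν', h', e'⟩ := key c hc0
    exact hfam ⟨ν, ν', h, h', e, e'⟩
  right
  let U : Finset F := Finset.univ.filter fun x : F => x * σ x = 1
  have hcard : ∀ {b : F}, b ≠ 0 → q + 1 ≤ 2 * (U.image fun x => b * x + σ (b * x)).card := by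
    intro b hb
    rw [← card_norm_one hq]
    refine Finset.card_le_mul_card_image U 2 fun t ht => ?_
    obtain ⟨x, hx, rfl⟩ := Finset.mem_image.1 ht
    refine (Finset.card_le_card (t := {x, σ (b * x) / b}) fun y hy => ?_).trans Finset.card_le_two
    simp only [U, Finset.mem_filter, Finset.mem_univ, true_and] at hx hy
    have h0 : (b * y - b * x) * (b * y - σ (b * x)) = 0 := by
      obtain ⟨hy1, he⟩ := hy
      simp only [map_mul] at he ⊢
      linear_combination (b * y) * he - (b * σ b) * hy1 + (b * σ b) * hx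
    rcases mul_eq_zero.1 h0 with h | h
    · simp [mul_left_cancel₀ hb (sub_eq_zero.1 h)]
    · simp [← sub_eq_zero.1 h, hb]
  have hfix : ∀ b : F, (U.image fun x => b * x + σ (b * x)) ⊆ Finset.univ.filter fun x : F => σ x = x := by
    intro b t ht
    obtain ⟨x, -, rfl⟩ := Finset.mem_image.1 ht
    simp [map_add, invol hq, add_comm]
  obtain ⟨t, ht⟩ : ((U.image fun x => a * x + σ (a * x)) ∩ (U.image fun x => (-c) * x + σ ((-c) * x))).Nonempty := by
    rw [← Finset.card_pos]
    have h1 := Finset.card_union_add_card_inter (U.image fun x => a * x + σ (a * x))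
      (U.image fun x => (-c) * x + σ ((-c) * x))
    have h3 := (Finset.card_le_card (Finset.union_subset (hfix a) (hfix (-c)))).trans (card_fixed_le hq)
    have := hcard ha0; have := hcard (neg_ne_zero.2 hc0)
    omega
  obtain ⟨ν, ν', h, h', e⟩ : ∃ ν ν', ν * σ ν = 1 ∧ ν' * σ ν' = 1 ∧
      a * ν + σ (a * ν) + (c * ν' + σ (c * ν')) = 0 := by
    obtain ⟨x, hx, ex⟩ := Finset.mem_image.1 (Finset.mem_inter.1 ht).1
    obtain ⟨y, hy, ey⟩ := Finset.mem_image.1 (Finset.mem_inter.1 ht).2
    simp only [U, Finset.mem_filter, Finset.mem_univ, true_and] at hx hy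
    refine ⟨x, y, hx, hy, ?_⟩
    rw [neg_mul, map_neg] at ey
    linear_combination ex - ey
  -- some solution is not real
  obtain ⟨μ, μ', g, g', eg, hreal⟩ : ∃ μ μ', μ * σ μ = 1 ∧ μ' * σ μ' = 1 ∧
      a * μ + σ (a * μ) + (c * μ' + σ (c * μ')) = 0 ∧ (σ (a * μ) ≠ a * μ ∨ σ (c * μ') ≠ c * μ') := by
    by_cases hr : σ (a * ν) ≠ a * ν ∨ σ (c * ν') ≠ c * ν'
    · exact ⟨ν, ν', h, h', e, hr⟩
    push Not at hr
    obtain ⟨ω, hω, hord⟩ := exists_xi hq
    have hcv : c * ν' = -(a * ν) := by
      rw [hr.1, hr.2] at e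
      exact mul_left_cancel₀ h2 (by linear_combination e)
    refine ⟨ν * ω, ν' * ω, by rw [map_mul]; linear_combination (ω * σ ω) * h + hω,
      by rw [map_mul]; linear_combination (ω * σ ω) * h' + hω, ?_, Or.inl fun he => ?_⟩
    · rw [show c * (ν' * ω) = -(a * (ν * ω)) by linear_combination ω * hcv, map_neg]; ring
    · rw [← mul_assoc, map_mul, hr.1] at he
      have hav : a * ν ≠ 0 := mul_ne_zero ha0 (left_ne_zero_of_mul (h.symm ▸ one_ne_zero))
      rw [mul_left_cancel₀ hav he, ← sq] at hω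
      have := Nat.le_of_dvd two_pos ((hord 2).1 hω)
      omega
  have conjsol : ∀ {b x : F}, b ≠ 0 → x * σ x = 1 →
      σ (b * x) / b * σ (σ (b * x) / b) = 1 ∧ b * (σ (b * x) / b) = σ (b * x) := by
    intro b x hb hx
    refine ⟨?_, mul_div_cancel₀ _ hb⟩
    rw [map_div₀, invol hq, div_mul_div_comm, div_eq_one_iff_eq (mul_ne_zero hb ((map_ne_zero σ).2 hb)), map_mul]
    linear_combination (b * σ b) * hx
  subst ha hc
  rcases hreal with hr | hr
  · obtain ⟨n1, n2⟩ := conjsol ha0 g
    refine ⟨_, _, isSol_pair hq g g' eg, isSol_pair hq n1 g' (by rw [n2, invol hq]; linear_combination eg),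
      fun s es => ?_⟩
    rcases pair_eq_smul hq g n1 es with ⟨e1, -⟩ | ⟨e1, e2⟩
    · exact hr (by rw [← n2, ← e1])
    · exact h2 (mul_left_cancel₀ (left_ne_zero_of_mul (g'.symm ▸ one_ne_zero))
        (show μ' * 2 = μ' * 0 by linear_combination e2))
  · obtain ⟨n1, n2⟩ := conjsol hc0 g'
    refine ⟨_, _, isSol_pair hq g g' eg, isSol_pair hq g n1 (by rw [n2, invol hq]; linear_combination eg),
      fun s es => ?_⟩
    rcases pair_eq_smul hq g g es with ⟨-, e1⟩ | ⟨e1, -⟩
    · exact hr (by rw [← n2, ← e1])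
    · exact h2 (mul_left_cancel₀ (left_ne_zero_of_mul (g.symm ▸ one_ne_zero))
        (show μ * 2 = μ * 0 by linear_combination e1))

end Cfsg.Agent.MaxCl.SU4.Frame
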