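/-
Overgroups of the monomial group in dimension four: coordinates and rotations about pairs of columns.
-/
import Cfsg.Agent.Lib.MaxCl.SU4.FrameTrace
import Cfsg.Agent.Lib.MaxCl.UnitaryCross

set_option autoImplicit false
set_option linter.unusedSectionVars false

namespace Cfsg.Agent.MaxCl.SU4.Frame

open scoped MatrixGroups Matrix
open Unit

variable {F : Type*} [Field F] [Fintype F] {σ : F ≃+* F} {q : ℕ} {M : Subgroup (GL (Fin 4) F)}

/-- The standing hypotheses. -/
structure Fr (σ : F ≃+* F) (q : ℕ) (M : Subgroup (GL (Fin 4) F)) : Prop where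
  hq : QSq σ q
  hU : Cfsg.Geo.IsUnitaryForm σ (herm (ι := Fin 4) σ)
  le : M ≤ SUc σ
  mono_le : ∀ g ∈ SUc (ι := Fin 4) σ, IsMono g → g ∈ M

/-- Every column is a multiple of a coordinate vector. -/
theorem isMono_of_cols {g : GL (Fin 4) F}
    (h : ∀ j, ∃ (i : Fin 4) (s : F), act g (Pi.single j 1) = s • Pi.single i 1) : IsMono g := by
  intro j
  obtain ⟨i, s, e⟩ := h j
  refine (Finset.card_le_card (t := {i}) fun k hk => ?_).trans (Finset.card_singleton i).le
  rw [mem_supp, e] at hk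
  by_contra hne
  simp only [Finset.mem_singleton] at hne
  simp [hne] at hk

theorem supp_subset_of_zero {x : Fin 4 → F} {i : Fin 4} (h : x i = 0) : supp x ⊆ Finset.univ.erase i := by
  intro k hk
  rw [mem_supp] at hk
  exact Finset.mem_erase.2 ⟨fun e => hk (e ▸ h), Finset.mem_univ k⟩

namespace Fr

variable (C : Fr σ q M)
include C

theorem iso {g : GL (Fin 4) F} (hg : g ∈ M) : g ∈ uiso (herm (ι := Fin 4) σ) := (C.le hg).1

theorem single_right (x : Fin 4 → F) (i : Fin 4) : herm σ x (Pi.single i 1) = x i := by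
  rw [herm, Finset.sum_eq_single i (fun j _ hj => by simp [hj]) (by simp)]
  simp

theorem single_left (x : Fin 4 → F) (i : Fin 4) : herm σ (Pi.single i 1) x = σ (x i) := by
  rw [herm, Finset.sum_eq_single i (fun j _ hj => by simp [hj]) (by simp)]
  simp

theorem col_norm {g : GL (Fin 4) F} (hg : g ∈ M) (a b : Fin 4) :
    herm σ (act g (Pi.single a 1)) (act g (Pi.single b 1)) = if a = b then 1 else 0 := by
  rw [mem_uiso.1 (C.iso hg), C.single_left]
  by_cases h : a = b
  · subst h; simp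
  · simp [h]

theorem norm_one_ne {d : F} (hd : d * σ d = 1) : d ≠ 0 := left_ne_zero_of_mul (hd.symm ▸ one_ne_zero)

theorem coord_inv {g : GL (Fin 4) F} (hg : g ∈ M) (z : Fin 4 → F) (a : Fin 4) :
    act g⁻¹ z a = herm σ z (act g (Pi.single a 1)) := by
  rw [← C.single_right (act g⁻¹ z) a, ← mem_uiso.1 (C.iso hg), act_act_inv]

theorem expand {g : GL (Fin 4) F} (hg : g ∈ M) (z : Fin 4 → F) :
    z = ∑ c, herm σ z (act g (Pi.single c 1)) • act g (Pi.single c 1) := by
  conv_lhs => rw [← act_act_inv g z, Monom.eq_sum_single (act g⁻¹ z), map_sum]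
  exact Finset.sum_congr rfl fun c _ => by rw [map_smul, C.coord_inv hg]

/-- A monomial element. -/
theorem exists_mono (π : Equiv.Perm (Fin 4)) (d : Fin 4 → F) (hd : ∀ j, d j * σ (d j) = 1)
    (hdet : ((Equiv.Perm.sign π : ℤ) : F) * ∏ j, d j = 1) :
    ∃ n ∈ M, (∀ j, act n (Pi.single j 1) = d j • Pi.single (π j) 1) ∧ ∀ x j, act n x (π j) = d j * x j := by
  obtain ⟨g, hg, -, hgd⟩ := Monom.exists_pm π d fun j => C.norm_one_ne (hd j)
  refine ⟨g, C.mono_le g ⟨mem_uiso.2 fun x y => ?_, Monom.mem_specialLinear_iff.2 (hgd.trans hdet)⟩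
    (isMono_of_cols fun j => ⟨_, _, hg j⟩), hg, fun x j => Monom.act_mono_coord hg x j⟩
  rw [herm, herm, ← Equiv.sum_comp π]
  refine Finset.sum_congr rfl fun j _ => ?_
  rw [Monom.act_mono_coord hg, Monom.act_mono_coord hg, map_mul]
  linear_combination (x j * σ (y j)) * hd j

theorem exists_diag (d : Fin 4 → F) (hd : ∀ j, d j * σ (d j) = 1) (hdet : ∏ j, d j = 1) :
    ∃ t ∈ M, (∀ j, act t (Pi.single j 1) = d j • Pi.single j 1) ∧ ∀ x j, act t x j = d j * x j :=
  C.exists_mono 1 d hd (by simp [hdet])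

/-- A permutation with one compensating sign. -/
theorem exists_perm (π : Equiv.Perm (Fin 4)) : ∃ n ∈ M, ∃ d : Fin 4 → F, (∀ j, d j * σ (d j) = 1) ∧
    (∀ j, act n (Pi.single j 1) = d j • Pi.single (π j) 1) ∧ ∀ x j, act n x (π j) = d j * x j := by
  obtain ⟨s, hs⟩ : ∃ s : F, s = ((Equiv.Perm.sign π : ℤ) : F) := ⟨_, rfl⟩
  have hs1 : s * s = 1 ∧ σ s = s := by
    rcases Int.units_eq_one_or (Equiv.Perm.sign π) with h | h <;> simp [hs, h]
  obtain ⟨n, hn, h1, h2⟩ := C.exists_mono π (fun j => if j = 0 then s else 1) (fun j => by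
      split_ifs
      · rw [hs1.2, hs1.1]
      · simp) (by
      rw [Finset.prod_eq_single 0 (fun j _ hj => by simp [hj]) (by simp)]
      simp [← hs, hs1.1])
  exact ⟨n, hn, _, fun j => by
    split_ifs
    · rw [hs1.2, hs1.1]
    · simp, h1, h2⟩

/-- Phases at two coordinates. -/
theorem exists_phase {i l : Fin 4} (hil : i ≠ l) {γ : F} (hγ : γ * σ γ = 1) :
    ∃ t ∈ M, ∀ x j, act t x j = (if j = i then γ else if j = l then σ γ else 1) * x j := by
  obtain ⟨t, ht, -, hx⟩ := C.exists_diag (fun j => if j = i then γ else if j = l then σ γ else 1)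
    (fun j => by
      split_ifs
      · exact hγ
      · rw [invol C.hq, mul_comm, hγ]
      · simp)
    (by
      rw [Finset.prod_eq_mul i l hil (fun j _ hj => by simp [hj.1, hj.2]) (by simp) (by simp)]
      simp [hil.symm, hγ])
  exact ⟨t, ht, hx⟩

/-- Opposite rotations about two columns. -/
theorem exists_rot {g : GL (Fin 4) F} (hg : g ∈ M) {a c : Fin 4} (hac : a ≠ c) {γ : F} (hγ : γ * σ γ = 1) :
    ∃ h ∈ M, ∀ z, act h z = z + ((γ - 1) * herm σ z (act g (Pi.single a 1))) • act g (Pi.single a 1) +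
      ((σ γ - 1) * herm σ z (act g (Pi.single c 1))) • act g (Pi.single c 1) := by
  obtain ⟨t, ht, hx⟩ := C.exists_phase hac hγ
  refine ⟨g * t * g⁻¹, M.mul_mem (M.mul_mem hg ht) (M.inv_mem hg), fun z => ?_⟩
  have e : act t (act g⁻¹ z) = act g⁻¹ z + ((γ - 1) * act g⁻¹ z a) • Pi.single a 1 +
      ((σ γ - 1) * act g⁻¹ z c) • Pi.single c 1 := by
    funext j
    rw [hx]
    rcases eq_or_ne j a with rfl | hja
    · simp [hac]; ring
    rcases eq_or_ne j c with rfl | hjc
    · simp [hja]; ring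
    · simp [hja, hjc]
  rw [act_mul, act_mul, e, map_add, map_add, map_smul, map_smul, act_act_inv, C.coord_inv hg, C.coord_inv hg]

theorem self_eq (x : Fin 4 → F) : herm σ x x = x 0 * σ (x 0) + x 1 * σ (x 1) + x 2 * σ (x 2) + x 3 * σ (x 3) := by
  rw [herm, Fin.sum_univ_four]

theorem col_ne {g : GL (Fin 4) F} (hg : g ∈ M) (a : Fin 4) : ∃ k, act g (Pi.single a 1) k ≠ 0 := by
  by_contra h
  push Not at h
  have := C.col_norm hg a a
  rw [if_pos rfl, C.self_eq] at this
  simp [h] at this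

theorem mono_col {g : GL (Fin 4) F} (hg : g ∈ M) {a : Fin 4} (h : (supp (act g (Pi.single a 1))).card ≤ 1) :
    ∃ (l : Fin 4) (s : F), s * σ s = 1 ∧ act g (Pi.single a 1) = s • Pi.single l 1 := by
  obtain ⟨l, hl⟩ := C.col_ne hg a
  have hz : ∀ k, k ≠ l → act g (Pi.single a 1) k = 0 := fun k hk => by
    by_contra h'
    exact hk (Finset.card_le_one.1 h k (mem_supp.2 h') l (mem_supp.2 hl))
  have e : act g (Pi.single a 1) = act g (Pi.single a 1) l • Pi.single l 1 := funext fun k => by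
    by_cases hk : k = l
    · subst hk; simp
    · simp [hz k hk, hk]
  refine ⟨l, _, ?_, e⟩
  have := C.col_norm hg a a
  rw [if_pos rfl, e, smul_left C.hU, smul_right C.hU, C.single_left, Pi.single_eq_same, map_one, mul_one] at this
  exact this

/-- The coordinate `l` occurs in some column. -/
theorem exists_col {g : GL (Fin 4) F} (hg : g ∈ M) (l : Fin 4) : ∃ c, act g (Pi.single c 1) l ≠ 0 := by
  by_contra h
  push Not at h
  have e := congrFun (C.expand hg (Pi.single l 1)) l
  simp [Finset.sum_apply, h] at e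

theorem row_norm {g : GL (Fin 4) F} (hg : g ∈ M) (l : Fin 4) :
    ∑ c, act g (Pi.single c 1) l * σ (act g (Pi.single c 1) l) = 1 := by
  have e := congrFun (C.expand hg (Pi.single l 1)) l
  simp only [Finset.sum_apply, Pi.smul_apply, smul_eq_mul, C.single_left, Pi.single_eq_same] at e
  exact (Finset.sum_congr rfl fun c _ => mul_comm _ _).trans e.symm

end Fr

end Cfsg.Agent.MaxCl.SU4.Frame
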