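/-
A group of isometries of a unitary plane with a full rotation about one point and one element moving that point to a
point in general position is transitive on the anisotropic points: its order exceeds half of the order of the
unitary group of the plane.
-/
import Cfsg.Agent.Lib.MaxCl.SU4.FrameBase
import Cfsg.Agent.Lib.Forms.Herm
import Cfsg.Agent.Lib.MaxCl.SympSwap

set_option autoImplicit false
set_option linter.unusedSectionVars false

namespace Cfsg.Agent.MaxCl.SU4.Frame

open scoped MatrixGroups Matrix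
open Unit

variable {F : Type*} [Field F] [Fintype F] {σ : F ≃+* F} {q : ℕ} {ι : Type} [Fintype ι] [DecidableEq ι]
  {f : (ι → F) → (ι → F) → F}

/-- The plane spanned by two vectors. -/
def comb (u w : ι → F) (v : Fin 2 → F) : ι → F := v 0 • u + v 1 • w

theorem plane_trans (hq : QSq σ q) (hU : Cfsg.Geo.IsUnitaryForm σ f) (H : Subgroup (GL ι F)) (hH : H ≤ uiso f)
    {u w : ι → F} (huu : f u u = 1) (hww : f w w = 1) (huw : f u w = 0)
    (ht : ∀ γ, γ * σ γ = 1 → ∃ t ∈ H, act t u = γ • u ∧ act t w = w)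
    {m₀ : GL ι F} (hm₀ : m₀ ∈ H) {a b a₂ b₂ : F} (ha : a ≠ 0) (hb : b ≠ 0)
    (e₁ : act m₀ u = a • u + b • w) (e₂ : act m₀ w = a₂ • u + b₂ • w)
    {c d : F} (hcd : c * σ c + d * σ d = 1) : ∃ m ∈ H, ∃ s : F, s ≠ 0 ∧ act m u = s • (c • u + d • w) := by
  classical
  have hi := invol hq
  have hwu : f w u = 0 := eq_zero_symm hU huw
  have hF2 : ∀ x y : Fin 2 → F, Cfsg.hermForm 2 F q x y = x 0 * σ (y 0) + x 1 * σ (y 1) := fun x y => by
    simp [Cfsg.hermForm, hq.apply_eq]
  have hcomb : ∀ x y, f (comb u w x) (comb u w y) = Cfsg.hermForm 2 F q x y := fun x y => by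
    rw [hF2]
    simp only [comb, add_left hU, add_right hU, smul_left hU, smul_right hU, huu, hww, huw, hwu]
    ring
  let K : Subgroup (GL (Fin 2) F) :=
    { carrier := {k | k ∈ Cfsg.GU 2 F q ∧
        ∃ m ∈ H, ∃ s : F, s * σ s = 1 ∧ ∀ v, act m (comb u w v) = s • comb u w (act k v)}
      one_mem' := ⟨one_mem _, 1, H.one_mem, 1, by simp, fun v => by simp [act_one]⟩
      mul_mem' := by
        rintro k k' ⟨hk, m, hm, s, hs, e⟩ ⟨hk', m', hm', s', hs', e'⟩
        refine ⟨Subgroup.mul_mem _ hk hk', m * m', H.mul_mem hm hm', s * s',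
          by rw [map_mul]; linear_combination (s' * σ s') * hs + hs', fun v => ?_⟩
        rw [act_mul, e', map_smul, e, smul_smul, act_mul, mul_comm s']
      inv_mem' := by
        rintro k ⟨hk, m, hm, s, hs, e⟩
        refine ⟨Subgroup.inv_mem _ hk, m⁻¹, H.inv_mem hm, σ s, by rw [hi, mul_comm, hs], fun v => ?_⟩
        apply act_injective m
        rw [act_act_inv, map_smul, e, act_act_inv, smul_smul, mul_comm, hs, one_smul] }
  have hKle : K ≤ Cfsg.GU 2 F q := fun k hk => hk.1
  have gu_of : ∀ {k : GL (Fin 2) F} {m : GL ι F} {s : F}, m ∈ H → s * σ s = 1 →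
      (∀ v, act m (comb u w v) = s • comb u w (act k v)) → k ∈ K := by
    intro k m s hm hs e
    refine ⟨fun x y => ?_, m, hm, s, hs, e⟩
    change Cfsg.hermForm 2 F q (act k x) (act k y) = Cfsg.hermForm 2 F q x y
    rw [← hcomb x y, ← mem_uiso.1 (hH hm), e, e, smul_left hU, smul_right hU, hcomb]
    linear_combination (-(Cfsg.hermForm 2 F q (act k x) (act k y))) * hs
  -- diagonal elements
  have hD : ∀ γ₁ γ₂ : F, γ₁ * σ γ₁ = 1 → γ₂ * σ γ₂ = 1 →
      ∃ k ∈ K, ∀ v, act k v = ![γ₁ * v 0, γ₂ * v 1] := by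
    intro γ₁ γ₂ h₁ h₂
    obtain ⟨k, hk, -, -⟩ := Monom.exists_pm (1 : Equiv.Perm (Fin 2)) ![γ₁, γ₂] (fun j => by
      fin_cases j
      · simpa using left_ne_zero_of_mul (h₁.symm ▸ one_ne_zero)
      · simpa using left_ne_zero_of_mul (h₂.symm ▸ one_ne_zero))
    have hk' : ∀ v, act k v = ![γ₁ * v 0, γ₂ * v 1] := fun v => funext fun j => by
      have := Monom.act_mono_coord hk v j
      simp only [Equiv.Perm.one_apply] at this
      rw [this]
      fin_cases j <;> simp
    obtain ⟨t, ht', t1, t2⟩ := ht (γ₁ * σ γ₂) (by rw [map_mul, hi]; linear_combination (γ₂ * σ γ₂) * h₁ + h₂)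
    refine ⟨k, gu_of ht' (s := σ γ₂) (by rw [hi, mul_comm, h₂]) (fun v => ?_), hk'⟩
    rw [hk', comb, comb, map_add, map_smul, map_smul, t1, t2]
    simp only [Matrix.cons_val_zero, Matrix.cons_val_one, smul_add, smul_smul]
    congr 2
    · ring
    · linear_combination (-(v 1)) * h₂
  -- the matrix of `m₀`
  have f11 : a * σ a + b * σ b = 1 := by
    have := mem_uiso.1 (hH hm₀) u u
    simp only [e₁, add_left hU, add_right hU, smul_left hU, smul_right hU, huu, hww, huw, hwu] at this
    linear_combination this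
  have f22 : a₂ * σ a₂ + b₂ * σ b₂ = 1 := by
    have := mem_uiso.1 (hH hm₀) w w
    simp only [e₂, add_left hU, add_right hU, smul_left hU, smul_right hU, huu, hww, huw, hwu] at this
    linear_combination this
  have f12 : a * σ a₂ + b * σ b₂ = 0 := by
    have := mem_uiso.1 (hH hm₀) u w
    simp only [e₁, e₂, add_left hU, add_right hU, smul_left hU, smul_right hU, huu, hww, huw, hwu] at this
    linear_combination this
  have f21 : a₂ * σ a + b₂ * σ b = 0 := by
    have := congrArg σ f12
    rw [map_add, map_mul, map_mul, hi, hi, map_zero] at this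
    linear_combination this
  have ha₂ : a₂ * σ a₂ = b * σ b := by
    linear_combination (b * σ b) * f22 - (a₂ * σ a₂) * f11 + (a₂ * σ a) * f12 - (b * σ b₂) * f21
  have ha₂0 : a₂ ≠ 0 := by
    intro h
    rw [h, zero_mul] at ha₂
    exact mul_ne_zero hb ((map_ne_zero σ).2 hb) ha₂.symm
  let L : (Fin 2 → F) →ₗ[F] (Fin 2 → F) :=
    { toFun := fun v => ![a * v 0 + a₂ * v 1, b * v 0 + b₂ * v 1]
      map_add' := fun x y => by funext j; fin_cases j <;> simp <;> ring
      map_smul' := fun r x => by funext j; fin_cases j <;> simp <;> ring }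
  have hLc : ∀ v, act m₀ (comb u w v) = comb u w (L v) := fun v => by
    simp only [comb, map_add, map_smul, e₁, e₂, L, LinearMap.coe_mk, AddHom.coe_mk, Matrix.cons_val_zero,
      Matrix.cons_val_one]
    module
  have hLi : Function.Injective L := by
    intro x y h
    have hc : comb u w x = comb u w y := act_injective m₀ (by rw [hLc, hLc, h])
    funext j
    have e0 := congrArg (fun v => f v u) hc
    have e1 := congrArg (fun v => f v w) hc
    simp only [comb, add_left hU, smul_left hU, huu, hwu, huw, hww] at e0 e1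
    fin_cases j
    · simpa using e0
    · simpa using e1
  obtain ⟨k₀, hk₀⟩ := exists_gl_of_injective L hLi
  have hk₀K : k₀ ∈ K := gu_of hm₀ (s := 1) (by simp) fun v => by rw [hk₀, one_smul, hLc]
  -- first columns of products
  let μ : Finset F := Finset.univ.filter fun z : F => z * σ z = 1
  have hμ : ∀ {z}, z ∈ μ → z * σ z = 1 := fun {z} hz => (Finset.mem_filter.1 hz).2
  choose D hDK hDv using hD
  let N : GL (Fin 2) F → F := fun k => act k (Pi.single 0 1) 0 * σ (act k (Pi.single 0 1) 0)
  let KF : Finset (GL (Fin 2) F) := Finset.univ.filter fun k => k ∈ K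
  let fib : F → Finset (GL (Fin 2) F) := fun r => KF.filter fun k => N k = r
  have col_id : ∀ {k : GL (Fin 2) F}, k ∈ K → N k + act k (Pi.single 0 1) 1 * σ (act k (Pi.single 0 1) 1) = 1 := by
    intro k hk
    have := hk.1 (Pi.single 0 1) (Pi.single 0 1)
    change Cfsg.hermForm 2 F q (act k _) (act k _) = _ at this
    rw [hF2, hF2] at this
    simpa [N] using this
  -- all of a fibre by the diagonal elements
  have big : ∀ {k : GL (Fin 2) F}, k ∈ K → N k ≠ 0 → N k ≠ 1 → (q + 1) ^ 3 ≤ (fib (N k)).card := by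
    intro k hk h0 h1
    have hx0 : act k (Pi.single 0 1) 0 ≠ 0 := left_ne_zero_of_mul h0
    have hx1 : act k (Pi.single 0 1) 1 ≠ 0 := fun h => h1 (by
      have := col_id hk; rwa [h, zero_mul, add_zero] at this)
    rw [show (q + 1) ^ 3 = (μ ×ˢ μ ×ˢ μ).card by
      rw [Finset.card_product, Finset.card_product, card_norm_one hq]; ring]
    refine Finset.card_le_card_of_injOn (fun p => if h : p.1 * σ p.1 = 1 ∧ p.2.1 * σ p.2.1 = 1 ∧ p.2.2 * σ p.2.2 = 1
      then D p.1 p.2.1 h.1 h.2.1 * k * D 1 p.2.2 (by simp) h.2.2 else 1) (fun p hp => ?_) (fun p hp p' hp' he => ?_)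
    · simp only [Finset.mem_coe, Finset.mem_product] at hp
      beta_reduce
      rw [dif_pos ⟨hμ hp.1, hμ hp.2.1, hμ hp.2.2⟩]
      simp only [Finset.mem_coe, fib, KF, Finset.mem_filter, Finset.mem_univ, true_and]
      refine ⟨K.mul_mem (K.mul_mem (hDK _ _ _ _) hk) (hDK _ _ _ _), ?_⟩
      simp only [N, act_mul, hDv]
      have e : (![1 * (Pi.single 0 1 : Fin 2 → F) 0, p.2.2 * (Pi.single 0 1 : Fin 2 → F) 1] : Fin 2 → F) =
          Pi.single 0 1 := by funext j; fin_cases j <;> simp
      rw [e, Matrix.cons_val_zero, map_mul]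
      linear_combination (act k (Pi.single 0 1) 0 * σ (act k (Pi.single 0 1) 0)) * hμ hp.1
    · simp only [Finset.mem_coe, Finset.mem_product] at hp hp'
      beta_reduce at he
      rw [dif_pos ⟨hμ hp.1, hμ hp.2.1, hμ hp.2.2⟩, dif_pos ⟨hμ hp'.1, hμ hp'.2.1, hμ hp'.2.2⟩] at he
      have hcol : ∀ v : Fin 2 → F, ![p.1 * act k ![v 0, p.2.2 * v 1] 0, p.2.1 * act k ![v 0, p.2.2 * v 1] 1] =
          ![p'.1 * act k ![v 0, p'.2.2 * v 1] 0, p'.2.1 * act k ![v 0, p'.2.2 * v 1] 1] := fun v => by
        have := congrArg (fun g => act g v) he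
        simpa only [act_mul, hDv, one_mul] using this
      have q0 := hcol (Pi.single 0 1)
      have e : ∀ z : F, (![(Pi.single 0 1 : Fin 2 → F) 0, z * (Pi.single 0 1 : Fin 2 → F) 1] : Fin 2 → F) =
          Pi.single 0 1 := fun z => by funext j; fin_cases j <;> simp
      rw [e, e] at q0
      have g1 : p.1 = p'.1 := mul_right_cancel₀ hx0 (by simpa using congrFun q0 0)
      have g2 : p.2.1 = p'.2.1 := mul_right_cancel₀ hx1 (by simpa using congrFun q0 1)
      have q1 := hcol (Pi.single 1 1)
      have h1' : act k ![0, p.2.2] = act k ![0, p'.2.2] := by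
        funext j
        fin_cases j
        · exact mul_left_cancel₀ (left_ne_zero_of_mul ((hμ hp.1).symm ▸ one_ne_zero))
            (by simpa [g1] using congrFun q1 0)
        · exact mul_left_cancel₀ (left_ne_zero_of_mul ((hμ hp.2.1).symm ▸ one_ne_zero))
            (by simpa [g2] using congrFun q1 1)
      have g3 : p.2.2 = p'.2.2 := by simpa using congrFun (act_injective k h1') 1
      exact Prod.ext g1 (Prod.ext g2 g3)
  have small : ∀ {k : GL (Fin 2) F}, k ∈ K → (q + 1) ^ 2 ≤ (fib (N k)).card := by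
    intro k hk
    rw [show (q + 1) ^ 2 = (μ ×ˢ μ).card by rw [Finset.card_product, card_norm_one hq]; ring]
    refine Finset.card_le_card_of_injOn (fun p => if h : p.1 * σ p.1 = 1 ∧ p.2 * σ p.2 = 1
      then D p.1 p.1 h.1 h.1 * (k * D 1 p.2 (by simp) h.2) else 1) (fun p hp => ?_) (fun p hp p' hp' he => ?_)
    · simp only [Finset.mem_coe, Finset.mem_product] at hp
      beta_reduce
      rw [dif_pos ⟨hμ hp.1, hμ hp.2⟩]
      simp only [Finset.mem_coe, fib, KF, Finset.mem_filter, Finset.mem_univ, true_and]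
      refine ⟨K.mul_mem (hDK _ _ _ _) (K.mul_mem hk (hDK _ _ _ _)), ?_⟩
      simp only [N, act_mul, hDv]
      have e : (![1 * (Pi.single 0 1 : Fin 2 → F) 0, p.2 * (Pi.single 0 1 : Fin 2 → F) 1] : Fin 2 → F) =
          Pi.single 0 1 := by funext j; fin_cases j <;> simp
      rw [e, Matrix.cons_val_zero, map_mul]
      linear_combination (act k (Pi.single 0 1) 0 * σ (act k (Pi.single 0 1) 0)) * hμ hp.1
    · simp only [Finset.mem_coe, Finset.mem_product] at hp hp'
      beta_reduce at he
      rw [dif_pos ⟨hμ hp.1, hμ hp.2⟩, dif_pos ⟨hμ hp'.1, hμ hp'.2⟩] at he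
      have hcol : ∀ v : Fin 2 → F, p.1 • act k ![v 0, p.2 * v 1] = p'.1 • act k ![v 0, p'.2 * v 1] := fun v => by
        have := congrArg (fun g => act g v) he
        simp only [act_mul, hDv, one_mul] at this
        funext j
        have hj := congrFun this j
        fin_cases j <;> simpa using hj
      simp only [← map_smul] at hcol
      have q0 := act_injective k (hcol (Pi.single 0 1))
      have q1 := act_injective k (hcol (Pi.single 1 1))
      have g1 : p.1 = p'.1 := by simpa using congrFun q0 0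
      have g2 : p.2 = p'.2 := mul_left_cancel₀ (left_ne_zero_of_mul ((hμ hp.1).symm ▸ one_ne_zero))
        (by simpa [g1] using congrFun q1 1)
      exact Prod.ext g1 g2
  -- the products `k₀ diag k₀`
  let P : F → F := fun ν => a * a + a₂ * ν * b
  have hP : ∀ ν, ν ∈ μ → ∃ k ∈ K, N k = P ν * σ (P ν) := by
    intro ν hν
    refine ⟨k₀ * D 1 ν (by simp) (hμ hν) * k₀, K.mul_mem (K.mul_mem hk₀K (hDK _ _ _ _)) hk₀K, ?_⟩
    have e : act (k₀ * D 1 ν (by simp) (hμ hν) * k₀) (Pi.single 0 1) 0 = P ν := by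
      rw [act_mul, act_mul, hDv, hk₀, hk₀]
      simp [L, P, mul_assoc]
    simp only [N, e]
  let R : Finset F := μ.image fun ν => P ν * σ (P ν)
  let R' : Finset F := R \ {0, 1}
  have hab : a * a ≠ 0 := mul_ne_zero ha ha
  have hfib : ∀ r, (μ.filter fun ν => P ν * σ (P ν) = r).card ≤ 2 := by
    intro r
    rcases Finset.eq_empty_or_nonempty (μ.filter fun ν => P ν * σ (P ν) = r) with h | ⟨x, hx⟩
    · simp [h]
    simp only [Finset.mem_filter] at hx
    refine (Finset.card_le_card (t := {x, a * a * σ (a₂ * x * b) / σ (a * a) / (a₂ * b)}) fun y hy => ?_).trans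
      Finset.card_le_two
    simp only [Finset.mem_filter] at hy
    have hy1 := hμ hy.1
    have hx1 := hμ hx.1
    have he := hy.2.trans hx.2.symm
    have hσ : σ (a * a) ≠ 0 := (map_ne_zero σ).2 hab
    have hA : a₂ * b ≠ 0 := mul_ne_zero ha₂0 hb
    simp only [P, map_add, map_mul] at he
    have h0 : (y - x) * (σ (a * a) * (a₂ * b) * y - a * a * σ (a₂ * x * b)) = 0 := by
      simp only [map_mul]
      linear_combination y * he - (a * a * σ a₂ * σ b + y * a₂ * b * σ a₂ * σ b) * hy1 +
        (a * a * σ a₂ * σ b + y * a₂ * b * σ a₂ * σ b) * hx1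
    rcases mul_eq_zero.1 h0 with h | h
    · simp [sub_eq_zero.1 h]
    · simp only [Finset.mem_insert, Finset.mem_singleton]
      right
      rw [div_div, eq_div_iff (mul_ne_zero hσ hA)]
      linear_combination h
  have hfib0 : (μ.filter fun ν => P ν * σ (P ν) = 0).card ≤ 1 := by
    rw [Finset.card_le_one]
    intro x hx y hy
    simp only [Finset.mem_filter] at hx hy
    have e1 : P x = 0 := (mul_eq_zero.1 hx.2).elim id fun h => (map_eq_zero σ).1 h
    have e2 : P y = 0 := (mul_eq_zero.1 hy.2).elim id fun h => (map_eq_zero σ).1 h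
    exact mul_left_cancel₀ (mul_ne_zero ha₂0 hb) (by simp only [P] at e1 e2; linear_combination e1 - e2)
  have hbound : q + 1 ≤ 2 * R'.card + (if (0 : F) ∈ R then 1 else 0) + 2 := by
    have h1 := Finset.card_eq_sum_card_fiberwise (s := μ) (t := R) (f := fun ν => P ν * σ (P ν))
      fun ν hν => Finset.mem_image_of_mem _ hν
    rw [card_norm_one hq, ← Finset.sum_sdiff (Finset.inter_subset_left (s₁ := R) (s₂ := {0, 1})),
      Finset.sdiff_inter_self_left] at h1
    have h3 : ∑ r ∈ R \ {0, 1}, (μ.filter fun ν => P ν * σ (P ν) = r).card ≤ 2 * R'.card := by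
      show _ ≤ 2 * (R \ {0, 1}).card
      rw [mul_comm]; exact (Finset.sum_le_sum fun r _ => hfib r).trans (by simp)
    have h4 : ∑ r ∈ R ∩ {0, 1}, (μ.filter fun ν => P ν * σ (P ν) = r).card ≤
        (if (0 : F) ∈ R then 1 else 0) + 2 := by
      by_cases h0 : (0 : F) ∈ R
      · rw [if_pos h0]
        refine (Finset.sum_le_sum_of_subset (Finset.inter_subset_right : R ∩ {0, 1} ⊆ _)).trans ?_
        rw [Finset.sum_pair zero_ne_one]
        have := hfib 1; omega
      · rw [if_neg h0]
        refine (Finset.sum_le_sum_of_subset (t := {1}) fun r hr => ?_).trans ?_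
        · simp only [Finset.mem_inter, Finset.mem_insert, Finset.mem_singleton] at hr
          rcases hr.2 with rfl | rfl
          · exact absurd hr.1 h0
          · simp
        · rw [Finset.sum_singleton]; have := hfib 1; omega
    omega
  -- count
  have hKc : Nat.card K = KF.card := by
    rw [Nat.card_eq_fintype_card, Fintype.card_subtype]
  have hone : N 1 = 1 := by simp [N, act_one]
  have hlow : R'.card * (q + 1) ^ 3 + (if (0 : F) ∈ R then 1 else 0) * (q + 1) ^ 2 + (q + 1) ^ 2 ≤ KF.card := by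
    have hd : KF.card = ∑ r, (fib r).card :=
      Finset.card_eq_sum_card_fiberwise fun _ _ => Finset.mem_univ _
    have h1 : ∀ r ∈ R', (q + 1) ^ 3 ≤ (fib r).card := by
      intro r hr
      simp only [R', Finset.mem_sdiff, Finset.mem_insert, Finset.mem_singleton, not_or] at hr
      obtain ⟨ν, hν, rfl⟩ := Finset.mem_image.1 hr.1
      obtain ⟨k, hk, e⟩ := hP ν hν
      rw [← e] at hr ⊢
      exact big hk hr.2.1 hr.2.2
    have h3 : (q + 1) ^ 2 ≤ (fib 1).card := hone ▸ small K.one_mem
    have h4 : (if (0 : F) ∈ R then 1 else 0) * (q + 1) ^ 2 ≤ (fib 0).card := by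
      split_ifs with h0
      · obtain ⟨ν, hν, e0⟩ := Finset.mem_image.1 h0
        obtain ⟨k, hk, e⟩ := hP ν hν
        rw [one_mul, ← e0, ← e]
        exact small hk
      · simp
    have n0 : (0 : F) ∉ R' := by simp [R']
    have n1 : (1 : F) ∉ insert (0 : F) R' := by simp [R']
    have := Finset.sum_le_sum_of_subset (Finset.subset_univ (insert (1 : F) (insert 0 R')))
      (f := fun r => (fib r).card)
    rw [Finset.sum_insert n1, Finset.sum_insert n0, ← hd] at this
    have := Finset.card_nsmul_le_sum R' _ _ h1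
    rw [smul_eq_mul] at this
    omega
  have hGU : Nat.card (Cfsg.GU 2 F q) = q * ((q + 1) * (q ^ 2 - 1)) := by
    rw [Forms.card_GU hq.card]
    simp [Finset.prod_range_succ]
  have hKtop : K = Cfsg.GU 2 F q := by
    refine Subgroup.eq_of_le_of_card_ge hKle ?_
    obtain ⟨n, hn⟩ := Subgroup.card_dvd_of_le hKle
    by_contra hlt
    have hn2 : 2 ≤ n := by
      by_contra h
      interval_cases n
      · rw [mul_zero] at hn; exact Nat.card_pos.ne' hn
      · rw [mul_one] at hn; omega
    have h2K : 2 * Nat.card K ≤ q * ((q + 1) * (q ^ 2 - 1)) := by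
      rw [← hGU, hn, mul_comm]; exact Nat.mul_le_mul_left _ hn2
    have hq2 := hq.two_le
    have hsub : q * ((q + 1) * (q ^ 2 - 1)) + q * (q + 1) = q * (q + 1) * q ^ 2 := by
      have e : q ^ 2 - 1 + 1 = q ^ 2 := Nat.sub_add_cancel (Nat.one_le_pow _ _ (by omega))
      calc q * ((q + 1) * (q ^ 2 - 1)) + q * (q + 1) = q * (q + 1) * (q ^ 2 - 1 + 1) := by ring
        _ = _ := by rw [e]
    rw [hKc] at h2K
    obtain ⟨r, hr⟩ : ∃ r, r = R'.card := ⟨_, rfl⟩
    rw [← hr] at hlow hbound
    have hmul := Nat.mul_le_mul_right ((q + 1) ^ 3) hbound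
    have hpos : 0 < (q + 1) ^ 2 := by positivity
    split_ifs at hlow hbound hmul <;> nlinarith
  -- the element carrying the first vector to `(c, d)`
  let L' : (Fin 2 → F) →ₗ[F] (Fin 2 → F) :=
    { toFun := fun v => ![c * v 0 - σ d * v 1, d * v 0 + σ c * v 1]
      map_add' := fun x y => by funext j; fin_cases j <;> simp <;> ring
      map_smul' := fun r x => by funext j; fin_cases j <;> simp <;> ring }
  have hL' : Function.Injective L' := by
    intro x y h
    have h0 : c * x 0 - σ d * x 1 = c * y 0 - σ d * y 1 := by simpa [L'] using congrFun h 0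
    have h1 : d * x 0 + σ c * x 1 = d * y 0 + σ c * y 1 := by simpa [L'] using congrFun h 1
    funext j
    fin_cases j
    · show x 0 = y 0
      linear_combination σ c * h0 + σ d * h1 - (x 0 - y 0) * hcd
    · show x 1 = y 1
      linear_combination c * h1 - d * h0 - (x 1 - y 1) * hcd
  obtain ⟨k, hk⟩ := exists_gl_of_injective L' hL'
  have hkK : k ∈ K := by
    rw [hKtop]
    intro x y
    change Cfsg.hermForm 2 F q (act k x) (act k y) = Cfsg.hermForm 2 F q x y
    simp only [hF2, hk, L', LinearMap.coe_mk, AddHom.coe_mk, Matrix.cons_val_zero, Matrix.cons_val_one, map_add,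
      map_sub, map_mul, hi]
    linear_combination (x 0 * σ (y 0) + x 1 * σ (y 1)) * hcd
  obtain ⟨-, m, hm, s, hs, e⟩ := hkK
  refine ⟨m, hm, s, left_ne_zero_of_mul (hs.symm ▸ one_ne_zero), ?_⟩
  have := e (Pi.single 0 1)
  rw [hk] at this
  simpa [comb, L'] using this

end Cfsg.Agent.MaxCl.SU4.Frame
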