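/-
An overgroup of the monomial group in dimension four, not itself monomial, has an element outside the monomial group
fixing a coordinate line: some column has a zero by counting the orthogonal images of a column without zeros, and a
diagonal element fixing a column with zeros moves the frame of that column.
-/
import Cfsg.Agent.Lib.MaxCl.SU4.FrameBase

set_option autoImplicit false
set_option linter.unusedSectionVars false

namespace Cfsg.Agent.MaxCl.SU4.Frame

open scoped MatrixGroups Matrix
open Unit

/-- The double transposition `(01)(23)`. -/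
def sw : Equiv.Perm (Fin 4) := Equiv.swap 0 1 * Equiv.swap 2 3

/-- Relabellings giving the three double transpositions. -/
def eP : Fin 3 → Equiv.Perm (Fin 4) := ![1, Equiv.swap 1 2, Equiv.swap 1 3]

/-- The three double transpositions. -/
def dbl (t : Fin 3) : Equiv.Perm (Fin 4) := eP t * sw * (eP t)⁻¹

theorem dbl_sign : ∀ t, Equiv.Perm.sign (dbl t) = 1 := by decide +kernel

theorem dbl_third : ∀ t t', t ≠ t' → ∃ t'', ∀ j, dbl t (dbl t' j) = dbl t'' j ∧ dbl t' (dbl t' j) = j := by
  decide +kernel

theorem dbl_apply (t : Fin 3) (i : Fin 4) : dbl t (eP t i) = eP t (sw i) := by simp [dbl]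

theorem inv_eP (t : Fin 3) (i : Fin 4) : (eP t)⁻¹ (eP t i) = i := by simp

theorem perm_four : ∀ (p : Equiv.Perm (Fin 4)) (l : Fin 4), p l = l → (∀ j, p (p (p (p j))) = j) →
    ∀ j, p (p j) = j := by decide +kernel

variable {F : Type*} [Field F] [Fintype F] {σ : F ≃+* F} {q : ℕ} {M : Subgroup (GL (Fin 4) F)}

namespace Fr

variable (C : Fr σ q M)
include C

theorem norm_two (h2 : q = 2) {a : F} (ha : a ≠ 0) : a * σ a = 1 := by
  simpa [h2] using C.hq.norm_pow ha

theorem char_two (h2 : q = 2) : (2 : F) = 0 := by simpa [h2] using C.hq.cast_q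

/-- The permutation of a monomial element. -/
theorem mono_data {g : GL (Fin 4) F} (hg : g ∈ M) (hm : IsMono g) :
    ∃ (p : Equiv.Perm (Fin 4)) (s : Fin 4 → F),
      (∀ j, s j * σ (s j) = 1) ∧ ∀ j, act g (Pi.single j 1) = s j • Pi.single (p j) 1 := by
  choose p s hs hcol using fun j => C.mono_col hg (hm j)
  have hp : Function.Injective p := by
    intro x y hxy
    by_contra hne
    have := C.col_norm hg x y
    rw [if_neg hne, hcol, hcol, hxy, smul_left C.hU, smul_right C.hU, C.single_left, Pi.single_eq_same, map_one,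
      mul_one] at this
    exact mul_ne_zero (C.norm_one_ne (hs x)) ((map_ne_zero σ).2 (C.norm_one_ne (hs y))) this
  exact ⟨Equiv.ofBijective p (Finite.injective_iff_bijective.1 hp), s, hs, hcol⟩

section hno

variable (hno : ∀ g ∈ M, (∃ a, (supp (act g (Pi.single a 1))).card ≤ 1) → IsMono g)
include hno

/-- A column of a non-monomial element has a second entry. -/
theorem second {g : GL (Fin 4) F} (hg : g ∈ M) (hgm : ¬ IsMono g) (c k : Fin 4) :
    ∃ k', k' ≠ k ∧ act g (Pi.single c 1) k' ≠ 0 := by
  by_contra h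
  push Not at h
  refine hgm (hno g hg ⟨c, (Finset.card_le_card (t := {k}) fun x hx => ?_).trans (Finset.card_singleton k).le⟩)
  rw [mem_supp] at hx
  by_contra hne
  exact hx (h x (by simpa using hne))

/-- An element fixing one column permutes the lines of the others. -/
theorem no_move {g t : GL (Fin 4) F} (hg : g ∈ M) (ht : t ∈ M) {a c : Fin 4} {κ : F}
    (hx : act t (act g (Pi.single a 1)) = κ • act g (Pi.single a 1))
    (hne : ∀ s : F, act t (act g (Pi.single c 1)) ≠ s • act g (Pi.single c 1))
    (hip : herm σ (act t (act g (Pi.single c 1))) (act g (Pi.single c 1)) ≠ 0) : False := by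
  have hm : g⁻¹ * t * g ∈ M := M.mul_mem (M.mul_mem (M.inv_mem hg) ht) hg
  have hmono : IsMono (g⁻¹ * t * g) := by
    refine hno _ hm ⟨a, ?_⟩
    rw [act_mul, act_mul, hx, map_smul, act_inv_act]
    refine (Finset.card_le_card (t := {a}) fun x hx => ?_).trans (Finset.card_singleton a).le
    rw [mem_supp] at hx
    by_contra hne'
    exact hx (by simp [show x ≠ a by simpa using hne'])
  obtain ⟨c', s, -, e⟩ := C.mono_col hm (hmono c)
  have e' : act t (act g (Pi.single c 1)) = s • act g (Pi.single c' 1) := by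
    have := congrArg (act g) e
    rwa [act_mul, act_mul, act_act_inv, map_smul] at this
  by_cases hcc : c' = c
  · subst hcc; exact hne s e'
  · rw [e', smul_left C.hU, C.col_norm hg, if_neg hcc, mul_zero] at hip
    exact hip rfl

/-- A column with two zeros. -/
theorem no_two {g : GL (Fin 4) F} (hg : g ∈ M) (hgm : ¬ IsMono g) (h4 : 4 ≤ q) {a k l : Fin 4} (hkl : k ≠ l)
    (hxk : act g (Pi.single a 1) k = 0) (hxl : act g (Pi.single a 1) l = 0) : False := by
  classical
  obtain ⟨c, hc⟩ := C.exists_col hg k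
  obtain ⟨y, hy⟩ : ∃ y, y = act g (Pi.single c 1) := ⟨_, rfl⟩
  rw [← hy] at hc
  obtain ⟨k', hk'k, hk'⟩ := C.second hno hg hgm c k
  rw [← hy] at hk'
  obtain ⟨A, hA⟩ : ∃ A, A = y k * σ (y k) := ⟨_, rfl⟩
  obtain ⟨B, hB⟩ : ∃ B, B = y l * σ (y l) := ⟨_, rfl⟩
  have hyy : herm σ y y = 1 := by rw [hy, C.col_norm hg, if_pos rfl]
  have root : ∀ δ : F, δ * σ δ = 1 → δ * δ ≠ 1 → A * δ * δ + (1 - A - B) * δ + B = 0 := by
    intro δ hδ hδ2
    by_contra hne
    obtain ⟨t, ht, htx⟩ := C.exists_phase hkl hδ
    refine C.no_move hno hg ht (a := a) (c := c) (κ := 1) ?_ ?_ ?_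
    · funext j
      rw [htx, Pi.smul_apply, one_smul]
      rcases eq_or_ne j k with rfl | hjk
      · rw [hxk, mul_zero]
      rcases eq_or_ne j l with rfl | hjl
      · rw [hxl, mul_zero]
      · rw [if_neg hjk, if_neg hjl, one_mul]
    · intro s e
      rw [← hy] at e
      have ek := congrFun e k
      rw [htx, if_pos rfl, Pi.smul_apply, smul_eq_mul] at ek
      have hs := mul_right_cancel₀ hc ek
      have ek' := congrFun e k'
      rw [htx, if_neg hk'k, Pi.smul_apply, smul_eq_mul, ← hs] at ek'
      by_cases hl : k' = l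
      · rw [if_pos hl] at ek'
        have := mul_right_cancel₀ hk' ek'
        exact hδ2 (by rw [this] at hδ; exact hδ)
      · rw [if_neg hl] at ek'
        have := mul_right_cancel₀ hk' ek'
        exact hδ2 (by rw [← this, mul_one])
    · rw [← hy]
      intro h
      apply hne
      have e : herm σ (act t y) y = herm σ y y + (δ - 1) * A + (σ δ - 1) * B := by
        simp only [herm, htx]
        have : ∀ j, (if j = k then δ else if j = l then σ δ else 1) * y j * σ (y j) =
            y j * σ (y j) + (if j = k then (δ - 1) * A else 0) + (if j = l then (σ δ - 1) * B else 0) := fun j => by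
          rcases eq_or_ne j k with rfl | hjk
          · simp [hkl, hA]; ring
          rcases eq_or_ne j l with rfl | hjl
          · simp [hjk, hB]; ring
          · simp [hjk, hjl]
        simp only [this, Finset.sum_add_distrib, Finset.sum_ite_eq', Finset.mem_univ, if_true]
      rw [h, hyy] at e
      linear_combination (-δ) * e - B * hδ
  obtain ⟨ξ, hξ, hord⟩ := exists_xi C.hq
  have hlt : ∀ m, 0 < m → m < q + 1 → ξ ^ m ≠ 1 := fun m hm hlt h => by
    have := Nat.le_of_dvd hm ((hord m).1 h); omega
  have hξ0 := C.norm_one_ne hξ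
  have d1 : ξ * ξ ≠ 1 := fun h => hlt 2 two_pos (by omega) (by rw [pow_two, h])
  have d2 : σ ξ * σ ξ ≠ 1 := fun h => d1 (σ.injective (by rw [map_mul, h, map_one]))
  have d3 : (ξ * ξ) * (ξ * ξ) ≠ 1 := fun h => hlt 4 (by norm_num) (by omega) (by linear_combination h)
  have r1 := root ξ hξ d1
  have r2 := root (σ ξ) (by rw [invol C.hq, mul_comm, hξ]) d2
  have r3 := root (ξ * ξ) (by rw [map_mul]; linear_combination (ξ * σ ξ) * hξ + hξ) d3
  have n12 : ξ - σ ξ ≠ 0 := fun h => d1 (by linear_combination ξ * h + hξ)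
  have n13 : ξ - ξ * ξ ≠ 0 := fun h => hlt 1 one_pos (by omega) (by
    rw [pow_one]; exact mul_left_cancel₀ hξ0 (show ξ * ξ = ξ * 1 by linear_combination -h))
  have n23 : σ ξ - ξ * ξ ≠ 0 := fun h => hlt 3 (by norm_num) (by omega) (by linear_combination (-ξ) * h + hξ)
  have e12 : A * (ξ + σ ξ) + (1 - A - B) = 0 := mul_left_cancel₀ n12 (by linear_combination r1 - r2)
  have e13 : A * (ξ + ξ * ξ) + (1 - A - B) = 0 := mul_left_cancel₀ n13 (by linear_combination r1 - r3)
  have hA0 : A * (σ ξ - ξ * ξ) = 0 := by linear_combination e12 - e13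
  exact mul_ne_zero (hA ▸ mul_ne_zero hc ((map_ne_zero σ).2 hc)) n23 hA0

/-- A column with one zero. -/
theorem no_one {g : GL (Fin 4) F} (hg : g ∈ M) (hgm : ¬ IsMono g) (hq3 : q ≠ 3) {a l : Fin 4}
    (hxl : act g (Pi.single a 1) l = 0) (hxo : ∀ j, j ≠ l → act g (Pi.single a 1) j ≠ 0) : False := by
  classical
  obtain ⟨x, hx⟩ : ∃ x, x = act g (Pi.single a 1) := ⟨_, rfl⟩
  rw [← hx] at hxl hxo
  have key : ∀ c, act g (Pi.single c 1) l ≠ 0 → ∀ κ : F, κ * σ κ = 1 → κ ^ 4 ≠ 1 →
      κ ^ 4 * (1 - act g (Pi.single c 1) l * σ (act g (Pi.single c 1) l)) =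
        -(act g (Pi.single c 1) l * σ (act g (Pi.single c 1) l)) := by
    intro c hc κ hκ hκ4
    obtain ⟨y, hy⟩ : ∃ y, y = act g (Pi.single c 1) := ⟨_, rfl⟩
    rw [← hy] at hc ⊢
    by_contra hne
    obtain ⟨t, ht, -, htx⟩ := C.exists_diag (fun j => if j = l then σ κ * σ κ * σ κ else κ) (fun j => by
        split_ifs
        · simp only [map_mul, invol C.hq]
          linear_combination ((κ * σ κ) ^ 2 + κ * σ κ + 1) * hκ
        · exact hκ) (by
        rw [← Finset.mul_prod_erase _ _ (Finset.mem_univ l), if_pos rfl,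
          Finset.prod_congr rfl fun j hj => if_neg (Finset.ne_of_mem_erase hj), Finset.prod_const,
          Finset.card_erase_of_mem (Finset.mem_univ l)]
        simp
        linear_combination ((κ * σ κ) ^ 2 + κ * σ κ + 1) * hκ)
    have hκ3 : ∀ {s : F}, σ κ * σ κ * σ κ = s → κ = s → False := fun {s} e1 e2 => hκ4 (by
      rw [← e2] at e1
      linear_combination ((κ * σ κ) ^ 2 + κ * σ κ + 1) * hκ - κ ^ 3 * e1)
    refine C.no_move hno hg ht (a := a) (c := c) (κ := κ) ?_ ?_ ?_
    · funext j
      rw [← hx, htx, Pi.smul_apply, smul_eq_mul]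
      rcases eq_or_ne j l with rfl | hjl
      · rw [hxl, mul_zero, mul_zero]
      · rw [if_neg hjl]
    · intro s e
      rw [← hy] at e
      obtain ⟨k', hk'l, hk'⟩ := C.second hno hg hgm c l
      rw [← hy] at hk'
      have el := congrFun e l
      have ek := congrFun e k'
      rw [htx, Pi.smul_apply, smul_eq_mul] at el ek
      rw [if_pos rfl] at el
      rw [if_neg hk'l] at ek
      exact hκ3 (mul_right_cancel₀ hc el) (mul_right_cancel₀ hk' ek)
    · rw [← hy]
      intro h
      apply hne
      have hyy : herm σ y y = 1 := by rw [hy, C.col_norm hg, if_pos rfl]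
      have e : herm σ (act t y) y = κ * herm σ y y + (σ κ * σ κ * σ κ - κ) * (y l * σ (y l)) := by
        simp only [herm, htx]
        have : ∀ j, (if j = l then σ κ * σ κ * σ κ else κ) * y j * σ (y j) =
            κ * (y j * σ (y j)) + (if j = l then (σ κ * σ κ * σ κ - κ) * (y l * σ (y l)) else 0) := fun j => by
          rcases eq_or_ne j l with rfl | hjl
          · simp; ring
          · simp [hjl]; ring
        simp only [this, Finset.sum_add_distrib, Finset.sum_ite_eq', Finset.mem_univ, if_true, ← Finset.mul_sum]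
      rw [h, hyy] at e
      linear_combination (-κ ^ 3) * e - (y l * σ (y l)) * ((κ * σ κ) ^ 2 + κ * σ κ + 1) * hκ
  obtain ⟨ξ, hξ, hord⟩ := exists_xi C.hq
  obtain ⟨c, hc⟩ := C.exists_col hg l
  by_cases h2 : q = 2
  · have h3 : ξ ^ 3 = 1 := (hord 3).2 (by rw [h2])
    have h := key c hc ξ hξ fun h => by
      have := (hord 4).1 h; rw [h2] at this; norm_num at this
    rw [C.norm_two h2 hc] at h
    exact one_ne_zero (show (1 : F) = 0 by linear_combination h)
  have h4 : 4 ≤ q := by have := C.hq.two_le; omega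
  have hx4 : ξ ^ 4 ≠ 1 := fun h => by have := Nat.le_of_dvd (by norm_num) ((hord 4).1 h); omega
  by_cases hx8 : ξ ^ 8 = 1
  swap
  · have h := key c hc ξ hξ hx4
    have h' := key c hc (ξ * ξ) (by rw [map_mul]; linear_combination (ξ * σ ξ) * hξ + hξ)
      (fun e => hx8 (by linear_combination e))
    obtain ⟨r, hr⟩ : ∃ r, r = act g (Pi.single c 1) l * σ (act g (Pi.single c 1) l) := ⟨_, rfl⟩
    rw [← hr] at h h'
    have hr0 : r ≠ 0 := hr ▸ mul_ne_zero hc ((map_ne_zero σ).2 hc)
    have h0 : ξ ^ 4 * (ξ ^ 4 - 1) * (1 - r) = 0 := by linear_combination h' - h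
    have hr1 := (mul_eq_zero.1 h0).resolve_left
      (mul_ne_zero (pow_ne_zero _ (C.norm_one_ne hξ)) (sub_ne_zero.2 hx4))
    exact hr0 (by linear_combination h - ξ ^ 4 * hr1)
  -- seven scalars: every entry of the row has norm one half
  have h44 : ξ ^ 4 = -1 :=
    (mul_self_eq_one_iff.1 (show ξ ^ 4 * ξ ^ 4 = 1 by linear_combination hx8)).resolve_left hx4
  have hq7 : q = 7 := by
    have hd := (hord 8).1 hx8
    have : q + 1 ≤ 8 := Nat.le_of_dvd (by norm_num) hd
    rcases (show q = 4 ∨ q = 5 ∨ q = 6 ∨ q = 7 by omega) with h | h | h | h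
    · rw [h] at hd; norm_num at hd
    · rw [h] at hd; norm_num at hd
    · rw [h] at hd; norm_num at hd
    · exact h
  have h7 : (7 : F) = 0 := by simpa [hq7] using C.hq.cast_q
  have half : ∀ c, act g (Pi.single c 1) l ≠ 0 →
      2 * (act g (Pi.single c 1) l * σ (act g (Pi.single c 1) l)) = 1 := fun c hc => by
    have h := key c hc ξ hξ hx4
    linear_combination h - (1 - act g (Pi.single c 1) l * σ (act g (Pi.single c 1) l)) * h44
  obtain ⟨c', hc'a, hc'⟩ : ∃ c', c' ≠ a ∧ act g (Pi.single c' 1) l = 0 := by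
    by_contra hall
    push Not at hall
    have h1 := C.row_norm hg l
    rw [← Finset.add_sum_erase _ _ (Finset.mem_univ a), ← hx, hxl, zero_mul, zero_add] at h1
    have h3 : ∑ c ∈ Finset.univ.erase a,
        2 * (act g (Pi.single c 1) l * σ (act g (Pi.single c 1) l)) = 3 := by
      rw [Finset.sum_congr rfl fun c hc => half c (hall c (Finset.ne_of_mem_erase hc)), Finset.sum_const,
        Finset.card_erase_of_mem (Finset.mem_univ a)]
      simp
    rw [← Finset.mul_sum, h1] at h3
    exact one_ne_zero (show (1 : F) = 0 by linear_combination -h3)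
  obtain ⟨m, hm, hmz⟩ := C.exists_rot hg hc'a.symm (γ := ξ * ξ)
    (by rw [map_mul]; linear_combination (ξ * σ ξ) * hξ + hξ)
  obtain ⟨x', hx'⟩ : ∃ x', x' = act g (Pi.single c' 1) := ⟨_, rfl⟩
  rw [← hx'] at hc'
  simp only [← hx, ← hx'] at hmz
  have hxx : herm σ x x = 1 := by rw [hx, C.col_norm hg, if_pos rfl]
  have hx'x' : herm σ x' x' = 1 := by rw [hx', C.col_norm hg, if_pos rfl]
  have hxx' : herm σ x x' = 0 := by rw [hx, hx', C.col_norm hg, if_neg hc'a.symm]
  have hx'x : herm σ x' x = 0 := eq_zero_symm C.hU hxx'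
  have hml : act m (Pi.single l 1) = Pi.single l 1 := by
    rw [hmz, C.single_left, C.single_left, hxl, hc']; simp
  have hmono : IsMono m := hno m hm ⟨l, by
    rw [hml]
    refine (Finset.card_le_card (t := {l}) fun k hk => ?_).trans (Finset.card_singleton l).le
    rw [mem_supp] at hk
    by_contra hne
    exact hk (by simp [show k ≠ l by simpa using hne])⟩
  obtain ⟨p, s, hs, hp⟩ := C.mono_data hm hmono
  have hσ2 : σ (ξ * ξ) * σ (ξ * ξ) = -1 := by
    rw [← map_mul, show ξ * ξ * (ξ * ξ) = -1 by linear_combination h44, map_neg, map_one]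
  have hu : ∀ z, act m (act m z) = z + (-2 * herm σ z x) • x + (-2 * herm σ z x') • x' := fun z => by
    rw [hmz, hmz]
    simp only [add_left C.hU, smul_left C.hU, hxx, hx'x', hxx', hx'x]
    match_scalars
    · ring
    · linear_combination (herm σ z x) * h44
    · linear_combination (herm σ z x') * hσ2
  have hu2 : ∀ z, act m (act m (act m (act m z))) = z := fun z => by
    rw [hu z, hu]
    simp only [add_left C.hU, smul_left C.hU, hxx, hx'x', hxx', hx'x]
    module
  have hpl : p l = l := by
    by_contra hne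
    have := congrFun (hp l) l
    rw [hml] at this
    simp [Ne.symm hne] at this
  have hiter : ∀ j, ∃ r : F, r ≠ 0 ∧ act m (act m (Pi.single j 1)) = r • Pi.single (p (p j)) 1 := fun j =>
    ⟨s j * s (p j), mul_ne_zero (C.norm_one_ne (hs _)) (C.norm_one_ne (hs _)),
      by rw [hp, map_smul, hp, smul_smul]⟩
  have hpp := perm_four p l hpl fun j => by
    obtain ⟨r, hr0, hr⟩ := hiter j
    obtain ⟨r', hr'0, hr'⟩ := hiter (p (p j))
    have := hu2 (Pi.single j 1)
    rw [hr, map_smul, map_smul, hr', smul_smul] at this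
    by_contra hne
    have := congrFun this j
    simp [Ne.symm hne] at this
  have hj : ∀ j, j ≠ l → x j * σ (x j) + x' j * σ (x' j) = 1 := fun j hjl => by
    obtain ⟨r, hr0, hr⟩ := hiter j
    rw [hpp] at hr
    have e1 : herm σ (act m (act m x)) (act m (act m (Pi.single j 1))) = herm σ x (Pi.single j 1) := by
      rw [mem_uiso.1 (C.iso hm), mem_uiso.1 (C.iso hm)]
    rw [hu x, hxx, hxx', hr, C.single_right] at e1
    simp only [add_left C.hU, smul_left C.hU, smul_right C.hU, C.single_right] at e1
    have hr' : σ r = -1 := mul_right_cancel₀ (hxo j hjl) (by linear_combination -e1)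
    have e2 := congrFun (hu (Pi.single j 1)) j
    rw [hr, C.single_left, C.single_left] at e2
    simp at e2
    rw [show r = -1 by rw [← invol C.hq r, hr', map_neg, map_one]] at e2
    exact mul_left_cancel₀ (show (2 : F) ≠ 0 from fun h => one_ne_zero (show (1 : F) = 0 by
      linear_combination h7 - 3 * h)) (by linear_combination e2)
  have hsum : ∑ j, (x j * σ (x j) + x' j * σ (x' j)) = 2 := by
    rw [Finset.sum_add_distrib]
    change herm σ x x + herm σ x' x' = 2
    rw [hxx, hx'x']; norm_num
  rw [← Finset.add_sum_erase _ _ (Finset.mem_univ l), hxl, hc',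
    Finset.sum_congr rfl fun j hj' => hj j (Finset.ne_of_mem_erase hj'), Finset.sum_const,
    Finset.card_erase_of_mem (Finset.mem_univ l)] at hsum
  simp at hsum
  exact one_ne_zero (show (1 : F) = 0 by linear_combination hsum)

/-- No column without zeros, as all of its orthogonal images would lie among three lines. -/
theorem no_full (h4 : 4 ≤ q) {g : GL (Fin 4) F} (hg : g ∈ M)
    (hall : ∀ h ∈ M, ∀ b k, act h (Pi.single b 1) k = 0 → (supp (act h (Pi.single b 1))).card ≤ 1) {a : Fin 4}
    (hfull : ∀ k, act g (Pi.single a 1) k ≠ 0) : False := by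
  classical
  obtain ⟨x, hx⟩ : ∃ x, x = act g (Pi.single a 1) := ⟨_, rfl⟩
  rw [← hx] at hfull
  have img : ∀ t D, IsSol σ (fun i => x (eP t i)) D → ∃ b : {b // b ≠ a}, ∃ s : F, s * σ s = 1 ∧
      ∀ k, D ((eP t)⁻¹ k) * x k = s * act g (Pi.single b.1 1) (dbl t k) := by
    intro t D ⟨hD, hprod, hsum⟩
    obtain ⟨n, hn, -, hnx⟩ := C.exists_mono (dbl t) (fun k => D ((eP t)⁻¹ k)) (fun k => hD _) (by
      rw [dbl_sign, Equiv.prod_comp ((eP t)⁻¹) D, Fin.prod_univ_four, hprod]; simp)
    have hv : g⁻¹ * n * g ∈ M := M.mul_mem (M.mul_mem (M.inv_mem hg) hn) hg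
    have h0 : act (g⁻¹ * n * g) (Pi.single a 1) a = 0 := by
      rw [act_mul, act_mul, C.coord_inv hg, ← hx, herm, ← Equiv.sum_comp (dbl t), ← Equiv.sum_comp (eP t)]
      simp only [hnx]
      simp only [dbl_apply, inv_eP, Fin.sum_univ_four]
      simp only [show sw 0 = 1 from rfl, show sw 1 = 0 from rfl, show sw 2 = 3 from rfl, show sw 3 = 2 from rfl]
      linear_combination hsum
    obtain ⟨b, s, hs, e⟩ := C.mono_col hv (hall _ hv a a h0)
    have hba : b ≠ a := fun h => by
      subst h
      rw [e] at h0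
      simp at h0
      exact C.norm_one_ne hs h0
    refine ⟨⟨b, hba⟩, s, hs, fun k => ?_⟩
    have e' := congrArg (fun v => act g v (dbl t k)) e
    simp only [act_mul, act_act_inv, ← hx, map_smul, Pi.smul_apply, smul_eq_mul, hnx] at e'
    exact e'
  have four : ∀ t, HasFour σ (fun i => x (eP t i)) → False := by
    rintro t ⟨f, hf, hind⟩
    choose b s hs hb using fun k => img t (f k) (hf k)
    have hinj : Function.Injective b := fun k k' e => by
      by_contra hne
      refine hind k k' hne (s k / s k') (funext fun i => ?_)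
      have e1 := hb k (eP t i)
      have e2 := hb k' (eP t i)
      rw [e, inv_eP] at e1
      rw [inv_eP] at e2
      have hsk := C.norm_one_ne (hs k')
      rw [Pi.smul_apply, smul_eq_mul, div_mul_eq_mul_div, eq_div_iff hsk]
      exact mul_right_cancel₀ (hfull (eP t i)) (by linear_combination (s k') * e1 - (s k) * e2)
    have := Fintype.card_le_of_injective b hinj
    simp at this
  have two : ∀ t, ∃ D : Bool → Fin 4 → F, (∀ ε, IsSol σ (fun i => x (eP t i)) (D ε)) ∧
      ∀ s : F, D true ≠ s • D false := fun t => by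
    rcases two_or_four C.hq h4 (z := fun i => x (eP t i)) (fun i => hfull _) with h | ⟨D, D', h, h', h''⟩
    · exact (four t h).elim
    · exact ⟨fun ε => if ε then D else D', fun ε => by cases ε <;> simpa, fun s => by simpa using h'' s⟩
  choose D hD hDD using two
  choose b s hs hb using fun p : Fin 3 × Bool => img p.1 (D p.1 p.2) (hD p.1 p.2)
  obtain ⟨p, p', hne, hbb⟩ : ∃ p p', p ≠ p' ∧ b p = b p' := Fintype.exists_ne_map_eq_of_card_lt b (by simp)
  rcases eq_or_ne p.1 p'.1 with ht | ht
  · obtain ⟨t, ε⟩ := p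
    obtain ⟨t', ε'⟩ := p'
    simp only at ht
    subst ht
    have hεε : ε ≠ ε' := fun h => hne (by rw [h])
    have gen : ∀ ε ε' : Bool, b (t, ε) = b (t, ε') → D t ε = (s (t, ε) / s (t, ε')) • D t ε' := fun ε ε' hbb => by
      funext i
      have e1 := hb (t, ε) (eP t i)
      have e2 := hb (t, ε') (eP t i)
      rw [hbb] at e1
      simp only [inv_eP] at e1 e2
      rw [Pi.smul_apply, smul_eq_mul, div_mul_eq_mul_div, eq_div_iff (C.norm_one_ne (hs _))]
      exact mul_right_cancel₀ (hfull (eP t i)) (by linear_combination (s (t, ε')) * e1 - (s (t, ε)) * e2)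
    cases ε <;> cases ε'
    · exact hεε rfl
    · exact hDD t _ (gen true false hbb.symm)
    · exact hDD t _ (gen true false hbb)
    · exact hεε rfl
  · have hn : ∀ (p : Fin 3 × Bool) (k : Fin 4), x k * σ (x k) =
        act g (Pi.single (b p).1 1) (dbl p.1 k) * σ (act g (Pi.single (b p).1 1) (dbl p.1 k)) := fun p k => by
      have e := congrArg (fun v => v * σ v) (hb p k)
      simp only [map_mul] at e
      have hd := (hD p.1 p.2).1 ((eP p.1)⁻¹ k)
      linear_combination e - (x k * σ (x k)) * hd +
        (act g (Pi.single (b p).1 1) (dbl p.1 k) * σ (act g (Pi.single (b p).1 1) (dbl p.1 k))) * hs p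
    obtain ⟨t'', hthird⟩ := dbl_third p'.1 p.1 (Ne.symm ht)
    have hinv : ∀ j, x (dbl t'' j) * σ (x (dbl t'' j)) = x j * σ (x j) := fun j => by
      obtain ⟨h1, h2⟩ := hthird j
      have h3 : dbl p'.1 (dbl p'.1 (dbl p.1 j)) = dbl p.1 j := by
        obtain ⟨u, hu⟩ := dbl_third p.1 p'.1 ht
        exact (hu (dbl p.1 j)).2
      rw [← h1, hn p j, hn p' (dbl p'.1 (dbl p.1 j)), hbb, h3]
    refine four t'' (four_of_eq C.hq h4 (fun i => hfull _) ?_ ?_)
    · have := hinv (eP t'' 1)
      rwa [dbl_apply] at this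
    · have := hinv (eP t'' 3)
      rwa [dbl_apply] at this

end hno

/-- A non-monomial element fixing a coordinate line. -/
theorem exists_fixed (hq3 : q ≠ 3) {g : GL (Fin 4) F} (hg : g ∈ M) (hgm : ¬ IsMono g) :
    ∃ m ∈ M, ¬ IsMono m ∧ ∃ (l : Fin 4) (s : F), s * σ s = 1 ∧ act m (Pi.single l 1) = s • Pi.single l 1 := by
  classical
  by_cases hno : ∀ g ∈ M, (∃ a, (supp (act g (Pi.single a 1))).card ≤ 1) → IsMono g
  · exfalso
    have hall : ∀ h ∈ M, ∀ b k, act h (Pi.single b 1) k = 0 → (supp (act h (Pi.single b 1))).card ≤ 1 := by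
      intro h hh b l hl
      by_contra hc
      have hhm : ¬ IsMono h := fun hm => hc (hm b)
      by_cases h2z : ∃ k, k ≠ l ∧ act h (Pi.single b 1) k = 0
      · obtain ⟨k, hkl, hk⟩ := h2z
        by_cases h2 : q = 2
        · have hsub : supp (act h (Pi.single b 1)) ⊆ (Finset.univ.erase k).erase l := fun j hj => by
            rw [mem_supp] at hj
            simp only [Finset.mem_erase, Finset.mem_univ, and_true]
            exact ⟨fun e => hj (e ▸ hl), fun e => hj (e ▸ hk)⟩
          have hcard := Finset.card_le_card hsub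
          rw [Finset.card_erase_of_mem (Finset.mem_erase.2 ⟨hkl.symm, Finset.mem_univ l⟩),
            Finset.card_erase_of_mem (Finset.mem_univ k), Finset.card_univ, Fintype.card_fin] at hcard
          have h1 := C.col_norm hh b b
          rw [if_pos rfl, herm, ← Finset.sum_subset (Finset.subset_univ (supp (act h (Pi.single b 1))))
            (fun j _ hj => by
              rw [mem_supp, not_not] at hj
              rw [hj, zero_mul]),
            Finset.sum_congr rfl fun j hj => C.norm_two h2 (mem_supp.1 hj), Finset.sum_const,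
            show (supp (act h (Pi.single b 1))).card = 2 by omega, nsmul_one] at h1
          exact one_ne_zero (h1.symm.trans (by exact_mod_cast C.char_two h2))
        · exact C.no_two hno hh hhm (by have := C.hq.two_le; omega) hkl hk hl
      · push Not at h2z
        exact C.no_one hno hh hhm hq3 hl h2z
    obtain ⟨a, ha⟩ := not_forall.1 hgm
    have hfull : ∀ k, act g (Pi.single a 1) k ≠ 0 := fun k hk => ha (hall g hg a k hk)
    by_cases h2 : q = 2
    · have h1 := C.col_norm hg a a
      rw [if_pos rfl, herm, Finset.sum_congr rfl fun j _ => C.norm_two h2 (hfull j)] at h1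
      simp at h1
      exact one_ne_zero (show (1 : F) = 0 by linear_combination -h1 + 2 * C.char_two h2)
    · exact C.no_full hno (by have := C.hq.two_le; omega) hg hall hfull
  · push Not at hno
    obtain ⟨g', hg', ⟨a, ha⟩, hgm'⟩ := hno
    obtain ⟨l, s, hs, e⟩ := C.mono_col hg' ha
    obtain ⟨n, hn, d, hd, hnc, -⟩ := C.exists_perm (Equiv.swap a l)
    refine ⟨g' * n, M.mul_mem hg' hn, fun hm => hgm' fun j => ?_, l, d l * s, ?_, ?_⟩
    · obtain ⟨i, r, -, hi⟩ := C.mono_col (M.mul_mem hg' hn) (hm (Equiv.swap a l j))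
      rw [act_mul, hnc, Equiv.swap_apply_self, map_smul] at hi
      refine (Finset.card_le_card (t := {i}) fun x hx => ?_).trans (Finset.card_singleton i).le
      rw [mem_supp] at hx
      by_contra hne
      have := congrFun hi x
      rw [Pi.smul_apply, Pi.smul_apply, smul_eq_mul, smul_eq_mul, Pi.single_eq_of_ne (by simpa using hne),
        mul_zero, mul_eq_zero] at this
      exact this.elim (C.norm_one_ne (hd _)) hx
    · rw [map_mul]; linear_combination (s * σ s) * hd l + hs
    · rw [act_mul, hnc, Equiv.swap_apply_right, map_smul, e, smul_smul]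

end Fr

end Cfsg.Agent.MaxCl.SU4.Frame
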