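/-
Stabilisers of decompositions into two orthogonal non-degenerate planes are maximal in dimension four.
-/
import Cfsg.Agent.Lib.MaxCl.SU4.Point

set_option autoImplicit false
set_option maxHeartbeats 1600000

namespace Cfsg.Agent.MaxCl.SU4

open Cfsg Cfsg.Agent.MaxCl Cfsg.Agent.MaxCl.Unit

/-- Stabilisers of two orthogonal planes are maximal in dimension four, `q ≥ 3`. -/
theorem twoPlanes_maximal {F : Type*} [Field F] [Fintype F] (q : ℕ) (hF : Fintype.card F = q ^ 2) (hq : 3 ≤ q)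
    (D : Fin 2 → Submodule F (Fin 4 → F))
    (hD : Cfsg.Geo.IsNondegenerateMDecomposition (Cfsg.hermForm 4 F q) 2 D) :
    Cfsg.Geo.IsMaximalIn (Cfsg.GU 4 F q ⊓ Cfsg.Geo.specialLinear (Fin 4) F)
      (Cfsg.Geo.decompositionStabilizer D ⊓ (Cfsg.GU 4 F q ⊓ Cfsg.Geo.specialLinear (Fin 4) F)) := by
  classical
  obtain ⟨τ, hτ, hf⟩ := hermForm_isUnitary 4 q hF
  set f := Cfsg.hermForm 4 F q
  change Cfsg.Geo.IsMaximalIn (uiso f ⊓ _) (_ ⊓ (uiso f ⊓ _))
  have hn4 : 4 ≤ Fintype.card (Fin 4) := by simp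
  obtain ⟨θ, hθ0, hθ⟩ := exists_skew hf.ne_refl hf.involutive
  obtain ⟨e, he⟩ := exists_trace_one hf.involutive hf.ne_refl
  have hU0 : ∀ u c, f u u = 0 → c + τ c = 0 → utv hf u c ∈ uiso f ⊓ Cfsg.Geo.specialLinear (Fin 4) F :=
    fun u c hu hc => ⟨utv_mem hf hu hc, det_ptv hf (by rw [smul_right hf, hu, mul_zero])⟩
  have hdim := hD.decomp.finrank_eq
  have horth : ∀ {i j : Fin 2}, j ≠ i → ∀ x ∈ D i, ∀ y ∈ D j, f x y = 0 ∧ f y x = 0 := fun {i j} hij x hx y hy =>
    ⟨hD.orthogonal i j hij.symm x hx y hy, hD.orthogonal j i hij y hy x hx⟩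
  have hperp : ∀ {i j : Fin 2}, j ≠ i → uperp hf (D i) = D j := by
    intro i j hij
    refine (Submodule.eq_of_le_of_finrank_eq
      (show D j ≤ uperp hf (D i) from fun y hy x hx => (horth hij x hx y hy).2) ?_).symm
    have := finrank_uperp hf (D i)
    rw [hdim, Fintype.card_fin] at this
    rw [hdim]; omega
  have hrep : ∀ {i j : Fin 2}, j ≠ i → ∀ v, ∃ p ∈ D i, ∃ r ∈ D j, p + r = v := by
    intro i j hij v
    obtain ⟨p, hp, r, hr, h⟩ := exists_decomp hf (hD.nondegenerate i) v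
    exact ⟨p, hp, r, hperp hij ▸ hr, h⟩
  have hdisj : ∀ {i j : Fin 2}, j ≠ i → ∀ x, x ∈ D i → x ∈ D j → x = 0 := fun {i j} hij x hi hj =>
    inf_uperp_of_nondegenerate hf (hD.nondegenerate i) hi (hperp hij ▸ hj)
  have hnorm : ∀ {i j : Fin 2}, j ≠ i → ∀ p ∈ D i, ∀ r ∈ D j, f (p + r) (p + r) = f p p + f r r := by
    intro i j hij p hp r hr
    rw [add_left hf, add_right hf, add_right hf, (horth hij p hp r hr).1, (horth hij p hp r hr).2]; ring
  have hiso : ∀ i, ∃ u ∈ D i, u ≠ 0 ∧ f u u = 0 := by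
    intro i
    by_contra hno; push Not at hno
    obtain ⟨x, hx, hx0⟩ : ∃ x ∈ D i, x ≠ 0 := Submodule.exists_mem_ne_zero_of_ne_bot fun h => by
      have := hdim i; rw [h, finrank_bot] at this; omega
    have hs : Submodule.span F {u | u ∈ D i ∧ f u u = 0} ≤ ⊥ := Submodule.span_le.2 fun u hu => by
      by_contra h0
      exact hno u hu.1 (by simpa using h0) hu.2
    exact hx0 ((Submodule.mem_bot F).1 (hs (mem_span_iso hf (hD.nondegenerate i) (by rw [hdim]) hx)))
  have hpart : ∀ i, ∀ a ∈ D i, a ≠ 0 → f a a = 0 → ∃ z ∈ D i, f z z = 0 ∧ f z a = 1 := by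
    intro i a ha ha0 haa
    obtain ⟨y, hy, hya⟩ := (hD.nondegenerate i a ha ha0).1
    have h1 : f ((f y a)⁻¹ • y) a = 1 := by rw [smul_left hf, inv_mul_cancel₀ hya]
    obtain ⟨k, hk⟩ := exists_isotropic_shift hf haa h1
    exact ⟨_, (D i).add_mem ((D i).smul_mem _ hy) ((D i).smul_mem k ha), hk,
      by rw [add_left hf, h1, smul_left hf, haa, mul_zero, add_zero]⟩
  have hmem : ∀ (g : GL (Fin 4) F) (σ : Equiv.Perm (Fin 2)),
      (∀ i, ∀ x ∈ D i, act g x ∈ D (σ i)) → g ∈ Cfsg.Geo.decompositionStabilizer D := fun g σ h =>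
    ⟨σ, fun i => Submodule.eq_of_le_of_finrank_eq (Submodule.map_le_iff_le_comap.2 (h i))
      (by rw [toLin'_eq_act, finrank_map_act, hdim, hdim])⟩
  refine ⟨lt_of_le_of_ne inf_le_right ?_, ?_⟩
  · intro heq
    obtain ⟨a, ha, haa⟩ : ∃ a ∈ D 0, f a a = 1 := exists_aniso_in hf (hD.nondegenerate 0) fun h => by
      have := hdim 0; rw [h, finrank_bot] at this; omega
    obtain ⟨b, hb, hbb⟩ : ∃ b ∈ D 1, f b b = 1 := exists_aniso_in hf (hD.nondegenerate 1) fun h => by
      have := hdim 1; rw [h, finrank_bot] at this; omega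
    obtain ⟨β, hβ⟩ := exists_scale hf (show f b b ≠ 0 by rw [hbb]; exact one_ne_zero) (a := -1)
      (by rw [map_neg, map_one])
    have hv : f (a + β • b) (a + β • b) = 0 := by
      rw [hnorm (by decide) a ha _ ((D 1).smul_mem β hb), haa, hβ, add_neg_cancel]
    obtain ⟨σ, hσ⟩ := (inf_eq_right.1 heq) (hU0 _ θ hv hθ)
    obtain ⟨w, hw, hw0, hwa⟩ : ∃ w ∈ D 0, w ≠ 0 ∧ f w a = 0 := by
      obtain ⟨y, hy, hya⟩ := SetLike.not_le_iff_exists.1 (show ¬ D 0 ≤ F ∙ a by
        intro h
        have := Submodule.finrank_mono h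
        rw [hdim, finrank_span_singleton (by rintro rfl; rw [zero_left hf] at haa; exact zero_ne_one haa)] at this
        omega)
      refine ⟨y - f y a • a, (D 0).sub_mem hy ((D 0).smul_mem _ ha), fun h => hya ?_, ?_⟩
      · rw [sub_eq_zero.1 h]; exact Submodule.smul_mem _ _ (Submodule.mem_span_singleton_self a)
      · rw [sub_left hf, smul_left hf, haa, mul_one, sub_self]
    have h1 : act (utv hf (a + β • b) θ) w ∈ D (σ 0) := by rw [← hσ 0]; exact ⟨w, hw, rfl⟩
    rw [act_utv hf hv, add_right hf, hwa, (horth (j := 1) (by decide) w hw _ ((D 1).smul_mem β hb)).1, add_zero,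
      mul_zero, zero_smul, add_zero] at h1
    have hσ0 : σ 0 = 0 := by
      by_contra h
      exact hw0 (hdisj (j := 1) (by decide) w hw ((show σ 0 = 1 by omega) ▸ h1))
    have h2 : act (utv hf (a + β • b) θ) a ∈ D 0 := by
      have : act (utv hf (a + β • b) θ) a ∈ D (σ 0) := by rw [← hσ 0]; exact ⟨a, ha, rfl⟩
      rwa [hσ0] at this
    rw [act_utv hf hv, add_right hf, haa, (horth (j := 1) (by decide) a ha _ ((D 1).smul_mem β hb)).1, add_zero,
      mul_one, (D 0).add_mem_iff_right ha, (D 0).smul_mem_iff hθ0, (D 0).add_mem_iff_right ha] at h2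
    have h3 := hdisj (j := 1) (by decide) _ h2 ((D 1).smul_mem β hb)
    rw [h3, zero_left hf, eq_comm, neg_eq_zero] at hβ
    exact one_ne_zero hβ
  intro M hM1 hM2
  by_cases hsub : M ≤ Cfsg.Geo.decompositionStabilizer D
  · exact Or.inl (le_antisymm (le_inf hsub hM2) hM1)
  right
  obtain ⟨g, hgM, hg⟩ := SetLike.not_le_iff_exists.1 hsub
  have hgf : g ∈ uiso f := (hM2 hgM).1
  have hRD : ∀ i, ∀ u ∈ D i, f u u = 0 → RootIn hf M u := by
    intro i u hu huu
    refine ⟨huu, fun c hc => hM1 ⟨hmem _ 1 fun l z hz => ?_, hU0 u c huu hc⟩⟩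
    rw [act_utv hf huu, Equiv.Perm.one_apply]
    rcases eq_or_ne l i with rfl | hl
    · exact (D l).add_mem hz ((D l).smul_mem _ hu)
    · rw [(horth hl u hu z hz).2, mul_zero, zero_smul, add_zero]; exact hz
  -- moves inside one plane
  have step : ∀ i j : Fin 2, j ≠ i → ∀ p ∈ D i, ∀ r ∈ D i, ∀ b ∈ D j, f r r = f p p → f p p ≠ 0 →
      f p (r - p) ≠ 0 → RootIn hf M (p + b) → RootIn hf M (r + b) := by
    intro i j hij p hp r hr b hb hpr hp0 hne h
    by_cases hu : f (r - p) (r - p) = 0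
    · refine rootIn_step hf (v := p + b) ?_ h ?_ ?_
      · rw [add_sub_add_right_eq_sub]; exact hRD i _ ((D i).sub_mem hr hp) hu
      · rw [add_sub_add_right_eq_sub, add_left hf, (horth hij _ ((D i).sub_mem hr hp) b hb).2, add_zero]
        exact hne
      · rw [hnorm hij p hp b hb, hnorm hij r hr b hb, hpr]
    obtain ⟨l, hl⟩ : ∃ l, l = 1 + f (r - p) (r - p) / f p (r - p) := ⟨_, rfl⟩
    have hσ : τ (f p (r - p)) = f (r - p) p := herm' hf _ _
    have hl1 : l * τ l = 1 := by
      have hne' : f (r - p) p ≠ 0 := ne_symm hf hne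
      rw [hl, map_add, map_one, map_div₀, hσ, herm' hf]
      field_simp
      simp only [sub_left hf, sub_right hf] at *
      linear_combination (f r r - f r p - (f p r - f p p)) * hpr
    obtain ⟨d, hd, hdl⟩ := exists_qref hf hu hl1
    obtain ⟨w, hw, hwr, hww⟩ : ∃ w ∈ D i, f w r = 0 ∧ f w w ≠ 0 := by
      have hr0 : f r r ≠ 0 := hpr ▸ hp0
      obtain ⟨y, hy, hyr⟩ := SetLike.not_le_iff_exists.1 (show ¬ D i ≤ F ∙ r by
        intro h
        have := Submodule.finrank_mono h
        rw [hdim, finrank_span_singleton (by rintro rfl; exact hr0 (zero_left hf _))] at this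
        omega)
      obtain ⟨w, hwdef⟩ : ∃ w, w = y - (f y r / f r r) • r := ⟨_, rfl⟩
      have hw : w ∈ D i := hwdef ▸ (D i).sub_mem hy ((D i).smul_mem _ hr)
      have hwr : f w r = 0 := by rw [hwdef, sub_left hf, smul_left hf, div_mul_cancel₀ _ hr0, sub_self]
      refine ⟨w, hw, hwr, fun hww => ?_⟩
      have hw0 : w ≠ 0 := fun h => hyr (by
        rw [sub_eq_zero.1 (hwdef.symm.trans h)]
        exact Submodule.smul_mem _ _ (Submodule.mem_span_singleton_self r))
      obtain ⟨x, hx, hwx⟩ := (hD.nondegenerate i w hw hw0).2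
      have hwin : w ∉ F ∙ r := fun h => by
        obtain ⟨k, hk⟩ := Submodule.mem_span_singleton.1 h
        rw [← hk, smul_left hf, mul_eq_zero, or_iff_left hr0] at hwr
        exact hw0 (by rw [← hk, hwr, zero_smul])
      have hspan : D i ≤ F ∙ r ⊔ F ∙ w := by
        refine (Submodule.eq_of_le_of_finrank_le (sup_le ((Submodule.span_singleton_le_iff_mem _ _).2 hr)
          ((Submodule.span_singleton_le_iff_mem _ _).2 hw)) ?_).ge
        rw [Submodule.finrank_sup_span_singleton hwin, hdim,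
          finrank_span_singleton (by rintro rfl; exact hr0 (zero_left hf _))]
      obtain ⟨_, h1, _, h2, rfl⟩ := Submodule.mem_sup.1 (hspan hx)
      obtain ⟨k, rfl⟩ := Submodule.mem_span_singleton.1 h1
      obtain ⟨m, rfl⟩ := Submodule.mem_span_singleton.1 h2
      exact hwx (by rw [add_right hf, smul_right hf, smul_right hf, hwr, hww]; ring)
    obtain ⟨d', hd', hdl'⟩ := exists_qref hf hww (l := τ l) (by rw [hf.involutive, mul_comm, hl1])
    have hu' : r - p ∈ D i := (D i).sub_mem hr hp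
    have hfix : ∀ z ∈ D j, act (d' * d) z = z := by
      intro z hz
      rw [act_mul, hdl, (horth hij _ hu' z hz).2, mul_zero, zero_div, zero_smul, add_zero, hdl',
        (horth hij _ hw z hz).2, mul_zero, zero_div, zero_smul, add_zero]
    have hstay : ∀ z ∈ D i, act (d' * d) z ∈ D i := by
      intro z hz
      rw [act_mul, hdl, hdl']
      exact (D i).add_mem ((D i).add_mem hz ((D i).smul_mem _ hu')) ((D i).smul_mem _ hw)
    have hdp : act (d' * d) p = r := by
      rw [act_mul, hdl, hl, add_sub_cancel_left, div_mul_cancel₀ _ hne, div_self hu, one_smul,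
        add_sub_cancel, hdl', eq_zero_symm hf hwr, mul_zero, zero_div, zero_smul, add_zero]
    have hdM : d' * d ∈ M := by
      refine hM1 ⟨hmem _ 1 fun k z hz => ?_, mul_mem hd' hd, mem_sl ?_⟩
      · rw [Equiv.Perm.one_apply]
        rcases (show k = i ∨ k = j by omega) with rfl | rfl
        · exact hstay z hz
        · rw [hfix z hz]; exact hz
      rw [Units.val_mul, Matrix.det_mul, det_qref hf hww hdl', det_qref hf hu hdl, mul_comm, hl1]
    have := rootIn_conj hf hdM (mul_mem hd' hd) h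
    rwa [map_add, hfix b hb, hdp] at this
  obtain ⟨l₀, hl₀, hl₀τ⟩ := exists_norm_one_moved hF (by omega) hτ
  have hl₀1 : l₀ ≠ 1 := fun h => hl₀τ (by rw [h, map_one])
  have move : ∀ i j : Fin 2, j ≠ i → ∀ p ∈ D i, ∀ r ∈ D i, ∀ b ∈ D j, f r r = f p p → f p p ≠ 0 →
      RootIn hf M (p + b) → RootIn hf M (r + b) := by
    intro i j hij p hp r hr b hb hpr hp0 h
    by_cases hne : f p (r - p) = 0
    swap; · exact step i j hij p hp r hr b hb hpr hp0 hne h
    rw [sub_right hf, sub_eq_zero] at hne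
    have hlb : f (l₀ • r) (l₀ • r) = f r r := by
      rw [smul_left hf, smul_right hf, ← mul_assoc, hl₀, one_mul]
    have h1 : RootIn hf M (l₀ • r + b) := by
      refine step i j hij p hp _ ((D i).smul_mem _ hr) b hb (hlb.trans hpr) hp0 ?_ h
      rw [sub_right hf, smul_right hf, hne]
      intro h'
      have h'' : (τ l₀ - 1) * f p p = 0 := by linear_combination h'
      rw [mul_eq_zero, or_iff_left hp0, sub_eq_zero, ← map_one τ] at h''
      exact hl₀1 (τ.injective h'')
    refine step i j hij _ ((D i).smul_mem _ hr) r hr b hb hlb.symm (by rw [hlb, hpr]; exact hp0) ?_ h1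
    rw [sub_right hf, smul_left hf, hlb, sub_ne_zero]
    intro h'
    have h'' : (l₀ - 1) * f r r = 0 := by linear_combination h'
    rw [mul_eq_zero, or_iff_left (hpr ▸ hp0), sub_eq_zero] at h''
    exact hl₀1 h''
  -- a centre outside the two planes
  obtain ⟨a, ha, b, hb, ha0, hb0, hab⟩ :
      ∃ a ∈ D 0, ∃ b ∈ D 1, a ≠ 0 ∧ b ≠ 0 ∧ RootIn hf M (a + b) := by
    by_contra hno; push Not at hno
    have hside : ∀ i, ∀ u ∈ D i, f u u = 0 → ∃ l, act g u ∈ D l := by
      intro i u hu huu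
      have h := rootIn_conj hf hgM hgf (hRD i u hu huu)
      obtain ⟨p, hp, r, hr, e'⟩ := hrep (j := (1 : Fin 2)) (i := 0) (by decide) (act g u)
      rw [← e'] at h ⊢
      rcases eq_or_ne p 0 with rfl | hp0
      · exact ⟨1, by rw [zero_add]; exact hr⟩
      rcases eq_or_ne r 0 with rfl | hr0
      · exact ⟨0, by rw [add_zero]; exact hp⟩
      exact absurd h (hno p hp r hr hp0 hr0)
    have hto : ∀ i, ∃ l, ∀ x ∈ D i, act g x ∈ D l := by
      intro i
      obtain ⟨u, hu, hu0, huu⟩ := hiso i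
      obtain ⟨z, hz, hzz, hzu⟩ := hpart i u hu hu0 huu
      obtain ⟨l, hl⟩ := hside i u hu huu
      obtain ⟨l', hl'⟩ := hside i z hz hzz
      have hll : l' = l := by
        by_contra hne
        have := (horth hne _ hl _ hl').2
        rw [mem_uiso.1 hgf, hzu] at this
        exact one_ne_zero this
      subst hll
      refine ⟨l', fun x hx => ?_⟩
      have hzu' : z ∉ F ∙ u := fun h => by
        obtain ⟨k, rfl⟩ := Submodule.mem_span_singleton.1 h
        rw [smul_left hf, huu, mul_zero] at hzu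
        exact zero_ne_one hzu
      have hspan : D i ≤ F ∙ u ⊔ F ∙ z := by
        refine (Submodule.eq_of_le_of_finrank_le (sup_le ((Submodule.span_singleton_le_iff_mem _ _).2 hu)
          ((Submodule.span_singleton_le_iff_mem _ _).2 hz)) ?_).ge
        rw [Submodule.finrank_sup_span_singleton hzu', hdim, finrank_span_singleton hu0]
      obtain ⟨_, h1, _, h2, rfl⟩ := Submodule.mem_sup.1 (hspan hx)
      obtain ⟨k, rfl⟩ := Submodule.mem_span_singleton.1 h1
      obtain ⟨m, rfl⟩ := Submodule.mem_span_singleton.1 h2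
      rw [map_add, map_smul, map_smul]
      exact (D l').add_mem ((D l').smul_mem _ hl) ((D l').smul_mem _ hl')
    choose σ hσ using hto
    refine hg (hmem g (Equiv.ofBijective σ (Finite.injective_iff_bijective.1 ?_)) hσ)
    intro x y hxy
    by_contra hne
    obtain ⟨u, hu, hu0, -⟩ := hiso x
    have e2 : (D y).map (act g) = D (σ y) :=
      Submodule.eq_of_le_of_finrank_eq (Submodule.map_le_iff_le_comap.2 (hσ y))
        (by rw [finrank_map_act, hdim, hdim])
    have hgu : act g u ∈ (D y).map (act g) := by rw [e2, ← hxy]; exact hσ x u hu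
    obtain ⟨w, hw, hwu⟩ := hgu
    rw [act_injective g hwu] at hw
    exact hu0 (hdisj (Ne.symm hne) u hu hw)
  have h01 : (1 : Fin 2) ≠ 0 := by decide
  -- an anisotropic component
  obtain ⟨a, ha, b, hb, haa, hab⟩ : ∃ a ∈ D 0, ∃ b ∈ D 1, f a a ≠ 0 ∧ RootIn hf M (a + b) := by
    by_cases haa : f a a = 0
    swap; · exact ⟨a, ha, b, hb, haa, hab⟩
    have hbb : f b b = 0 := by
      have := hab.1
      rwa [hnorm h01 a ha b hb, haa, zero_add] at this
    obtain ⟨z, hz, hzz, hza⟩ := hpart 0 a ha ha0 haa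
    obtain ⟨w, hw, hww, hwb⟩ := hpart 1 b hb hb0 hbb
    obtain ⟨x, hxdef⟩ : ∃ x, x = a + e • z := ⟨_, rfl⟩
    obtain ⟨y, hydef⟩ : ∃ y, y = b + e • w := ⟨_, rfl⟩
    have hx : x ∈ D 0 := hxdef ▸ (D 0).add_mem ha ((D 0).smul_mem e hz)
    have hy : y ∈ D 1 := hydef ▸ (D 1).add_mem hb ((D 1).smul_mem e hw)
    have haz : f a z = 1 := by rw [← herm' hf, hza, map_one]
    have hbw : f b w = 1 := by rw [← herm' hf, hwb, map_one]
    have hxx : f x x = 1 := by
      simp only [hxdef, add_left hf, add_right hf, smul_left hf, smul_right hf, haa, hzz, haz, hza]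
      linear_combination he
    have hyy : f y y = 1 := by
      simp only [hydef, add_left hf, add_right hf, smul_left hf, smul_right hf, hbb, hww, hbw, hwb]
      linear_combination he
    obtain ⟨d, hd, hdl⟩ := exists_qref hf (show f x x ≠ 0 by rw [hxx]; exact one_ne_zero) hl₀
    obtain ⟨d', hd', hdl'⟩ := exists_qref hf (show f y y ≠ 0 by rw [hyy]; exact one_ne_zero) (l := τ l₀)
      (by rw [hf.involutive, mul_comm, hl₀])
    have hdM : d' * d ∈ M := by
      refine hM1 ⟨hmem _ 1 fun k v hv => ?_, mul_mem hd' hd, mem_sl ?_⟩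
      · rw [Equiv.Perm.one_apply, act_mul, hdl, hdl']
        rcases (show k = 0 ∨ k = 1 by omega) with rfl | rfl
        · rw [add_left hf, smul_left hf, (horth h01 v hv y hy).1, (horth h01 x hx y hy).1, mul_zero, add_zero,
            mul_zero, zero_div, zero_smul, add_zero]
          exact (D 0).add_mem hv ((D 0).smul_mem _ hx)
        · rw [(horth h01 x hx v hv).2, mul_zero, zero_div, zero_smul, add_zero]
          exact (D 1).add_mem hv ((D 1).smul_mem _ hy)
      rw [Units.val_mul, Matrix.det_mul,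
        det_qref hf (show f y y ≠ 0 by rw [hyy]; exact one_ne_zero) hdl',
        det_qref hf (show f x x ≠ 0 by rw [hxx]; exact one_ne_zero) hdl, mul_comm, hl₀]
    have hax : f a x = τ e := by
      rw [hxdef, add_right hf, smul_right hf, haa, haz, zero_add, mul_one]
    have hby : f b y = τ e := by
      rw [hydef, add_right hf, smul_right hf, hbb, hbw, zero_add, mul_one]
    obtain ⟨A, hA⟩ : ∃ A, A = (l₀ - 1) * τ e * e := ⟨_, rfl⟩
    obtain ⟨B, hB⟩ : ∃ B, B = (τ l₀ - 1) * τ e * e := ⟨_, rfl⟩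
    obtain ⟨a', ha'def⟩ : ∃ a', a' = a + ((l₀ - 1) * τ e) • x := ⟨_, rfl⟩
    obtain ⟨b', hb'def⟩ : ∃ b', b' = b + ((τ l₀ - 1) * τ e) • y := ⟨_, rfl⟩
    have ha' : a' ∈ D 0 := ha'def ▸ (D 0).add_mem ha ((D 0).smul_mem _ hx)
    have hb' : b' ∈ D 1 := hb'def ▸ (D 1).add_mem hb ((D 1).smul_mem _ hy)
    have h1 := rootIn_conj hf hdM (mul_mem hd' hd) hab
    rw [act_mul, hdl, hdl', add_left hf a b x, hax, (horth h01 x hx b hb).2, add_zero, hxx, div_one,
      add_left hf, smul_left hf, (horth h01 x hx y hy).1, mul_zero, add_zero, add_left hf,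
      (horth h01 a ha y hy).1, zero_add, hby, hyy, div_one,
      show a + b + ((l₀ - 1) * τ e) • x + ((τ l₀ - 1) * τ e) • y = a' + b' by rw [ha'def, hb'def]; abel] at h1
    have hfa : f a' a = A := by
      rw [ha'def, add_left hf, smul_left hf, haa, zero_add, ← herm' hf, hax, hf.involutive, hA]
    have hfb : f b' b = B := by
      rw [hb'def, add_left hf, smul_left hf, hbb, zero_add, ← herm' hf, hby, hf.involutive, hB]
    have hfvu : f (a' + b') (a + b) = A + B := by
      rw [add_left hf, add_right hf, add_right hf, hfa, hfb, (horth h01 a' ha' b hb).1,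
        (horth h01 a ha b' hb').2]
      ring
    have h2 := rootIn_add hf hab h1 hθ
    rw [hfvu, show a' + b' + (θ * (A + B)) • (a + b) = (a' + (θ * (A + B)) • a) + (b' + (θ * (A + B)) • b) by
      module] at h2
    refine ⟨_, (D 0).add_mem ha' ((D 0).smul_mem _ ha), _, (D 1).add_mem hb' ((D 1).smul_mem _ hb), ?_, h2⟩
    have ha'a' : f a' a' = 0 := by
      simp only [ha'def, add_left hf, add_right hf, smul_left hf, smul_right hf, haa, hax, ← herm' hf a x, hxx,
        map_mul, map_sub, map_one, hf.involutive]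
      linear_combination (τ e * e) * hl₀
    have hN : τ e * e ≠ 0 := by
      refine mul_ne_zero ((map_ne_zero τ).2 ?_) ?_ <;>
      · rintro rfl; rw [map_zero, add_zero] at he; exact zero_ne_one he
    have key : f (a' + (θ * (A + B)) • a) (a' + (θ * (A + B)) • a) =
        θ * ((τ e * e) * (τ e * e)) * ((l₀ + τ l₀ - 2) * (τ l₀ - l₀)) := by
      rw [add_left hf, add_right hf, add_right hf, ha'a', smul_left hf, smul_left hf, smul_right hf,
        smul_right hf, haa, ← herm' hf a' a, hfa, map_mul τ θ (A + B), eq_neg_of_add_eq_zero_right hθ]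
      simp only [hA, hB, map_add, map_sub, map_mul, map_one, hf.involutive]
      ring
    rw [key]
    refine mul_ne_zero (mul_ne_zero hθ0 (mul_ne_zero hN hN)) (mul_ne_zero ?_ (sub_ne_zero.2 hl₀τ))
    intro h
    have : (l₀ - 1) * (l₀ - 1) = 0 := by linear_combination l₀ * h - hl₀
    exact hl₀1 (sub_eq_zero.1 (mul_self_eq_zero.1 this))
  -- all centres with anisotropic components
  have hbb : f b b = -f a a := by
    have := hab.1
    rw [hnorm h01 a ha b hb] at this
    linear_combination this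
  have hall : ∀ p ∈ D 0, ∀ r ∈ D 1, f p p ≠ 0 → f r r = -f p p → RootIn hf M (p + r) := by
    intro p hp r hr hp0 hpr
    obtain ⟨k, hk⟩ := exists_scale hf haa (herm' hf p p)
    have h := rootIn_smul hf hab k
    rw [smul_add] at h
    have hkb : f (k • b) (k • b) = f r r := by
      rw [smul_left hf, smul_right hf, hbb, hpr, ← hk, smul_left hf, smul_right hf]; ring
    have h1 := move 0 1 h01 _ ((D 0).smul_mem k ha) p hp _ ((D 1).smul_mem k hb) hk.symm (by rw [hk]; exact hp0) h
    rw [add_comm] at h1 ⊢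
    exact move 1 0 h01.symm _ ((D 1).smul_mem k hb) r hr p hp hkb.symm
      (by rw [hkb, hpr]; exact neg_ne_zero.2 hp0) h1
  refine le_antisymm hM2 (su_le_of_utv_four hf hn4 M fun v c hv hc => ?_)
  suffices h : RootIn hf M v from h.2 c hc
  obtain ⟨p, hp, r, hr, rfl⟩ := hrep h01 v
  have hnv : f r r = -f p p := by
    rw [hnorm h01 p hp r hr] at hv; linear_combination hv
  by_cases hpp : f p p = 0
  swap; · exact hall p hp r hr hpp hnv
  have hrr : f r r = 0 := by rw [hnv, hpp, neg_zero]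
  rcases eq_or_ne p 0 with rfl | hp0
  · rw [zero_add]; exact hRD 1 r hr hrr
  rcases eq_or_ne r 0 with rfl | hr0
  · rw [add_zero]; exact hRD 0 p hp hpp
  obtain ⟨z, hz, hzz, hzp⟩ := hpart 0 p hp hp0 hpp
  obtain ⟨w, hw, hww, hwr⟩ := hpart 1 r hr hr0 hrr
  have hpz : f p z = 1 := by rw [← herm' hf, hzp, map_one]
  have hrw : f r w = 1 := by rw [← herm' hf, hwr, map_one]
  obtain ⟨α, hα, hα0, hα1, -⟩ := exists_fixed_ne hF hq hτ
  have he0 : e ≠ 0 := by rintro rfl; rw [map_zero, add_zero] at he; exact zero_ne_one he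
  obtain ⟨y, hydef⟩ : ∃ y, y = θ - e := ⟨_, rfl⟩
  have hy0 : y ≠ 0 := by
    rw [hydef, sub_ne_zero]; rintro rfl; rw [hθ] at he; exact zero_ne_one he
  obtain ⟨ε, hε⟩ := exists_trace hf.involutive hf.ne_refl α hα
  obtain ⟨ε', hε'⟩ := exists_trace hf.involutive hf.ne_refl (-α) (by rw [map_neg, hα])
  obtain ⟨p₁, hp₁def⟩ : ∃ p₁, p₁ = (ε / e) • p + τ e • z := ⟨_, rfl⟩
  obtain ⟨r₁, hr₁def⟩ : ∃ r₁, r₁ = (ε' / y) • r + τ y • w := ⟨_, rfl⟩
  have hp₁ : p₁ ∈ D 0 := hp₁def ▸ (D 0).add_mem ((D 0).smul_mem _ hp) ((D 0).smul_mem _ hz)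
  have hr₁ : r₁ ∈ D 1 := hr₁def ▸ (D 1).add_mem ((D 1).smul_mem _ hr) ((D 1).smul_mem _ hw)
  have hpp₁ : f p p₁ = e := by
    rw [hp₁def, add_right hf, smul_right hf, smul_right hf, hpp, hpz, hf.involutive]; ring
  have hrr₁ : f r r₁ = y := by
    rw [hr₁def, add_right hf, smul_right hf, smul_right hf, hrr, hrw, hf.involutive]; ring
  have hn₁ : f p₁ p₁ = α := by
    simp only [hp₁def, add_left hf, add_right hf, smul_left hf, smul_right hf, hpp, hpz, hzp, hzz, hf.involutive,
      map_div₀]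
    have : τ e ≠ 0 := (map_ne_zero τ).2 he0
    field_simp
    linear_combination (e * τ e) * hε
  have hn₁' : f r₁ r₁ = -α := by
    simp only [hr₁def, add_left hf, add_right hf, smul_left hf, smul_right hf, hrr, hrw, hwr, hww, hf.involutive,
      map_div₀]
    have : τ y ≠ 0 := (map_ne_zero τ).2 hy0
    field_simp
    linear_combination (y * τ y) * hε'
  have h1 := hall p₁ hp₁ r₁ hr₁ (by rw [hn₁]; exact hα0) (by rw [hn₁', hn₁])
  have e1 : f (p - p₁) (p - p₁) = α - 1 := by
    simp only [sub_left hf, sub_right hf, hpp, hn₁, ← herm' hf p p₁, hpp₁]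
    linear_combination -he
  have e2 : f (r - r₁) (r - r₁) = 1 - α := by
    simp only [sub_left hf, sub_right hf, hrr, hn₁', ← herm' hf r r₁, hrr₁, hydef, map_sub]
    linear_combination he - hθ
  have h2 := hall (p - p₁) ((D 0).sub_mem hp hp₁) (r - r₁) ((D 1).sub_mem hr hr₁)
    (by rw [e1]; exact sub_ne_zero.2 hα1) (by rw [e1, e2]; ring)
  have h3 := rootIn_add hf h1 h2 (c := θ⁻¹) (by
    rw [map_inv₀, eq_neg_of_add_eq_zero_right hθ, inv_neg, add_neg_cancel])
  have e3 : f (p - p₁ + (r - r₁)) (p₁ + r₁) = θ := by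
    simp only [add_left hf, add_right hf, sub_left hf, hpp₁, hrr₁, hn₁, hn₁', hydef,
      (horth h01 p hp r₁ hr₁).1, (horth h01 p₁ hp₁ r₁ hr₁).1, (horth h01 p₁ hp₁ r hr).2,
      (horth h01 p₁ hp₁ r₁ hr₁).2]
    ring
  rwa [e3, inv_mul_cancel₀ hθ0, one_smul, show p - p₁ + (r - r₁) + (p₁ + r₁) = p + r by abel] at h3

end Cfsg.Agent.MaxCl.SU4
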