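/-
An overgroup of the monomial group in dimension four containing a non-monomial element that fixes a coordinate line
contains the stabiliser of a coordinate plane decomposition or, over the field of four elements, of a coordinate
point, so it is everything.
-/
import Cfsg.Agent.Lib.MaxCl.SU4.FrameFix
import Cfsg.Agent.Lib.MaxCl.SU4.FramePlane
import Cfsg.Agent.Lib.MaxCl.SU4.Point
import Cfsg.Agent.Lib.MaxCl.SU4.TwoPlanes

set_option autoImplicit false
set_option linter.unusedSectionVars false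

namespace Cfsg.Agent.MaxCl.SU4.Frame

open scoped MatrixGroups Matrix
open Unit

theorem exists_label {i l : Fin 4} (h : i ≠ l) : ∃ e : Equiv.Perm (Fin 4), e 0 = i ∧ e 3 = l := by
  revert h; revert i l; decide +kernel

theorem exists_label' {k l : Fin 4} (h : k ≠ l) : ∃ e : Equiv.Perm (Fin 4), e 2 = k ∧ e 3 = l := by
  revert h; revert k l; decide +kernel

theorem label_cases (e : Equiv.Perm (Fin 4)) (c : Fin 4) : c = e 0 ∨ c = e 1 ∨ c = e 2 ∨ c = e 3 := by
  obtain ⟨i, rfl⟩ := e.surjective c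
  fin_cases i <;> simp

variable {F : Type*} [Field F] [Fintype F] {σ : F ≃+* F} {q : ℕ} {M : Subgroup (GL (Fin 4) F)}

/-- The vectors supported on two coordinates. -/
def pairSub (i j : Fin 4) : Submodule F (Fin 4 → F) where
  carrier := {v | ∀ c, c ≠ i → c ≠ j → v c = 0}
  add_mem' {x y} hx hy := fun c h h' => by simp [hx c h h', hy c h h']
  zero_mem' := fun c _ _ => rfl
  smul_mem' r x hx := fun c h h' => by simp [hx c h h']

theorem finrank_pairSub {i j : Fin 4} (h : i ≠ j) : Module.finrank F (pairSub (F := F) i j) = 2 := by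
  have hli : LinearIndependent F ![(Pi.single i 1 : Fin 4 → F), Pi.single j 1] := by
    rw [LinearIndependent.pair_iff]
    intro s t e
    have e1 := congrFun e i
    have e2 := congrFun e j
    simp [h, h.symm] at e1 e2
    exact ⟨e1, e2⟩
  have hsp : Submodule.span F (Set.range ![(Pi.single i 1 : Fin 4 → F), Pi.single j 1]) = pairSub i j := by
    refine le_antisymm (Submodule.span_le.2 ?_) fun v hv => ?_
    · rintro _ ⟨r, rfl⟩ c hc hc'
      fin_cases r <;> simp [hc, hc']
    · rw [Submodule.mem_span_range_iff_exists_fun]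
      refine ⟨![v i, v j], ?_⟩
      funext c
      rw [Fin.sum_univ_two]
      rcases eq_or_ne c i with rfl | hc
      · simp [h]
      rcases eq_or_ne c j with rfl | hc'
      · simp [hc]
      · simp [hc, hc', hv c hc hc']
  rw [← hsp, finrank_span_eq_card hli, Fintype.card_fin]

/-- Two coordinates moved transitively, the two others fixed. -/
def Full (σ : F ≃+* F) (M : Subgroup (GL (Fin 4) F)) (e : Equiv.Perm (Fin 4)) : Prop :=
  ∀ c d : F, c * σ c + d * σ d = 1 → ∃ h ∈ M, ∃ r : F, r ≠ 0 ∧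
    act h (Pi.single (e 0) 1) = r • (c • Pi.single (e 0) 1 + d • Pi.single (e 1) 1) ∧
    ∀ k, k = e 2 ∨ k = e 3 → ∃ u : F, u * σ u = 1 ∧ act h (Pi.single k 1) = u • Pi.single k 1

/-- The four elements of a labelling are different. -/
theorem label_ne (e : Equiv.Perm (Fin 4)) {a b : Fin 4} (h : a ≠ b) : e a ≠ e b := e.injective.ne h

namespace Fr

variable (C : Fr σ q M)
include C

theorem fix_inv {m : GL (Fin 4) F} (hm : m ∈ uiso (herm (ι := Fin 4) σ)) {k : Fin 4} {s : F}
    (hs : s * σ s = 1) (h : act m (Pi.single k 1) = s • Pi.single k 1) :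
    act m⁻¹ (Pi.single k 1) = σ s • Pi.single k 1 := by
  apply act_injective m
  rw [act_act_inv, map_smul, h, smul_smul, mul_comm, hs, one_smul]

theorem fix_zero {m : GL (Fin 4) F} (hm : m ∈ uiso (herm (ι := Fin 4) σ)) {k : Fin 4} {s : F} (hs : s ≠ 0)
    (h : act m (Pi.single k 1) = s • Pi.single k 1) {v : Fin 4 → F} (hv : v k = 0) : act m v k = 0 := by
  have e := mem_uiso.1 hm v (Pi.single k 1)
  rw [h, smul_right C.hU, C.single_right, C.single_right, hv] at e
  exact (mul_eq_zero.1 e).resolve_left ((map_ne_zero σ).2 hs)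

theorem fix_scalar {m : GL (Fin 4) F} (hm : m ∈ uiso (herm (ι := Fin 4) σ)) {k : Fin 4} {s : F}
    (h : act m (Pi.single k 1) = s • Pi.single k 1) : s * σ s = 1 := by
  have e := mem_uiso.1 hm (Pi.single k 1) (Pi.single k 1)
  rwa [h, smul_left C.hU, smul_right C.hU, C.single_left, Pi.single_eq_same, map_one, mul_one] at e

theorem line_of_zero {v : Fin 4 → F} {c : Fin 4} (h : ∀ k, k ≠ c → v k = 0) : v = v c • Pi.single c 1 := by
  funext k
  by_cases hk : k = c
  · subst hk; simp
  · simp [h k hk, hk]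

/-- Elements of `M` fixing the coordinate lines outside a given vector. -/
def fixOut (i : Fin 4) (w : Fin 4 → F) : Subgroup (GL (Fin 4) F) where
  carrier := {h | h ∈ M ∧ ∀ c, c ≠ i → w c = 0 → ∃ s : F, s * σ s = 1 ∧ act h (Pi.single c 1) = s • Pi.single c 1}
  mul_mem' := by
    rintro g h ⟨hg, eg⟩ ⟨hh, eh⟩
    refine ⟨M.mul_mem hg hh, fun c hc hw => ?_⟩
    obtain ⟨s, hs, es⟩ := eh c hc hw
    obtain ⟨r, hr, er⟩ := eg c hc hw
    exact ⟨s * r, by rw [map_mul]; linear_combination (r * σ r) * hs + hr, by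
      rw [act_mul, es, map_smul, er, smul_smul]⟩
  one_mem' := ⟨M.one_mem, fun c _ _ => ⟨1, by simp, by rw [act_one, one_smul]⟩⟩
  inv_mem' := by
    rintro h ⟨hh, eh⟩
    refine ⟨M.inv_mem hh, fun c hc hw => ?_⟩
    obtain ⟨s, hs, es⟩ := eh c hc hw
    exact ⟨σ s, by rw [invol C.hq, mul_comm, hs], C.fix_inv (C.iso hh) hs es⟩

/-- A rotation about a column gives transitivity on a plane. -/
theorem plane_use {m : GL (Fin 4) F} (hm : m ∈ M) {a l i : Fin 4} {s ρ : F} (hs : s * σ s = 1)
    (hml : act m (Pi.single l 1) = s • Pi.single l 1) (hil : i ≠ l) {w : Fin 4 → F} (hwi : w i = 0) (hwl : w l = 0)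
    (hww : herm σ w w = 1) (hρ : ρ ≠ 0) (hxi : act m (Pi.single a 1) i ≠ 0)
    (hx : act m (Pi.single a 1) = act m (Pi.single a 1) i • Pi.single i 1 + ρ • w) {c d : F}
    (hcd : c * σ c + d * σ d = 1) :
    ∃ h ∈ M, (∀ k, k ≠ i → w k = 0 → ∃ r : F, r * σ r = 1 ∧ act h (Pi.single k 1) = r • Pi.single k 1) ∧
      ∃ r : F, r ≠ 0 ∧ act h (Pi.single i 1) = r • (c • Pi.single i 1 + d • w) := by
  obtain ⟨x, hxdef⟩ : ∃ x, x = act m (Pi.single a 1) := ⟨_, rfl⟩
  rw [← hxdef] at hx hxi
  have hxl : x l = 0 := by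
    rw [hx]; simp [hil.symm, hwl]
  have hal : a ≠ l := by
    intro e; subst e
    rw [hxdef, hml] at hxl
    simp at hxl
    exact C.norm_one_ne hs hxl
  have huu : herm σ (Pi.single i 1) (Pi.single i 1) = 1 := by rw [C.single_left]; simp
  have huw : herm σ (Pi.single i 1) w = 0 := by rw [C.single_left, hwi, map_zero]
  obtain ⟨ξ, hξ, hord⟩ := exists_xi C.hq
  have hξne : ξ ≠ 1 := fun h => by
    have := Nat.le_of_dvd one_pos ((hord 1).1 (by rw [h, one_pow]))
    have := C.hq.two_le; omega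
  have hξξ : σ ξ ≠ ξ := fun h => by
    rw [h, ← pow_two] at hξ
    have := Nat.le_of_dvd two_pos ((hord 2).1 hξ)
    have := C.hq.two_le; omega
  obtain ⟨γ, hγ, hγ1, hγa⟩ : ∃ γ, γ * σ γ = 1 ∧ γ ≠ 1 ∧ 1 + (γ - 1) * σ (x i) * x i ≠ 0 := by
    by_contra hno
    push Not at hno
    have e1 := hno ξ hξ hξne
    have e2 := hno (σ ξ) (by rw [invol C.hq, mul_comm, hξ]) (fun h => hξne (σ.injective (by rw [h, map_one])))
    exact hξξ (mul_right_cancel₀ (mul_ne_zero ((map_ne_zero σ).2 hxi) hxi) (by linear_combination e2 - e1))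
  obtain ⟨h, hh, hz⟩ := C.exists_rot hm hal hγ
  simp only [← hxdef, hml] at hz
  have hwx : herm σ w x = σ ρ := by
    rw [hx, add_right C.hU, smul_right C.hU, smul_right C.hU, C.single_right, hwi, hww]; ring
  have hhH : h ∈ C.fixOut i w := by
    refine ⟨hh, fun k hk hwk => ?_⟩
    have hxk : x k = 0 := by rw [hx]; simp [hk, hwk]
    rcases eq_or_ne k l with rfl | hkl
    · refine ⟨σ γ, by rw [invol C.hq, mul_comm, hγ], ?_⟩
      rw [hz, C.single_left, hxk, smul_right C.hU, C.single_left]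
      simp only [Pi.single_eq_same, map_zero, map_one, mul_zero, zero_smul, add_zero, smul_smul, mul_one]
      match_scalars
      linear_combination (σ γ - 1) * hs
    · refine ⟨1, by simp, ?_⟩
      rw [hz, C.single_left, hxk, smul_right C.hU, C.single_left]
      simp [hkl.symm]
  have e1 : act h (Pi.single i 1) = (1 + (γ - 1) * σ (x i) * x i) • Pi.single i 1 + ((γ - 1) * σ (x i) * ρ) • w := by
    rw [hz, C.single_left, smul_right C.hU, C.single_left, Pi.single_eq_of_ne hil, map_zero, mul_zero, mul_zero,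
      zero_smul, add_zero]
    conv_lhs => enter [2, 2]; rw [hx]
    module
  have e2 : act h w = ((γ - 1) * σ ρ * x i) • Pi.single i 1 + (1 + (γ - 1) * σ ρ * ρ) • w := by
    rw [hz, hwx, smul_right C.hU, C.single_right, hwl, mul_zero, mul_zero, zero_smul, add_zero]
    conv_lhs => enter [2, 2]; rw [hx]
    module
  obtain ⟨h', hh', r, hr, e⟩ := plane_trans C.hq C.hU (C.fixOut i w) (fun g hg => C.iso hg.1) huu hww huw
    (fun γ hγ => by
      obtain ⟨t, ht, htx⟩ := C.exists_phase hil hγ
      refine ⟨t, ⟨ht, fun k hk _ => ⟨if k = l then σ γ else 1, ?_, funext fun j => ?_⟩⟩, funext fun j => ?_,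
        funext fun j => ?_⟩
      · split_ifs
        · rw [invol C.hq, mul_comm, hγ]
        · simp
      · rw [htx]
        rcases eq_or_ne j k with rfl | hjk
        · simp [hk]
        · simp [hjk]
      · rw [htx]
        rcases eq_or_ne j i with rfl | hji
        · simp
        · simp [hji]
      · rw [htx]
        rcases eq_or_ne j i with rfl | hji
        · simp [hwi]
        rcases eq_or_ne j l with rfl | hjl
        · simp [hwl]
        · simp [hji, hjl])
    hhH hγa (mul_ne_zero (mul_ne_zero (sub_ne_zero.2 hγ1) ((map_ne_zero σ).2 hxi)) hρ) e1 e2 hcd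
  exact ⟨h', hh'.1, hh'.2, r, hr, e⟩

/-- A column with two zeros gives a full plane. -/
theorem full_of_two {m : GL (Fin 4) F} (hm : m ∈ M) {a : Fin 4} {e : Equiv.Perm (Fin 4)} {s : F} (hs : s * σ s = 1)
    (hml : act m (Pi.single (e 3) 1) = s • Pi.single (e 3) 1) (h0 : act m (Pi.single a 1) (e 0) ≠ 0)
    (h1 : act m (Pi.single a 1) (e 1) ≠ 0) (h2 : act m (Pi.single a 1) (e 2) = 0)
    (h3 : act m (Pi.single a 1) (e 3) = 0) : Full σ M e := by
  intro c d hcd
  have n01 := label_ne e (show (0 : Fin 4) ≠ 1 by decide)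
  have n02 := label_ne e (show (0 : Fin 4) ≠ 2 by decide)
  have n03 := label_ne e (show (0 : Fin 4) ≠ 3 by decide)
  have n12 := label_ne e (show (1 : Fin 4) ≠ 2 by decide)
  have n13 := label_ne e (show (1 : Fin 4) ≠ 3 by decide)
  obtain ⟨h, hh, hfix, r, hr, he⟩ := C.plane_use hm hs hml n03 (w := Pi.single (e 1) 1) (by simp [n01])
    (by simp [n13.symm]) (by rw [C.single_left]; simp) h1 h0 (by
      funext k
      rcases label_cases e k with rfl | rfl | rfl | rfl
      · simp [n01]
      · simp [n01.symm]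
      · simp [n02.symm, n12.symm, h2]
      · simp [n03.symm, n13.symm, h3]) hcd
  exact ⟨h, hh, r, hr, he, fun k hk => hfix k (by
    rcases hk with rfl | rfl
    · exact n02.symm
    · exact n03.symm) (by
    rcases hk with rfl | rfl <;> simp [n12.symm, n13.symm])⟩

/-- A fixed line outside the monomial group gives a full plane. -/
theorem exists_full (h4 : 4 ≤ q) {m : GL (Fin 4) F} (hm : m ∈ M) (hmm : ¬ IsMono m) {l : Fin 4} {s : F}
    (hs : s * σ s = 1) (hml : act m (Pi.single l 1) = s • Pi.single l 1) : ∃ e, Full σ M e := by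
  classical
  obtain ⟨a, ha⟩ := not_forall.1 hmm
  have hal : a ≠ l := by
    rintro rfl
    apply ha
    rw [hml]
    refine (Finset.card_le_card (t := {a}) fun x hx => ?_).trans (Finset.card_singleton a).le
    rw [mem_supp] at hx
    by_contra hne
    exact hx (by simp [show x ≠ a by simpa using hne])
  have hxl : act m (Pi.single a 1) l = 0 := by
    have := C.col_norm hm a l
    rw [if_neg hal, hml, smul_right C.hU, C.single_right] at this
    exact (mul_eq_zero.1 this).resolve_left ((map_ne_zero σ).2 (C.norm_one_ne hs))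
  -- two zeros
  have two : ∀ (m : GL (Fin 4) F), m ∈ M → ∀ (s : F) (a k : Fin 4), s * σ s = 1 →
      act m (Pi.single l 1) = s • Pi.single l 1 → act m (Pi.single a 1) l = 0 → k ≠ l →
      act m (Pi.single a 1) k = 0 → ¬ (supp (act m (Pi.single a 1))).card ≤ 1 → ∃ e, Full σ M e := by
    intro m hm s a k hs hml hxl hkl hxk hc
    obtain ⟨e, rfl, rfl⟩ := exists_label' hkl
    refine ⟨e, C.full_of_two hm hs hml ?_ ?_ hxk hxl⟩ <;> intro h0 <;> apply hc
    · refine (Finset.card_le_card (t := {e 1}) fun x hx => ?_).trans (Finset.card_singleton _).le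
      rw [mem_supp] at hx
      rcases label_cases e x with rfl | rfl | rfl | rfl
      · exact absurd h0 hx
      · simp
      · exact absurd hxk hx
      · exact absurd hxl hx
    · refine (Finset.card_le_card (t := {e 0}) fun x hx => ?_).trans (Finset.card_singleton _).le
      rw [mem_supp] at hx
      rcases label_cases e x with rfl | rfl | rfl | rfl
      · simp
      · exact absurd h0 hx
      · exact absurd hxk hx
      · exact absurd hxl hx
  by_cases hk : ∃ k, k ≠ l ∧ act m (Pi.single a 1) k = 0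
  · obtain ⟨k, hkl, hxk⟩ := hk
    exact two m hm s a k hs hml hxl hkl hxk ha
  push Not at hk
  -- three entries, not all of norm one
  obtain ⟨m, hm, s, hs, hml, a, hxl, hk, i, hil, hi⟩ : ∃ m ∈ M, ∃ s : F, s * σ s = 1 ∧
      act m (Pi.single l 1) = s • Pi.single l 1 ∧ ∃ a, act m (Pi.single a 1) l = 0 ∧
      (∀ k, k ≠ l → act m (Pi.single a 1) k ≠ 0) ∧
      ∃ i, i ≠ l ∧ act m (Pi.single a 1) i * σ (act m (Pi.single a 1) i) ≠ 1 := by
    by_cases hne : ∃ i, i ≠ l ∧ act m (Pi.single a 1) i * σ (act m (Pi.single a 1) i) ≠ 1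
    · exact ⟨m, hm, s, hs, hml, a, hxl, hk, hne⟩
    push Not at hne
    obtain ⟨x, hx⟩ : ∃ x, x = act m (Pi.single a 1) := ⟨_, rfl⟩
    rw [← hx] at hxl hk hne
    have h2 : (2 : F) = 0 := by
      have h1 := C.col_norm hm a a
      rw [if_pos rfl, ← hx, herm, ← Finset.add_sum_erase _ _ (Finset.mem_univ l), hxl, zero_mul,
        Finset.sum_congr rfl fun j hj => hne j (Finset.ne_of_mem_erase hj), Finset.sum_const,
        Finset.card_erase_of_mem (Finset.mem_univ l)] at h1
      simp at h1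
      linear_combination h1
    obtain ⟨γ, hγ, hγ1, hγ2, -, hγ3⟩ := exists_root_ne C.hq
    obtain ⟨h, hh, hz⟩ := C.exists_rot hm hal hγ
    simp only [← hx, hml] at hz
    obtain ⟨e, -, he3⟩ := exists_label hal
    have ni : e 0 ≠ l := he3 ▸ label_ne e (by decide)
    have nj : e 1 ≠ l := he3 ▸ label_ne e (by decide)
    have n01 := label_ne e (show (0 : Fin 4) ≠ 1 by decide)
    have hcol : ∀ k, act h (Pi.single (e 0) 1) k =
        (Pi.single (e 0) 1 : Fin 4 → F) k + (γ - 1) * σ (x (e 0)) * x k := fun k => by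
      rw [hz, C.single_left, smul_right C.hU, C.single_left, Pi.single_eq_of_ne ni]
      simp
    refine ⟨h, hh, σ γ, by rw [invol C.hq, mul_comm, hγ], ?_, e 0, ?_, ?_, e 1, nj, ?_⟩
    · rw [hz, C.single_left, hxl, smul_right C.hU, C.single_left]
      simp only [Pi.single_eq_same, map_zero, map_one, mul_zero, zero_smul, add_zero, smul_smul, mul_one]
      match_scalars
      linear_combination (σ γ - 1) * hs
    · rw [hcol, hxl, Pi.single_eq_of_ne ni.symm]; ring
    · intro k hkl h0
      rw [hcol] at h0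
      rcases eq_or_ne k (e 0) with rfl | hk0
      · rw [Pi.single_eq_same] at h0
        exact C.norm_one_ne hγ (by linear_combination h0 - (γ - 1) * hne (e 0) ni)
      · rw [Pi.single_eq_of_ne hk0, zero_add] at h0
        exact mul_ne_zero (mul_ne_zero (sub_ne_zero.2 hγ1) ((map_ne_zero σ).2 (hk _ ni))) (hk k hkl) h0
    · rw [hcol, Pi.single_eq_of_ne n01.symm, zero_add]
      intro h1
      apply hγ3 (by omega)
      simp only [map_mul, map_sub, map_one, invol C.hq] at h1
      have e1 := hne (e 0) ni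
      have e2 := hne (e 1) nj
      have ht : 2 - γ - σ γ = 1 := by
        linear_combination h1 - (γ - 1) * (σ γ - 1) * (x (e 1) * σ (x (e 1))) * e1 - (γ - 1) * (σ γ - 1) * e2 - hγ
      have hquad : γ * γ - γ + 1 = 0 := by linear_combination (-γ) * ht - hγ
      linear_combination (γ + 1) * hquad - h2
  obtain ⟨e, he0, he3⟩ := exists_label hil
  subst he0 he3
  obtain ⟨x, hx⟩ : ∃ x, x = act m (Pi.single a 1) := ⟨_, rfl⟩
  rw [← hx] at hxl hk hi
  have n01 := label_ne e (show (0 : Fin 4) ≠ 1 by decide)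
  have n02 := label_ne e (show (0 : Fin 4) ≠ 2 by decide)
  have n03 := label_ne e (show (0 : Fin 4) ≠ 3 by decide)
  have n13 := label_ne e (show (1 : Fin 4) ≠ 3 by decide)
  have n12 := label_ne e (show (1 : Fin 4) ≠ 2 by decide)
  obtain ⟨ρ, hρ⟩ := exists_norm (invol C.hq) C.hU.ne_refl (1 - x (e 0) * σ (x (e 0)))
    (by rw [map_sub, map_one, map_mul, invol C.hq, mul_comm])
  have hρ0 : ρ ≠ 0 := by
    rintro rfl
    rw [zero_mul] at hρ
    exact hi (by linear_combination hρ)
  obtain ⟨w, hw⟩ : ∃ w : Fin 4 → F, w = ρ⁻¹ • (x - x (e 0) • Pi.single (e 0) 1) := ⟨_, rfl⟩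
  have hw0 : w (e 0) = 0 := by simp [hw]
  have hw3 : w (e 3) = 0 := by simp [hw, n03.symm, hxl]
  have hwk : ∀ k, k ≠ e 0 → k ≠ e 3 → w k ≠ 0 := fun k h0 h3 => by
    simp [hw, h0, hρ0, hk k h3]
  have hww : herm σ w w = 1 := by
    have h1 := C.col_norm hm a a
    rw [if_pos rfl, ← hx] at h1
    rw [hw, smul_left C.hU, smul_right C.hU, sub_left C.hU, sub_right C.hU, sub_right C.hU]
    simp only [smul_left C.hU, smul_right C.hU, C.single_left, C.single_right, Pi.single_eq_same, map_one, mul_one,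
      h1, map_inv₀]
    have := (map_ne_zero σ).2 hρ0
    field_simp
    linear_combination -hρ
  obtain ⟨h, hh, hfix, r, hr, hcol⟩ := C.plane_use hm hs hml n03 hw0 hw3 hww hρ0 (a := a) (by
      rw [← hx]; exact hk _ n03) (by
      rw [← hx, hw, smul_inv_smul₀ hρ0, add_sub_cancel]) (c := 0) (d := 1) (by simp)
  obtain ⟨u, hu, hu'⟩ := hfix (e 3) n03.symm hw3
  rw [zero_smul, zero_add, one_smul] at hcol
  refine two h hh u (e 0) (e 0) hu hu' (by rw [hcol]; simp [hw3]) n03 (by rw [hcol]; simp [hw0]) fun hc => ?_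
  exact n12 (Finset.card_le_one.1 hc (e 1) (mem_supp.2 (by rw [hcol]; simp [hr, hwk _ n01.symm n13]))
    (e 2) (mem_supp.2 (by rw [hcol]; simp [hr, hwk _ n02.symm (label_ne e (show (2 : Fin 4) ≠ 3 by decide))])))

theorem hermForm_eq : Cfsg.hermForm 4 F q = herm (ι := Fin 4) σ := by
  funext x y
  simp only [Cfsg.hermForm, herm, C.hq.apply_eq]

theorem GU_eq : Cfsg.GU 4 F q = uiso (herm (ι := Fin 4) σ) := by rw [← C.hermForm_eq]; rfl

/-- A full plane gives everything. -/
theorem top_of_full (h3 : 3 ≤ q) {e : Equiv.Perm (Fin 4)} (hF : Full σ M e) : M = SUc σ := by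
  classical
  have n01 := label_ne e (show (0 : Fin 4) ≠ 1 by decide)
  have n02 := label_ne e (show (0 : Fin 4) ≠ 2 by decide)
  have n03 := label_ne e (show (0 : Fin 4) ≠ 3 by decide)
  have n12 := label_ne e (show (1 : Fin 4) ≠ 2 by decide)
  have n13 := label_ne e (show (1 : Fin 4) ≠ 3 by decide)
  have n23 := label_ne e (show (2 : Fin 4) ≠ 3 by decide)
  obtain ⟨D, hDdef⟩ : ∃ D : Fin 2 → Submodule F (Fin 4 → F),
      D = ![pairSub (e 0) (e 1), pairSub (e 2) (e 3)] := ⟨_, rfl⟩
  have mem0 : ∀ {v : Fin 4 → F}, v ∈ D 0 ↔ v (e 2) = 0 ∧ v (e 3) = 0 := fun {v} => by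
    rw [hDdef]
    refine ⟨fun h => ⟨h _ n02.symm n12.symm, h _ n03.symm n13.symm⟩, fun h c h0 h1 => ?_⟩
    rcases label_cases e c with rfl | rfl | rfl | rfl
    · exact absurd rfl h0
    · exact absurd rfl h1
    · exact h.1
    · exact h.2
  have mem1 : ∀ {v : Fin 4 → F}, v ∈ D 1 ↔ v (e 0) = 0 ∧ v (e 1) = 0 := fun {v} => by
    rw [hDdef]
    refine ⟨fun h => ⟨h _ n02 n03, h _ n12 n13⟩, fun h c h0 h1 => ?_⟩
    rcases label_cases e c with rfl | rfl | rfl | rfl
    · exact h.1
    · exact h.2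
    · exact absurd rfl h0
    · exact absurd rfl h1
  have s0 : (Pi.single (e 0) (1 : F) : Fin 4 → F) ∈ D 0 := mem0.2 ⟨by simp [n02.symm], by simp [n03.symm]⟩
  have s1 : (Pi.single (e 1) (1 : F) : Fin 4 → F) ∈ D 0 := mem0.2 ⟨by simp [n12.symm], by simp [n13.symm]⟩
  have s2 : (Pi.single (e 2) (1 : F) : Fin 4 → F) ∈ D 1 := mem1.2 ⟨by simp [n02], by simp [n12]⟩
  have s3 : (Pi.single (e 3) (1 : F) : Fin 4 → F) ∈ D 1 := mem1.2 ⟨by simp [n03], by simp [n13]⟩
  have hsplit : ∀ v : Fin 4 → F, ∃ a ∈ D 0, ∃ b ∈ D 1, a + b = v := fun v =>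
    ⟨v (e 0) • Pi.single (e 0) 1 + v (e 1) • Pi.single (e 1) 1,
      (D 0).add_mem ((D 0).smul_mem _ s0) ((D 0).smul_mem _ s1),
      v (e 2) • Pi.single (e 2) 1 + v (e 3) • Pi.single (e 3) 1,
      (D 1).add_mem ((D 1).smul_mem _ s2) ((D 1).smul_mem _ s3), funext fun c => by
        rcases label_cases e c with rfl | rfl | rfl | rfl <;>
          simp [n01, n02, n03, n12, n13, n23, n01.symm, n02.symm, n03.symm, n12.symm, n13.symm, n23.symm]⟩
  have horth : ∀ v ∈ D 0, ∀ u ∈ D 1, herm σ v u = 0 := fun v hv u hu => by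
    refine Finset.sum_eq_zero fun c _ => ?_
    rcases label_cases e c with rfl | rfl | rfl | rfl
    · rw [(mem1.1 hu).1, map_zero σ, mul_zero]
    · rw [(mem1.1 hu).2, map_zero σ, mul_zero]
    · rw [(mem0.1 hv).1, zero_mul]
    · rw [(mem0.1 hv).2, zero_mul]
  have hnd : ∀ ε, Cfsg.Geo.IsNondegenerateOn (herm (ι := Fin 4) σ) (D ε) := fun ε v hv hv0 => by
    obtain ⟨c, hc⟩ := Function.ne_iff.1 hv0
    have hmem : Pi.single c (1 : F) ∈ D ε := by
      fin_cases ε
      · rcases label_cases e c with rfl | rfl | rfl | rfl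
        · exact s0
        · exact s1
        · exact absurd (mem0.1 hv).1 hc
        · exact absurd (mem0.1 hv).2 hc
      · rcases label_cases e c with rfl | rfl | rfl | rfl
        · exact absurd (mem1.1 hv).1 hc
        · exact absurd (mem1.1 hv).2 hc
        · exact s2
        · exact s3
    exact ⟨⟨_, hmem, by rw [C.single_left]; exact (map_ne_zero σ).2 hc⟩,
      ⟨_, hmem, by rw [C.single_right]; exact hc⟩⟩
  have hD : Cfsg.Geo.IsNondegenerateMDecomposition (Cfsg.hermForm 4 F q) 2 D := by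
    rw [C.hermForm_eq]
    refine ⟨⟨le_rfl, two_pos, fun ε => ?_, ?_, ?_⟩, hnd, fun a b hab => ?_⟩
    · fin_cases ε
      · rw [hDdef]; exact finrank_pairSub n01
      · rw [hDdef]; exact finrank_pairSub n23
    · refine (iSupIndep_pair (show (0 : Fin 2) ≠ 1 by decide) (by decide)).2 (Submodule.disjoint_def.2 fun v h0 h1 => ?_)
      funext c
      rcases label_cases e c with rfl | rfl | rfl | rfl
      · exact (mem1.1 h1).1
      · exact (mem1.1 h1).2
      · exact (mem0.1 h0).1
      · exact (mem0.1 h0).2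
    · rw [eq_top_iff]
      intro v _
      obtain ⟨x, hx, y, hy, rfl⟩ := hsplit v
      exact (iSup D).add_mem (Submodule.mem_iSup_of_mem 0 hx) (Submodule.mem_iSup_of_mem 1 hy)
    · fin_cases a <;> fin_cases b
      · exact absurd rfl hab
      · exact horth
      · exact fun v hv u hu => eq_zero_symm C.hU (horth u hu v hv)
      · exact absurd rfl hab
  -- the element exchanging the planes
  obtain ⟨n, hn, d, hd, hnc, hnx⟩ := C.exists_perm (e * (Equiv.swap 0 2 * Equiv.swap 1 3) * e⁻¹)
  have hπ : ∀ r, (e * (Equiv.swap 0 2 * Equiv.swap 1 3) * e⁻¹ : Equiv.Perm (Fin 4)) (e r) =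
      e ((Equiv.swap 0 2 * Equiv.swap 1 3 : Equiv.Perm (Fin 4)) r) := fun r => by simp
  have nc : ∀ r r', (Equiv.swap 0 2 * Equiv.swap 1 3 : Equiv.Perm (Fin 4)) r = r' →
      act n (Pi.single (e r) 1) = d (e r) • Pi.single (e r') 1 := fun r r' h => by rw [hnc, hπ, h]
  have n0' := nc 0 2 (by decide); have n2' := nc 2 0 (by decide)
  have n1' := nc 1 3 (by decide); have n3' := nc 3 1 (by decide)
  have nz : ∀ r r', (Equiv.swap 0 2 * Equiv.swap 1 3 : Equiv.Perm (Fin 4)) r = r' → ∀ v,
      act n v (e r') = d (e r) * v (e r) := fun r r' h v => by rw [← h, ← hπ, hnx]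
  -- the stabiliser of the planes lies in `M`
  have hstab : ∀ g ∈ SUc (ι := Fin 4) σ, (∀ v ∈ D 0, act g v ∈ D 0) → (∀ v ∈ D 1, act g v ∈ D 1) → g ∈ M := by
    intro g hg g0 g1
    have hgi : g ∈ uiso (herm (ι := Fin 4) σ) := hg.1
    have unit : ∀ k, herm σ (act g (Pi.single k 1)) (act g (Pi.single k 1)) = 1 := fun k => by
      rw [mem_uiso.1 hgi, C.single_left]; simp
    obtain ⟨v, hv⟩ : ∃ v, v = act g (Pi.single (e 0) 1) := ⟨_, rfl⟩
    have hv0 := mem0.1 (g0 _ s0)
    rw [← hv] at hv0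
    have hsum : ∀ f : Fin 4 → F, ∑ c, f c = f (e 0) + f (e 1) + f (e 2) + f (e 3) := fun f => by
      rw [← Equiv.sum_comp e, Fin.sum_univ_four]
    obtain ⟨h, hh, r, hr, he, hfix⟩ := hF (v (e 0)) (v (e 1)) (by
      have := unit (e 0)
      rw [← hv, herm, hsum, hv0.1, hv0.2] at this
      simpa using this)
    have hve : v = v (e 0) • Pi.single (e 0) 1 + v (e 1) • Pi.single (e 1) 1 := funext fun c => by
      rcases label_cases e c with rfl | rfl | rfl | rfl <;>
        simp [n01, n01.symm, n02.symm, n03.symm, n12.symm, n13.symm, hv0.1, hv0.2]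
    rw [← hve] at he
    obtain ⟨u2, hu2, hh2⟩ := hfix _ (Or.inl rfl)
    obtain ⟨u3, hu3, hh3⟩ := hfix _ (Or.inr rfl)
    have hhi := C.iso hh
    obtain ⟨g', hg'def⟩ : ∃ g', g' = h⁻¹ * g := ⟨_, rfl⟩
    have hg'0 : act g' (Pi.single (e 0) 1) = r⁻¹ • Pi.single (e 0) 1 := by
      apply act_injective h
      rw [hg'def, act_mul, act_act_inv, map_smul, he, ← hv, inv_smul_smul₀ hr]
    have hg'1 : ∀ v ∈ D 1, act g' v ∈ D 1 := fun v hv => by
      have hgv := g1 v hv
      rw [hg'def, act_mul]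
      obtain ⟨a, b, hab⟩ : ∃ a b : F, act g v = a • Pi.single (e 2) 1 + b • Pi.single (e 3) 1 := by
        refine ⟨act g v (e 2), act g v (e 3), funext fun c => ?_⟩
        rcases label_cases e c with rfl | rfl | rfl | rfl <;>
          simp [n02, n03, n12, n13, n23, n23.symm, (mem1.1 hgv).1, (mem1.1 hgv).2]
      rw [hab, map_add, map_smul, map_smul, C.fix_inv hhi hu2 hh2, C.fix_inv hhi hu3 hh3]
      exact (D 1).add_mem ((D 1).smul_mem _ ((D 1).smul_mem _ s2)) ((D 1).smul_mem _ ((D 1).smul_mem _ s3))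
    have hg'i : g' ∈ uiso (herm (ι := Fin 4) σ) :=
      hg'def ▸ Subgroup.mul_mem _ (Subgroup.inv_mem _ hhi) hgi
    -- the second plane
    obtain ⟨w, hw⟩ : ∃ w, w = act g' (Pi.single (e 2) 1) := ⟨_, rfl⟩
    have hw0 := mem1.1 (hg'1 _ s2)
    rw [← hw] at hw0
    obtain ⟨k, hk⟩ : ∃ k, k = act n⁻¹ w := ⟨_, rfl⟩
    have hkn : act n k = w := by rw [hk, act_act_inv]
    have hdd : ∀ j, d j ≠ 0 := fun j => C.norm_one_ne (hd j)
    have hk2 : k (e 2) = 0 := (mul_eq_zero.1 ((nz 2 0 (by decide) k).symm.trans (by rw [hkn, hw0.1]))).resolve_left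
      (hdd _)
    have hk3 : k (e 3) = 0 := (mul_eq_zero.1 ((nz 3 1 (by decide) k).symm.trans (by rw [hkn, hw0.2]))).resolve_left
      (hdd _)
    have hkk : herm σ k k = 1 := by
      rw [← mem_uiso.1 (C.iso hn), hkn, hw, mem_uiso.1 hg'i, C.single_left]; simp
    obtain ⟨h', hh', r', hr', he', hfix'⟩ := hF (k (e 0)) (k (e 1)) (by
      rw [herm, hsum, hk2, hk3] at hkk
      simpa using hkk)
    have hke : k = k (e 0) • Pi.single (e 0) 1 + k (e 1) • Pi.single (e 1) 1 := funext fun c => by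
      rcases label_cases e c with rfl | rfl | rfl | rfl <;>
        simp [n01, n01.symm, n02.symm, n03.symm, n12.symm, n13.symm, hk2, hk3]
    rw [← hke] at he'
    obtain ⟨u2', hu2', hh2'⟩ := hfix' _ (Or.inl rfl)
    obtain ⟨u3', hu3', hh3'⟩ := hfix' _ (Or.inr rfl)
    obtain ⟨p, hpdef⟩ : ∃ p, p = n * h' * n⁻¹ := ⟨_, rfl⟩
    have hpM : p ∈ M := hpdef ▸ M.mul_mem (M.mul_mem hn hh') (M.inv_mem hn)
    have ninv : ∀ r r', (Equiv.swap 0 2 * Equiv.swap 1 3 : Equiv.Perm (Fin 4)) r = r' →
        act n⁻¹ (Pi.single (e r') 1) = σ (d (e r)) • Pi.single (e r) 1 := fun r r' h => by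
      apply act_injective n
      rw [act_act_inv, map_smul, nc r r' h, smul_smul, mul_comm, hd, one_smul]
    have hp0 : ∃ u : F, u ≠ 0 ∧ act p (Pi.single (e 0) 1) = u • Pi.single (e 0) 1 :=
      ⟨σ (d (e 2)) * u2' * d (e 2), mul_ne_zero (mul_ne_zero ((map_ne_zero σ).2 (hdd _)) (C.norm_one_ne hu2')) (hdd _),
        by rw [hpdef, act_mul, act_mul, ninv 2 0 (by decide), map_smul, hh2', map_smul, map_smul, n2', smul_smul,
          smul_smul, mul_assoc]⟩
    have hp2 : ∃ u : F, u ≠ 0 ∧ act p (Pi.single (e 2) 1) = u • w :=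
      ⟨σ (d (e 0)) * r', mul_ne_zero ((map_ne_zero σ).2 (hdd _)) hr',
        by rw [hpdef, act_mul, act_mul, ninv 0 2 (by decide), map_smul, he', map_smul, map_smul, hkn, smul_smul]⟩
    obtain ⟨g'', hg''⟩ : ∃ g'', g'' = p⁻¹ * g' := ⟨_, rfl⟩
    have hpi := C.iso hpM
    have hg''i : g'' ∈ uiso (herm (ι := Fin 4) σ) :=
      hg'' ▸ Subgroup.mul_mem _ (Subgroup.inv_mem _ hpi) hg'i
    obtain ⟨u0, hu0, hp0⟩ := hp0
    obtain ⟨u2'', hu2'', hp2⟩ := hp2
    have f0 : act g'' (Pi.single (e 0) 1) = (r⁻¹ * u0⁻¹) • Pi.single (e 0) 1 := by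
      apply act_injective p
      rw [hg'', act_mul, act_act_inv, map_smul, hp0, hg'0, smul_smul]
      congr 1
      field_simp
    have f2 : act g'' (Pi.single (e 2) 1) = u2''⁻¹ • Pi.single (e 2) 1 := by
      apply act_injective p
      rw [hg'', act_mul, act_act_inv, map_smul, hp2, inv_smul_smul₀ hu2'', hw]
    have hmem : g'' ∈ M := by
      refine C.mono_le g'' ⟨hg''i, ?_⟩ ?_
      · rw [hg'', hg'def]
        exact Subgroup.mul_mem _ (Subgroup.inv_mem _ (C.le hpM).2)
          (Subgroup.mul_mem _ (Subgroup.inv_mem _ (C.le hh).2) hg.2)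
      · -- the remaining columns
        have q2 : ∀ v ∈ D 1, act g'' v ∈ D 1 := fun v hv => by
          have h0 : act g'' v (e 0) = 0 := C.fix_zero hg''i
            (mul_ne_zero (inv_ne_zero hr) (inv_ne_zero hu0)) f0 (mem1.1 hv).1
          refine mem1.2 ⟨h0, ?_⟩
          obtain ⟨pu, hpu⟩ : ∃ pu, pu = act g' v := ⟨_, rfl⟩
          have hpu1 := mem1.1 (hpu ▸ hg'1 v hv)
          have e' : act g'' v = act n (act h'⁻¹ (act n⁻¹ pu)) := by
            rw [hpu, ← act_mul, ← act_mul, ← act_mul, hg'', hpdef]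
            exact congrArg (fun x => act x v) (by group)
          rw [e', nz 3 1 (by decide)]
          refine mul_eq_zero_of_right _ (C.fix_zero (Subgroup.inv_mem _ (C.iso hh'))
            ((map_ne_zero σ).2 (C.norm_one_ne hu3')) (C.fix_inv (C.iso hh') hu3' hh3') ?_)
          refine (mul_eq_zero.1 ((nz 3 1 (by decide) (act n⁻¹ pu)).symm.trans ?_)).resolve_left (hdd _)
          rw [act_act_inv, hpu1.2]
        have col : ∀ (c : Fin 4) (v : Fin 4 → F), (∀ k, k ≠ c → v k = 0) → ∃ (i : Fin 4) (s : F),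
            v = s • Pi.single i 1 := fun c v h => ⟨c, v c, C.line_of_zero h⟩
        refine isMono_of_cols fun j => ?_
        rcases label_cases e j with rfl | rfl | rfl | rfl
        · exact ⟨e 0, _, f0⟩
        · -- orthogonal to the images of the second plane and of `e 0`
          have h0 : act g'' (Pi.single (e 1) 1) (e 0) = 0 := C.fix_zero hg''i
            (mul_ne_zero (inv_ne_zero hr) (inv_ne_zero hu0)) f0 (by simp [n01])
          have h2 : act g'' (Pi.single (e 1) 1) (e 2) = 0 := C.fix_zero hg''i (inv_ne_zero hu2'') f2 (by simp [n12.symm])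
          refine col (e 1) _ fun c hc => ?_
          rcases label_cases e c with rfl | rfl | rfl | rfl
          · exact h0
          · exact absurd rfl hc
          · exact h2
          · have h3v := q2 _ s3
            have hq1 : act g'' (Pi.single (e 3) 1) (e 2) = 0 := C.fix_zero hg''i (inv_ne_zero hu2'') f2 (by simp [n23])
            have hline : act g'' (Pi.single (e 3) 1) = act g'' (Pi.single (e 3) 1) (e 3) • Pi.single (e 3) 1 :=
              C.line_of_zero fun k hk => by
                rcases label_cases e k with rfl | rfl | rfl | rfl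
                · exact (mem1.1 h3v).1
                · exact (mem1.1 h3v).2
                · exact hq1
                · exact absurd rfl hk
            have hs3 := C.fix_scalar hg''i hline
            exact C.fix_zero hg''i (C.norm_one_ne hs3) hline (by simp [n13.symm])
        · exact ⟨e 2, _, f2⟩
        · have h3v := q2 _ s3
          refine col (e 3) _ fun c hc => ?_
          rcases label_cases e c with rfl | rfl | rfl | rfl
          · exact (mem1.1 h3v).1
          · exact (mem1.1 h3v).2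
          · exact C.fix_zero hg''i (inv_ne_zero hu2'') f2 (by simp [n23])
          · exact absurd rfl hc
    have : g = h * (p * g'') := by rw [hg'', hg'def]; group
    rw [this]
    exact M.mul_mem hh (M.mul_mem hpM hmem)
  have hle : Cfsg.Geo.decompositionStabilizer D ⊓ SUc σ ≤ M := by
    rintro g ⟨⟨π, hπg⟩, hg⟩
    have gmap : ∀ ε, ∀ v ∈ D ε, act g v ∈ D (π ε) := fun ε v hv => by
      rw [← hπg ε, toLin'_eq_act]; exact ⟨v, hv, rfl⟩
    have hn01 : ∀ v ∈ D 0, act n v ∈ D 1 := fun v hv => mem1.2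
      ⟨by rw [nz 2 0 (by decide), (mem0.1 hv).1, mul_zero], by rw [nz 3 1 (by decide), (mem0.1 hv).2, mul_zero]⟩
    have hn10 : ∀ v ∈ D 1, act n v ∈ D 0 := fun v hv => mem0.2
      ⟨by rw [nz 0 2 (by decide), (mem1.1 hv).1, mul_zero], by rw [nz 1 3 (by decide), (mem1.1 hv).2, mul_zero]⟩
    have hπc : (π 0 = 0 ∧ π 1 = 1) ∨ (π 0 = 1 ∧ π 1 = 0) :=
      (by decide : ∀ π : Equiv.Perm (Fin 2), (π 0 = 0 ∧ π 1 = 1) ∨ (π 0 = 1 ∧ π 1 = 0)) π
    rcases hπc with ⟨h0, h1⟩ | ⟨h0, h1⟩
    · exact hstab g hg (fun v hv => h0 ▸ gmap 0 v hv) (fun v hv => h1 ▸ gmap 1 v hv)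
    · have := hstab (n * g) (Subgroup.mul_mem _ (C.le hn) hg)
        (fun v hv => by rw [act_mul]; exact hn10 _ (h0 ▸ gmap 0 v hv))
        (fun v hv => by rw [act_mul]; exact hn01 _ (h1 ▸ gmap 1 v hv))
      have := M.mul_mem (M.inv_mem hn) this
      rwa [inv_mul_cancel_left] at this
  have hmax := SU4.twoPlanes_maximal q C.hq.card h3 D hD
  rw [C.GU_eq] at hmax
  rcases hmax.2 M hle C.le with h | h
  · exfalso
    obtain ⟨n', hn', d', hd', hnc', -⟩ := C.exists_perm (Equiv.swap (e 1) (e 2))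
    obtain ⟨⟨π, hπ⟩, -⟩ := h.le hn'
    have m0 : act n' (Pi.single (e 0) 1) ∈ D (π 0) := by rw [← hπ 0, toLin'_eq_act]; exact ⟨_, s0, rfl⟩
    have m1 : act n' (Pi.single (e 1) 1) ∈ D (π 0) := by rw [← hπ 0, toLin'_eq_act]; exact ⟨_, s1, rfl⟩
    rw [hnc', Equiv.swap_apply_of_ne_of_ne n01 n02] at m0
    rw [hnc', Equiv.swap_apply_left] at m1
    rcases (show π 0 = 0 ∨ π 0 = 1 by omega) with hp | hp <;> rw [hp] at m0 m1
    · have := (mem0.1 m1).1
      simp at this
      exact C.norm_one_ne (hd' _) this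
    · have := (mem1.1 m0).1
      simp at this
      exact C.norm_one_ne (hd' _) this
  · exact h

/-- Over the field of four elements a fixed line gives everything. -/
theorem top_of_fixed_two (h2 : q = 2) {m : GL (Fin 4) F} (hm : m ∈ M) (hmm : ¬ IsMono m) {l : Fin 4} {s : F}
    (hs : s * σ s = 1) (hml : act m (Pi.single l 1) = s • Pi.single l 1) : M = SUc σ := by
  classical
  have orth : ∀ (g : GL (Fin 4) F), g ∈ uiso (herm (ι := Fin 4) σ) → ∀ (s : F), s ≠ 0 →
      act g (Pi.single l 1) = s • Pi.single l 1 → ∀ c, c ≠ l → act g (Pi.single c 1) l = 0 := fun g hg s hs h c hc =>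
    C.fix_zero hg hs h (by simp [hc.symm])
  have shape : ∀ (g : GL (Fin 4) F), g ∈ uiso (herm (ι := Fin 4) σ) → ∀ b, act g (Pi.single b 1) l = 0 →
      (supp (act g (Pi.single b 1))).card ≤ 1 ∨ ∀ k, k ≠ l → act g (Pi.single b 1) k ≠ 0 := by
    intro g hg b hl
    by_contra hno
    push Not at hno
    obtain ⟨hc, k, hkl, hk⟩ := hno
    have hsub : supp (act g (Pi.single b 1)) ⊆ (Finset.univ.erase k).erase l := fun j hj => by
      rw [mem_supp] at hj
      simp only [Finset.mem_erase, Finset.mem_univ, and_true]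
      exact ⟨fun e => hj (e ▸ hl), fun e => hj (e ▸ hk)⟩
    have hcard := Finset.card_le_card hsub
    rw [Finset.card_erase_of_mem (Finset.mem_erase.2 ⟨hkl.symm, Finset.mem_univ l⟩),
      Finset.card_erase_of_mem (Finset.mem_univ k), Finset.card_univ, Fintype.card_fin] at hcard
    have h1 : herm σ (act g (Pi.single b 1)) (act g (Pi.single b 1)) = 1 := by
      rw [mem_uiso.1 hg, C.single_left]; simp
    rw [herm, ← Finset.sum_subset (Finset.subset_univ (supp (act g (Pi.single b 1)))) (fun j _ hj => by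
        rw [mem_supp, not_not] at hj
        rw [hj, zero_mul]),
      Finset.sum_congr rfl fun j hj => C.norm_two h2 (mem_supp.1 hj), Finset.sum_const,
      show (supp (act g (Pi.single b 1))).card = 2 by omega, nsmul_one] at h1
    exact one_ne_zero (h1.symm.trans (by exact_mod_cast C.char_two h2))
  obtain ⟨a, ha⟩ := not_forall.1 hmm
  have hal : a ≠ l := by
    rintro rfl
    apply ha
    rw [hml]
    refine (Finset.card_le_card (t := {a}) fun x hx => ?_).trans (Finset.card_singleton a).le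
    rw [mem_supp] at hx
    by_contra hne
    exact hx (by simp [show x ≠ a by simpa using hne])
  have hxl := orth m (C.iso hm) s (C.norm_one_ne hs) hml a hal
  have hxk := (shape m (C.iso hm) a hxl).resolve_left ha
  let W : Submodule F (Fin 4 → F) := F ∙ Pi.single l 1
  have hW0 : W ≠ ⊥ := by
    rw [Ne, Submodule.span_singleton_eq_bot]
    exact fun h => by simpa using congrFun h l
  have hWn : Cfsg.Geo.IsNondegenerateOn (Cfsg.hermForm 4 F q) W := by
    rw [C.hermForm_eq]
    intro v hv hv0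
    obtain ⟨c, rfl⟩ := Submodule.mem_span_singleton.1 hv
    have hc : c ≠ 0 := left_ne_zero_of_smul hv0
    exact ⟨⟨_, Submodule.mem_span_singleton_self _, by rw [C.single_left]; simp [hc]⟩,
      ⟨_, Submodule.mem_span_singleton_self _, by rw [C.single_right]; simp [hc]⟩⟩
  have hWd : 2 * Module.finrank F W < 4 := by
    rw [finrank_span_singleton (fun h => by simpa using congrFun h l)]; norm_num
  have hle : Cfsg.Geo.subspaceStabilizer W ⊓ SUc σ ≤ M := by
    rintro g ⟨hgW, hg⟩
    obtain ⟨c, hc⟩ := Submodule.mem_span_singleton.1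
      ((mem_subspaceStabilizer.1 hgW _).1 (Submodule.mem_span_singleton_self _))
    have hc1 := C.fix_scalar hg.1 hc.symm
    by_cases hgm : IsMono g
    · exact C.mono_le g hg hgm
    obtain ⟨b, hb⟩ := not_forall.1 hgm
    have hbl : b ≠ l := by
      rintro rfl
      apply hb
      rw [← hc]
      refine (Finset.card_le_card (t := {b}) fun x hx => ?_).trans (Finset.card_singleton b).le
      rw [mem_supp] at hx
      by_contra hne
      exact hx (by simp [show x ≠ b by simpa using hne])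
    have hyl := orth g hg.1 c (C.norm_one_ne hc1) hc.symm b hbl
    have hyk := (shape g hg.1 b hyl).resolve_left hb
    obtain ⟨dd, hdd⟩ : ∃ dd : Fin 4 → F,
        dd = fun k => act g (Pi.single b 1) k / act m (Pi.single a 1) k := ⟨_, rfl⟩
    obtain ⟨P, hP⟩ : ∃ P, P = ∏ k ∈ Finset.univ.erase l, dd k := ⟨_, rfl⟩
    have hdn : ∀ k, k ≠ l → dd k * σ (dd k) = 1 := fun k hk => by
      rw [hdd]; exact C.norm_two h2 (div_ne_zero (hyk k hk) (hxk k hk))
    have hPn : P * σ P = 1 := by
      rw [hP, map_prod, ← Finset.prod_mul_distrib,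
        Finset.prod_congr rfl fun k hk => hdn k (Finset.ne_of_mem_erase hk), Finset.prod_const_one]
    obtain ⟨t, ht, htc, htx⟩ := C.exists_diag (fun k => if k = l then σ P else dd k) (fun k => by
      split_ifs with h
      · rw [invol C.hq, mul_comm, hPn]
      · exact hdn k h) (by
      rw [← Finset.mul_prod_erase _ _ (Finset.mem_univ l), if_pos rfl,
        Finset.prod_congr rfl fun k hk => if_neg (Finset.ne_of_mem_erase hk), ← hP, mul_comm, hPn])
    have htxa : act t (act m (Pi.single a 1)) = act g (Pi.single b 1) := funext fun k => by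
      rw [htx]
      rcases eq_or_ne k l with rfl | hk
      · rw [hxl, hyl, mul_zero]
      · rw [if_neg hk, hdd, div_mul_cancel₀ _ (hxk k hk)]
    obtain ⟨n, hn, d, hd, hnc, -⟩ := C.exists_perm (Equiv.swap a b)
    obtain ⟨p, hp⟩ : ∃ p, p = t * m * n := ⟨_, rfl⟩
    have hpM : p ∈ M := hp ▸ M.mul_mem (M.mul_mem ht hm) hn
    have pb : act p (Pi.single b 1) = d b • act g (Pi.single b 1) := by
      rw [hp, act_mul, act_mul, hnc, Equiv.swap_apply_right, map_smul, map_smul, htxa]
    have pl : act p (Pi.single l 1) = (d l * (s * σ P)) • Pi.single l 1 := by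
      rw [hp, act_mul, act_mul, hnc, Equiv.swap_apply_of_ne_of_ne hal.symm hbl.symm, map_smul, map_smul, hml,
        map_smul, htc, if_pos rfl, smul_smul, smul_smul, mul_assoc]
    have hgi : g ∈ uiso (herm (ι := Fin 4) σ) := hg.1
    obtain ⟨k, hk⟩ : ∃ k, k = p⁻¹ * g := ⟨_, rfl⟩
    have hki : k ∈ uiso (herm (ι := Fin 4) σ) := hk ▸ Subgroup.mul_mem _ (Subgroup.inv_mem _ (C.iso hpM)) hgi
    have kb : act k (Pi.single b 1) = (d b)⁻¹ • Pi.single b 1 := by
      apply act_injective p
      rw [hk, act_mul, act_act_inv, map_smul, pb, inv_smul_smul₀ (C.norm_one_ne (hd b))]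
    have hu := C.fix_scalar (C.iso hpM) pl
    have kl : act k (Pi.single l 1) = (c * (d l * (s * σ P))⁻¹) • Pi.single l 1 := by
      apply act_injective p
      rw [hk, act_mul, act_act_inv, map_smul, pl, ← hc, smul_smul, mul_assoc,
        inv_mul_cancel₀ (C.norm_one_ne hu), mul_one]
    have hkm : IsMono k := by
      intro j
      rcases eq_or_ne j b with rfl | hjb
      · rw [kb]
        refine (Finset.card_le_card (t := {j}) fun x hx => ?_).trans (Finset.card_singleton j).le
        rw [mem_supp] at hx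
        by_contra hne
        exact hx (by simp [show x ≠ j by simpa using hne])
      rcases eq_or_ne j l with rfl | hjl
      · rw [kl]
        refine (Finset.card_le_card (t := {j}) fun x hx => ?_).trans (Finset.card_singleton j).le
        rw [mem_supp] at hx
        by_contra hne
        exact hx (by simp [show x ≠ j by simpa using hne])
      refine (shape k hki j (C.fix_zero hki (mul_ne_zero (C.norm_one_ne hc1)
        (inv_ne_zero (C.norm_one_ne hu))) kl (by simp [hjl.symm]))).resolve_right fun h => ?_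
      exact h b hbl (C.fix_zero hki (inv_ne_zero (C.norm_one_ne (hd b))) kb (by simp [hjb.symm]))
    have := M.mul_mem hpM (C.mono_le k ⟨hki, by
      rw [hk]; exact Subgroup.mul_mem _ (Subgroup.inv_mem _ (C.le hpM).2) hg.2⟩ hkm)
    rwa [hk, mul_inv_cancel_left] at this
  have hmax := SU4.point_maximal q C.hq.card W hW0 hWn hWd
  rw [C.GU_eq] at hmax
  rcases hmax.2 M hle C.le with h | h
  · exfalso
    obtain ⟨n', hn', d', hd', hnc', -⟩ := C.exists_perm (Equiv.swap l a)
    have h1 := (mem_subspaceStabilizer.1 (h.le hn').1 _).1 (Submodule.mem_span_singleton_self _)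
    rw [hnc', Equiv.swap_apply_left] at h1
    obtain ⟨r, hr⟩ := Submodule.mem_span_singleton.1 h1
    have := congrFun hr a
    simp [hal] at this
    exact C.norm_one_ne (hd' l) this.symm
  · exact h

/-- An element outside the monomial group gives everything. -/
theorem eq_top (hq3 : q ≠ 3) {g : GL (Fin 4) F} (hg : g ∈ M) (hgm : ¬ IsMono g) : M = SUc σ := by
  obtain ⟨m, hm, hmm, l, s, hs, hml⟩ := C.exists_fixed hq3 hg hgm
  by_cases h2 : q = 2
  · exact C.top_of_fixed_two h2 hm hmm hs hml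
  · have h4 : 4 ≤ q := by have := C.hq.two_le; omega
    obtain ⟨e, he⟩ := C.exists_full h4 hm hmm hs hml
    exact C.top_of_full (by omega) he

end Fr

end Cfsg.Agent.MaxCl.SU4.Frame
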