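/-
Stabilisers of orthogonal frames are maximal in the special unitary group of dimension four, except over the field
of nine elements.
-/
import Cfsg.Agent.Lib.MaxCl.SU4.FrameTop
import Cfsg.Agent.Lib.MaxCl.UnitaryDecompMax

set_option autoImplicit false

namespace Cfsg.Agent.MaxCl.SU4.Frame

open scoped MatrixGroups Matrix
open Unit

variable {F : Type*} [Field F] [Fintype F]

/-- Some determinant one isometry is not monomial. -/
theorem exists_not_mono {σ : F ≃+* F} {q : ℕ} (C : Fr σ q (SUc (ι := Fin 4) σ)) :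
    ∃ g ∈ SUc (ι := Fin 4) σ, ¬ IsMono g := by
  classical
  obtain ⟨v, hv0, hv1, hv3, hvn⟩ : ∃ v : Fin 4 → F, v 0 = 1 ∧ v 1 = 1 ∧ v 3 = 0 ∧ herm σ v v ≠ 0 := by
    by_cases h3 : (3 : F) = 0
    · refine ⟨![1, 1, 0, 0], rfl, rfl, rfl, ?_⟩
      rw [C.self_eq]
      simp only [Matrix.cons_val_zero, Matrix.cons_val_one, Matrix.cons_val, map_one, map_zero, mul_one, mul_zero,
        add_zero, one_add_one_eq_two]
      intro h2
      exact one_ne_zero (show (1 : F) = 0 by linear_combination h3 - h2)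
    · refine ⟨![1, 1, 1, 0], rfl, rfl, rfl, ?_⟩
      rw [C.self_eq]
      simp only [Matrix.cons_val_zero, Matrix.cons_val_one, Matrix.cons_val, map_one, map_zero, mul_one, mul_zero,
        add_zero]
      intro h
      exact h3 (by linear_combination h)
  obtain ⟨ξ, hξ, hξ1, hξ2, -, -⟩ := exists_root_ne C.hq
  obtain ⟨b, hb⟩ := exists_scale C.hU hvn (map_one σ)
  obtain ⟨u, hu⟩ : ∃ u, u = b • v := ⟨_, rfl⟩
  rw [← hu] at hb
  obtain ⟨r, hr, hrz⟩ := exists_qref C.hU (x := u) (by rw [hb]; exact one_ne_zero) hξ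
  obtain ⟨r', hr', hr'z⟩ := exists_qref C.hU (x := Pi.single (3 : Fin 4) (1 : F))
    (by rw [C.single_left]; simp) (l := σ ξ) (by rw [invol C.hq, mul_comm, hξ])
  refine ⟨r * r', ⟨Subgroup.mul_mem _ hr hr', Monom.mem_specialLinear_iff.2 ?_⟩, fun hm => ?_⟩
  · rw [Units.val_mul, Matrix.det_mul, det_qref C.hU (by rw [hb]; exact one_ne_zero) hrz,
      det_qref C.hU (by rw [C.single_left]; simp) hr'z, hξ]
  have hb0 : b ≠ 0 := by
    rintro rfl
    rw [hu, zero_smul, zero_left C.hU] at hb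
    exact zero_ne_one hb
  have hcol : ∀ k, act (r * r') (Pi.single 0 1) k =
      (Pi.single 0 1 : Fin 4 → F) k + (ξ - 1) * σ b * (b * v k) := fun k => by
    rw [act_mul, hr'z, C.single_right (Pi.single 0 1) 3, Pi.single_eq_of_ne (show (3 : Fin 4) ≠ 0 by decide),
      mul_zero, zero_div, zero_smul, add_zero, hrz, hb, div_one, C.single_left, hu]
    simp [hv0]
  have hbb : b * σ b * herm σ v v = 1 := by
    rw [hu, smul_left C.hU, smul_right C.hU] at hb
    linear_combination hb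
  have h1 : act (r * r') (Pi.single 0 1) 1 ≠ 0 := by
    rw [hcol, hv1]
    simpa using mul_ne_zero (mul_ne_zero (sub_ne_zero.2 hξ1) ((map_ne_zero σ).2 hb0)) hb0
  have hone := Finset.card_le_one.1 (hm 0)
  have h0 : act (r * r') (Pi.single 0 1) 0 = 0 := by
    by_contra h0
    exact absurd (hone 0 (mem_supp.2 h0) 1 (mem_supp.2 h1)) (by decide)
  have h2 : act (r * r') (Pi.single 0 1) 2 = 0 := by
    by_contra h2
    exact absurd (hone 2 (mem_supp.2 h2) 1 (mem_supp.2 h1)) (by decide)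
  rw [hcol, hv0] at h0
  rw [hcol] at h2
  simp only [Pi.single_eq_same, mul_one] at h0
  have hv2 : v 2 = 0 := by
    simpa [sub_ne_zero.2 hξ1, hb0] using h2
  have hh : herm σ v v = 2 := by
    rw [C.self_eq, hv0, hv1, hv2, hv3]; simp [one_add_one_eq_two]
  rw [hh] at hbb
  apply hξ2
  linear_combination (ξ - 1) * (2 * h0 - (ξ - 1) * hbb)

/-- Stabilisers of frames are maximal for `q ≠ 3`. -/
theorem frame_maximal (q : ℕ) (hF : Fintype.card F = q ^ 2) (hq : q ≠ 3) (D : Fin 4 → Submodule F (Fin 4 → F))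
    (hD : Cfsg.Geo.IsNondegenerateMDecomposition (Cfsg.hermForm 4 F q) 1 D) :
    Cfsg.Geo.IsMaximalIn (Cfsg.GU 4 F q ⊓ Cfsg.Geo.specialLinear (Fin 4) F)
      (Cfsg.Geo.decompositionStabilizer D ⊓ (Cfsg.GU 4 F q ⊓ Cfsg.Geo.specialLinear (Fin 4) F)) := by
  classical
  obtain ⟨σ, hτ, hU⟩ := hermForm_isUnitary 4 q hF
  have hfe : Cfsg.hermForm 4 F q = herm (ι := Fin 4) σ := by
    funext x y
    simp only [Cfsg.hermForm, herm, hτ]
  rw [hfe] at hU hD
  have hGU : Cfsg.GU 4 F q = uiso (herm (ι := Fin 4) σ) := by rw [← hfe]; rfl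
  rw [hGU]
  have hqs : QSq σ q := ⟨hF, hτ⟩
  have C0 : Fr σ q (SUc (ι := Fin 4) σ) := ⟨hqs, hU, le_rfl, fun g hg _ => hg⟩
  have hv := fun l => exists_aniso_in hU (hD.nondegenerate l) (fun h => by
    have := hD.decomp.finrank_eq l
    rw [h, finrank_bot] at this
    omega)
  choose v hvD hvv using hv
  have hne : ∀ l, v l ≠ 0 := fun l h => by
    have := hvv l
    rw [h, zero_left hU] at this
    exact zero_ne_one this
  have hspan : ∀ l, D l = F ∙ v l := fun l => (Submodule.eq_of_le_of_finrank_le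
    ((Submodule.span_singleton_le_iff_mem _ _).2 (hvD l))
    (by rw [finrank_span_singleton (hne l), hD.decomp.finrank_eq])).symm
  have hvo : ∀ l l', herm σ (v l) (v l') = if l = l' then 1 else 0 := fun l l' => by
    split_ifs with h
    · subst h; exact hvv l
    · exact hD.orthogonal l l' h _ (hvD l) _ (hvD l')
  let L : (Fin 4 → F) →ₗ[F] (Fin 4 → F) := Fintype.linearCombination F v
  have hL : ∀ x y, herm σ (L x) (L y) = herm σ x y := fun x y => by
    simp only [L, Fintype.linearCombination_apply, Fin.sum_univ_four, add_left hU, add_right hU, smul_left hU,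
      smul_right hU, hvo]
    simp [herm, Fin.sum_univ_four]
  obtain ⟨g₀, hg₀⟩ := exists_gl_of_injective L (fun x y h => by
    funext i
    have e := hL (x - y) (Pi.single i 1)
    rw [map_sub, h, sub_self, zero_left hU, C0.single_right] at e
    exact sub_eq_zero.1 e.symm)
  have hg₀U : g₀ ∈ uiso (herm (ι := Fin 4) σ) := mem_uiso.2 fun x y => by rw [hg₀, hg₀, hL]
  have hcol : ∀ j, act g₀ (Pi.single j 1) = v j := fun j => by
    rw [hg₀]; simp [L]
  have hSU : ∀ g, g₀ * g * g₀⁻¹ ∈ SUc (ι := Fin 4) σ ↔ g ∈ SUc (ι := Fin 4) σ := fun g => by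
    have hdet : (g₀ * g * g₀⁻¹ ∈ Cfsg.Geo.specialLinear (Fin 4) F) ↔ g ∈ Cfsg.Geo.specialLinear (Fin 4) F := by
      simp only [Cfsg.Geo.specialLinear, MonoidHom.mem_ker, map_mul, map_inv, mul_inv_cancel_comm]
    constructor
    · rintro ⟨h1, h2⟩
      refine ⟨?_, hdet.1 h2⟩
      have := Subgroup.mul_mem _ (Subgroup.mul_mem _ (Subgroup.inv_mem _ hg₀U) h1) hg₀U
      rwa [show g₀⁻¹ * (g₀ * g * g₀⁻¹) * g₀ = g by group] at this
    · rintro ⟨h1, h2⟩
      exact ⟨Subgroup.mul_mem _ (Subgroup.mul_mem _ hg₀U h1) (Subgroup.inv_mem _ hg₀U), hdet.2 h2⟩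
  have hstab : ∀ g ∈ SUc (ι := Fin 4) σ, IsMono g → g₀ * g * g₀⁻¹ ∈ Cfsg.Geo.decompositionStabilizer D := by
    intro g hg hm
    obtain ⟨p, s, hs, hp⟩ := C0.mono_data hg hm
    refine ⟨p, fun l => ?_⟩
    rw [hspan l, hspan (p l), Submodule.map_span, Set.image_singleton, toLin'_eq_act, ← hcol l, act_mul, act_mul,
      act_inv_act, hp, map_smul, hcol]
    exact Submodule.span_singleton_smul_eq (IsUnit.mk0 _ (C0.norm_one_ne (hs l))) _
  have hperm : ∀ g, g₀ * g * g₀⁻¹ ∈ Cfsg.Geo.decompositionStabilizer D → IsMono g := by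
    rintro g ⟨p, hp⟩
    refine isMono_of_cols fun j => ?_
    have h1 : act (g₀ * g * g₀⁻¹) (v j) ∈ D (p j) := by
      rw [← hp j, toLin'_eq_act]; exact ⟨_, hvD j, rfl⟩
    rw [hspan, Submodule.mem_span_singleton] at h1
    obtain ⟨c, hc⟩ := h1
    refine ⟨p j, c, act_injective g₀ ?_⟩
    rw [map_smul, hcol, hc, ← hcol j, act_mul, act_mul, act_inv_act]
  refine ⟨lt_of_le_of_ne inf_le_right fun heq => ?_, fun M h1 h2 => ?_⟩
  · obtain ⟨g, hg, hgm⟩ := exists_not_mono C0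
    exact hgm (hperm g (heq.ge ((hSU g).2 hg)).1)
  by_cases hsub : M ≤ Cfsg.Geo.decompositionStabilizer D
  · exact Or.inl (le_antisymm (le_inf hsub h2) h1)
  right
  obtain ⟨g, hgM, hgD⟩ := SetLike.not_le_iff_exists.1 hsub
  have C : Fr σ q (M.comap (MulAut.conj g₀).toMonoidHom) := ⟨hqs, hU,
    fun x hx => (hSU x).1 (h2 (Subgroup.mem_comap.1 hx)),
    fun x hx hm => Subgroup.mem_comap.2 (h1 ⟨hstab x hx hm, (hSU x).2 hx⟩)⟩
  have hgg : g₀ * (g₀⁻¹ * g * g₀) * g₀⁻¹ = g := by group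
  have hgS : g₀⁻¹ * g * g₀ ∈ SUc (ι := Fin 4) σ := by rw [← hSU, hgg]; exact h2 hgM
  have htop := C.eq_top hq (g := g₀⁻¹ * g * g₀)
    (Subgroup.mem_comap.2 (by show g₀ * (g₀⁻¹ * g * g₀) * g₀⁻¹ ∈ M; rwa [hgg]))
    (fun hm => hgD (by have := hstab _ hgS hm; rwa [hgg] at this))
  refine le_antisymm h2 fun x hx => ?_
  have hxx : g₀ * (g₀⁻¹ * x * g₀) * g₀⁻¹ = x := by group
  have hmem : g₀⁻¹ * x * g₀ ∈ M.comap (MulAut.conj g₀).toMonoidHom := by
    rw [htop, ← hSU, hxx]; exact hx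
  have h3 : g₀ * (g₀⁻¹ * x * g₀) * g₀⁻¹ ∈ M := Subgroup.mem_comap.1 hmem
  rwa [hxx] at h3

end Cfsg.Agent.MaxCl.SU4.Frame
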