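/-
Orthogonal rational structures on a unitary space of dimension four over a field of odd order at least five:
rational frames, elements of the orthogonal subgroup, and root groups from one transvection.
-/
import Cfsg.Agent.Lib.MaxCl.UnitaryOrthSubfield
import Cfsg.Agent.Lib.MaxCl.UnitaryRoot

set_option autoImplicit false
set_option maxHeartbeats 1600000

namespace Cfsg.Agent.MaxCl.UOrth4

open Cfsg.Agent.MaxCl.Unit Cfsg.Agent.MaxCl.UOrth
open scoped MatrixGroups Matrix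

variable {ι : Type} [Fintype ι] [DecidableEq ι] {F : Type*} [Field F] [Fintype F]

/-- the standing hypotheses -/
structure Ctx4 (σ : F ≃+* F) (f : (ι → F) → (ι → F) → F) (F₀ : Subfield F) (P : GL ι F)
    (M : Subgroup (GL ι F)) : Prop where
  base : UOrth.Ctx σ f F₀ P M
  four : Fintype.card ι = 4
  mem : ∀ g ∈ uiso f, (g : Matrix ι ι F).det = 1 → (∀ x ∈ ratVec F₀ P, act g x ∈ ratVec F₀ P) → g ∈ M
  big : ∃ μ ∈ F₀, μ ≠ 0 ∧ μ * μ ≠ 1

variable {σ : F ≃+* F} {f : (ι → F) → (ι → F) → F} {F₀ : Subfield F} {P : GL ι F} {M : Subgroup (GL ι F)}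
variable (C : Ctx4 σ f F₀ P M)
include C

theorem two_mem : (2 : F) ∈ F₀ := by rw [← one_add_one_eq_two]; exact F₀.add_mem F₀.one_mem F₀.one_mem

theorem σ_rat {a : F} (ha : a ∈ F₀) : σ a = a := (C.base.fix a).1 ha

theorem symm' {x y : ι → F} (hx : x ∈ ratVec F₀ P) (hy : y ∈ ratVec F₀ P) : f y x = f x y :=
  symm_rat C.base hx hy

theorem exists_perp (xs : Fin 3 → ι → F) (hxs : ∀ i, xs i ∈ ratVec F₀ P) :
    ∃ z ∈ ratVec F₀ P, z ≠ 0 ∧ ∀ i, f z (xs i) = 0 := by
  classical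
  obtain ⟨Q, hnd, hQ, hB⟩ := exists_quad C.base
  obtain ⟨ys, hys, -⟩ := exists_lift C.base xs hxs
  have h1 := Orth.finrank_perp hnd (Submodule.span F₀ (Set.range ys))
  have h2 := Orth.finrank_span_list_le (F := F₀) ys
  have h4 := C.four
  obtain ⟨w, hw, hw0⟩ : ∃ w ∈ Orth.perp Q (Submodule.span F₀ (Set.range ys)), w ≠ 0 :=
    Submodule.exists_mem_ne_zero_of_ne_bot fun h => by rw [h, finrank_bot] at h1; omega
  refine ⟨_, embL_mem w, fun h => hw0 (embL_injective (h.trans (map_zero _).symm)), fun i => ?_⟩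
  have h := congrArg Subtype.val ((Orth.mem_perp_span Q).1 hw _ ⟨i, rfl⟩)
  rw [hB, hys] at h
  rw [symm' C (hxs i) (embL_mem w)]
  exact (mul_eq_zero.1 h).resolve_left C.base.two

/-- the perp of three independent rational vectors is a line -/
theorem perp_line (xs : Fin 3 → ι → F) (hxs : ∀ i, xs i ∈ ratVec F₀ P)
    (hind : ∀ c₀ ∈ F₀, ∀ c₁ ∈ F₀, ∀ c₂ ∈ F₀, c₀ • xs 0 + c₁ • xs 1 + c₂ • xs 2 = 0 → c₀ = 0 ∧ c₁ = 0 ∧ c₂ = 0)
    {z z' : ι → F} (hz : z ∈ ratVec F₀ P) (hz' : z' ∈ ratVec F₀ P) (hz0 : z ≠ 0) (hzp : ∀ i, f z (xs i) = 0)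
    (hz'p : ∀ i, f z' (xs i) = 0) : ∃ k ∈ F₀, z' = k • z := by
  classical
  obtain ⟨Q, hnd, hQ, hB⟩ := exists_quad C.base
  obtain ⟨ys, hys, -⟩ := exists_lift C.base xs hxs
  have hli : LinearIndependent F₀ ys := by
    rw [Fintype.linearIndependent_iff]
    intro c hc
    have h := congrArg (embL F₀ P) hc
    rw [map_zero, Fin.sum_univ_three, map_add, map_add, map_smul, map_smul, map_smul, hys, hys, hys] at h
    obtain ⟨h0, h1, h2⟩ := hind _ (c 0).2 _ (c 1).2 _ (c 2).2 h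
    intro i
    fin_cases i
    exacts [Subtype.ext h0, Subtype.ext h1, Subtype.ext h2]
  have h1 := Orth.finrank_perp hnd (Submodule.span F₀ (Set.range ys))
  rw [finrank_span_eq_card hli, Fintype.card_fin, C.four] at h1
  have hperp : ∀ w : ι → F, w ∈ ratVec F₀ P → (∀ i, f w (xs i) = 0) →
      ∃ u ∈ Orth.perp Q (Submodule.span F₀ (Set.range ys)), embL F₀ P u = w := by
    intro w hw hwp
    obtain ⟨u, rfl⟩ := exists_embL hw
    refine ⟨u, (Orth.mem_perp_span Q).2 ?_, rfl⟩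
    rintro _ ⟨i, rfl⟩
    apply Subtype.ext
    rw [hB, hys, ← symm' C (hxs i) (embL_mem u), hwp i, mul_zero]; rfl
  obtain ⟨u, hu, rfl⟩ := hperp z hz hzp
  obtain ⟨u', hu', rfl⟩ := hperp z' hz' hz'p
  obtain ⟨k, hk⟩ := (finrank_eq_one_iff_of_nonzero' (⟨u, hu⟩ : Orth.perp Q _)
    (fun h => hz0 (by rw [show u = 0 from congrArg Subtype.val h, map_zero]))).1 h1 ⟨u', hu'⟩
  refine ⟨(k : F), k.2, ?_⟩
  have hk' : k • u = u' := congrArg Subtype.val hk
  rw [← hk', map_smul]; rfl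

/-- the fourth vector of an orthogonal basis -/
theorem orth_basis {e₀ e₁ e₂ z : ι → F} (h₀ : e₀ ∈ ratVec F₀ P) (h₁ : e₁ ∈ ratVec F₀ P)
    (h₂ : e₂ ∈ ratVec F₀ P) (hz : z ∈ ratVec F₀ P) (n₀ : f e₀ e₀ ≠ 0) (n₁ : f e₁ e₁ ≠ 0) (n₂ : f e₂ e₂ ≠ 0)
    (o₀₁ : f e₀ e₁ = 0) (o₀₂ : f e₀ e₂ = 0) (o₁₂ : f e₁ e₂ = 0) (hz0 : z ≠ 0) (hp₀ : f z e₀ = 0)
    (hp₁ : f z e₁ = 0) (hp₂ : f z e₂ = 0) :
    f z z ≠ 0 ∧ ∀ d ∈ ratVec F₀ P, d = (f d e₀ / f e₀ e₀) • e₀ + (f d e₁ / f e₁ e₁) • e₁ +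
      (f d e₂ / f e₂ e₂) • e₂ + (f d z / f z z) • z := by
  have hU := C.base.unit
  have o₁₀ := eq_zero_symm hU o₀₁
  have o₂₀ := eq_zero_symm hU o₀₂
  have o₂₁ := eq_zero_symm hU o₁₂
  have hxs : ∀ i, (![e₀, e₁, e₂] : Fin 3 → ι → F) i ∈ ratVec F₀ P := by
    intro i; fin_cases i; exacts [h₀, h₁, h₂]
  have hind : ∀ c₀ ∈ F₀, ∀ c₁ ∈ F₀, ∀ c₂ ∈ F₀, c₀ • (![e₀, e₁, e₂] : Fin 3 → ι → F) 0 +
      c₁ • (![e₀, e₁, e₂] : Fin 3 → ι → F) 1 + c₂ • (![e₀, e₁, e₂] : Fin 3 → ι → F) 2 = 0 →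
      c₀ = 0 ∧ c₁ = 0 ∧ c₂ = 0 := by
    intro c₀ _ c₁ _ c₂ _ h
    have h' : c₀ • e₀ + c₁ • e₁ + c₂ • e₂ = 0 := h
    have q0 := congrArg (f · e₀) h'
    have q1 := congrArg (f · e₁) h'
    have q2 := congrArg (f · e₂) h'
    simp only [add_left hU, smul_left hU, zero_left hU, o₀₁, o₀₂, o₁₂, o₁₀, o₂₀, o₂₁, mul_zero, add_zero,
      zero_add, mul_eq_zero, n₀, n₁, n₂, or_false] at q0 q1 q2
    exact ⟨q0, q1, q2⟩
  have hrest : ∀ d ∈ ratVec F₀ P, ∃ k ∈ F₀, d - (f d e₀ / f e₀ e₀) • e₀ - (f d e₁ / f e₁ e₁) • e₁ -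
      (f d e₂ / f e₂ e₂) • e₂ = k • z := by
    intro d hd
    have hR := C.base.rat
    refine perp_line C ![e₀, e₁, e₂] hxs hind hz (Submodule.sub_mem _ (Submodule.sub_mem _ (Submodule.sub_mem _ hd
      (ratVec_smul (F₀.div_mem (hR d hd _ h₀) (hR _ h₀ _ h₀)) h₀))
      (ratVec_smul (F₀.div_mem (hR d hd _ h₁) (hR _ h₁ _ h₁)) h₁))
      (ratVec_smul (F₀.div_mem (hR d hd _ h₂) (hR _ h₂ _ h₂)) h₂)) hz0 ?_ ?_
    · intro i; fin_cases i; exacts [hp₀, hp₁, hp₂]
    · intro i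
      fin_cases i <;> simp [sub_left hU, smul_left hU, o₀₁, o₀₂, o₁₂, o₁₀, o₂₀, o₂₁, n₀, n₁, n₂]
  have hzz : f z z ≠ 0 := by
    intro h
    apply hz0
    refine eq_zero_of_perp C.base fun d hd => ?_
    obtain ⟨k, -, hk⟩ := hrest d hd
    have := congrArg (f · z) hk
    simp only [sub_left hU, smul_left hU, eq_zero_symm hU hp₀, eq_zero_symm hU hp₁, eq_zero_symm hU hp₂,
      mul_zero, sub_zero, h] at this
    exact this
  refine ⟨hzz, fun d hd => ?_⟩
  obtain ⟨k, -, hk⟩ := hrest d hd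
  have hk' := congrArg (f · z) hk
  simp only [sub_left hU, smul_left hU, eq_zero_symm hU hp₀, eq_zero_symm hU hp₁, eq_zero_symm hU hp₂,
    mul_zero, sub_zero] at hk'
  rw [hk', mul_div_assoc, div_self hzz, mul_one, ← hk]
  abel

/-- an anisotropic rational vector orthogonal to two given vectors spanning a non-degenerate plane -/
theorem aniso_perp {x y : ι → F} (hx : x ∈ ratVec F₀ P) (hy : y ∈ ratVec F₀ P)
    (hdet : f x x * f y y - f x y * f x y ≠ 0) :
    ∃ p ∈ ratVec F₀ P, f p x = 0 ∧ f p y = 0 ∧ f p p ≠ 0 := by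
  have hU := C.base.unit
  obtain ⟨z, hz, hz0, hzp⟩ := exists_perp C ![x, y, x] (by intro i; fin_cases i; exacts [hx, hy, hx])
  have hzx : f z x = 0 := hzp 0
  have hzy : f z y = 0 := hzp 1
  by_cases hzz : f z z = 0
  swap; · exact ⟨z, hz, hzx, hzy, hzz⟩
  obtain ⟨z', hz', hz'z', hz'p, hz'z, hzz'⟩ := partner C.base ![x, y]
    (by simp [Fin.forall_fin_two, hx, hy]) hz hzz (by simp [Fin.forall_fin_two, hzx, hzy]) (fun h => by
      rw [rspan, Matrix.range_cons, Matrix.range_cons, Matrix.range_empty, Set.union_empty, Set.singleton_union,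
        Submodule.mem_span_pair] at h
      obtain ⟨s, t, h⟩ := h
      have h' : (s : F) • x + (t : F) • y = z := h
      rw [← h'] at hzx hzy
      simp only [add_left hU, smul_left hU, symm' C hx hy] at hzx hzy
      have hs : (s : F) = 0 := (mul_eq_zero.1 (show (s : F) * (f x x * f y y - f x y * f x y) = 0 by
        linear_combination f y y * hzx - f x y * hzy)).resolve_right hdet
      have ht : (t : F) = 0 := (mul_eq_zero.1 (show (t : F) * (f x x * f y y - f x y * f x y) = 0 by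
        linear_combination f x x * hzy - f x y * hzx)).resolve_right hdet
      exact hz0 (by rw [← h', hs, ht]; simp))
  simp only [Fin.forall_fin_two, Matrix.cons_val_zero, Matrix.cons_val_one] at hz'p
  refine ⟨z + z', Submodule.add_mem _ hz hz', by rw [add_left hU, hzx, hz'p.1, add_zero],
    by rw [add_left hU, hzy, hz'p.2, add_zero], ?_⟩
  rw [add_left hU, add_right hU, add_right hU, hzz, hzz', hz'z, hz'z', zero_add, add_zero, one_add_one_eq_two]
  exact C.base.two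

/-- a hyperbolic pair at a singular vector -/
theorem exists_pair {a : ι → F} (ha : a ∈ ratVec F₀ P) (ha0 : a ≠ 0) (haa : f a a = 0) :
    ∃ a' ∈ ratVec F₀ P, f a' a' = 0 ∧ f a' a = 1 ∧ f a a' = 1 := by
  obtain ⟨a', h, h', -, h1, h2⟩ := partner C.base (k := 0) ![] (fun i => i.elim0) ha haa (fun i => i.elim0)
    (by simpa [rspan, Matrix.range_empty] using ha0)
  exact ⟨a', h, h', h1, h2⟩

/-- root elements at rational singular points with rational vectors are in `M` -/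
theorem tev_mem {a d : ι → F} (ha : a ∈ ratVec F₀ P) (haa : f a a = 0) (hd : d ∈ ratVec F₀ P)
    (hda : f d a = 0) : tev C.base.unit a d ∈ M := by
  have hU := C.base.unit
  have had := eq_zero_symm hU hda
  have hdd := C.base.rat d hd d hd
  have hh : f d d / 2 ∈ F₀ := F₀.div_mem hdd (two_mem C)
  refine C.mem _ (mem_uiso.2 fun x y => ?_) ?_ fun x hx => ?_
  · simp only [act_tev C.base haa hda, add_left hU, add_right hU, sub_left hU, sub_right hU, smul_left hU,
      smul_right hU, map_mul, σ_rat C hh, herm' hU, haa, hda, had]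
    have := C.base.two
    field_simp
    ring
  · have h1 : f a (d + (f d d / 2) • a) = 0 := by rw [add_right hU, had, smul_right hU, haa, mul_zero, add_zero]
    have h2 : f d (-a) = 0 := by rw [neg_right' hU, hda, neg_zero]
    have := mul_mem (det_ptv hU h1) (det_ptv hU h2)
    simpa [tev, Cfsg.Geo.specialLinear, MonoidHom.mem_ker, Units.ext_iff] using this
  · rw [act_tev C.base haa hda]
    exact Submodule.sub_mem _ (Submodule.sub_mem _ (Submodule.add_mem _ hx
      (ratVec_smul (C.base.rat x hx d hd) ha)) (ratVec_smul (C.base.rat x hx a ha) hd))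
      (ratVec_smul (F₀.mul_mem hh (C.base.rat x hx a ha)) ha)

/-- without seeds a root element at a rational point in `M` has real products with rational vectors -/
theorem tev_real4 (hseed : ¬ Seed C.base.unit F₀ P M) {e w b : ι → F} (he : e ∈ ratVec F₀ P) (he0 : e ≠ 0)
    (hee : f e e = 0) (hwe : f w e = 0) (hM : tev C.base.unit e w ∈ M) (hb : b ∈ ratVec F₀ P)
    (hbe : f b e = 0) : f b w ∈ F₀ := by
  have hU := C.base.unit
  have h2 := C.base.two
  have hMb := tev_mem C he hee hb hbe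
  obtain ⟨k, hk⟩ : ∃ k, k = (f w b - f b w) / 2 := ⟨_, rfl⟩
  have hks : k + σ k = 0 := by rw [hk, map_div₀, map_sub, herm' hU, herm' hU, map_ofNat]; ring
  have e1 := tev_mul C.base hee hwe hbe
  have e2 := tev_mul C.base hee hbe hwe
  rw [← hk] at e1
  rw [add_comm b w, show (f b w - f w b) / 2 = -k by rw [hk]; ring, utv_neg hU hee] at e2
  have h : utv hU e (k + k) ∈ M := by
    have := M.mul_mem (M.inv_mem (M.mul_mem hMb hM)) (M.mul_mem hM hMb)
    rwa [e1, e2, mul_inv_rev, inv_inv, mul_assoc, inv_mul_cancel_left, utv_add hU hee] at this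
  have hk0 : k = 0 := by
    by_contra h0
    exact hseed ⟨e, he, he0, hee, k + k, by rw [← two_mul]; exact mul_ne_zero h2 h0,
      by rw [map_add]; linear_combination 2 * hks, h⟩
  refine (C.base.fix _).2 ?_
  rw [herm' hU]
  rw [hk, div_eq_zero_iff, sub_eq_zero] at hk0
  exact hk0.resolve_right h2

/-- the product of two reflections at rational vectors -/
theorem exists_refl_pair {p q : ι → F} (hp : p ∈ ratVec F₀ P) (hq : q ∈ ratVec F₀ P) (np : f p p ≠ 0)
    (nq : f q q ≠ 0) (hpq : f p q = 0) :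
    ∃ t ∈ M, t ∈ uiso f ∧ ∀ z, act t z = z - (2 * f z p / f p p) • p - (2 * f z q / f q q) • q := by
  have hU := C.base.unit
  have hm : (-1 : F) * σ (-1) = 1 := by rw [map_neg, map_one]; ring
  obtain ⟨d, hd, hdl⟩ := exists_qref hU np hm
  obtain ⟨d', hd', hdl'⟩ := exists_qref hU nq hm
  have hact : ∀ z, act (d * d') z = z - (2 * f z p / f p p) • p - (2 * f z q / f q q) • q := by
    intro z
    rw [act_mul, hdl', hdl, add_left hU, smul_left hU, eq_zero_symm hU hpq]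
    match_scalars <;> ring
  refine ⟨d * d', C.mem _ (mul_mem hd hd') ?_ fun x hx => ?_, mul_mem hd hd', hact⟩
  · rw [Units.val_mul, Matrix.det_mul, det_qref hU np hdl, det_qref hU nq hdl']; ring
  · rw [hact]
    have hR := C.base.rat
    exact Submodule.sub_mem _ (Submodule.sub_mem _ hx
      (ratVec_smul (F₀.div_mem (F₀.mul_mem (two_mem C) (hR x hx p hp)) (hR p hp p hp)) hp))
      (ratVec_smul (F₀.div_mem (F₀.mul_mem (two_mem C) (hR x hx q hq)) (hR q hq q hq)) hq)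

/-- inverting the plane orthogonal to a hyperbolic pair -/
theorem exists_flip {a a' : ι → F} (ha : a ∈ ratVec F₀ P) (ha' : a' ∈ ratVec F₀ P) (haa : f a a = 0)
    (ha'a' : f a' a' = 0) (h1 : f a' a = 1) :
    ∃ t ∈ M, act t a = a ∧ act t a' = a' ∧ ∀ d ∈ ratVec F₀ P, f d a = 0 → f d a' = 0 → act t d = -d := by
  have hU := C.base.unit
  have h1' : f a a' = 1 := by rw [symm' C ha' ha, h1]
  obtain ⟨p, hp, hpa, hpa', hpp⟩ := aniso_perp C ha ha' (by rw [haa, ha'a', h1']; simp)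
  obtain ⟨q, hq, hq0, hqp⟩ := exists_perp C ![a, a', p] (by intro i; fin_cases i; exacts [ha, ha', hp])
  have q0 : f q a = 0 := hqp 0
  have q1 : f q a' = 0 := hqp 1
  have q2 : f q p = 0 := hqp 2
  obtain ⟨e₀, he₀⟩ : ∃ e, e = a + a' := ⟨_, rfl⟩
  obtain ⟨e₁, he₁⟩ : ∃ e, e = a - a' := ⟨_, rfl⟩
  have n₀ : f e₀ e₀ ≠ 0 := by
    rw [he₀, add_left hU, add_right hU, add_right hU, haa, ha'a', h1, h1', zero_add, add_zero, one_add_one_eq_two]
    exact C.base.two
  have n₁ : f e₁ e₁ ≠ 0 := by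
    rw [he₁, sub_left hU, sub_right hU, sub_right hU, haa, ha'a', h1, h1', zero_sub, sub_zero]
    simpa [sub_eq_add_neg, ← neg_add, one_add_one_eq_two] using C.base.two
  obtain ⟨nq, hdec⟩ := orth_basis C (he₀ ▸ Submodule.add_mem _ ha ha') (he₁ ▸ Submodule.sub_mem _ ha ha') hp hq n₀ n₁ hpp
    (by rw [he₀, he₁, add_left hU, sub_right hU, sub_right hU, haa, ha'a', h1, h1']; ring)
    (by rw [he₀, add_left hU, eq_zero_symm hU hpa, eq_zero_symm hU hpa', add_zero])
    (by rw [he₁, sub_left hU, eq_zero_symm hU hpa, eq_zero_symm hU hpa', sub_zero]) hq0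
    (by rw [he₀, add_right hU, q0, q1, add_zero]) (by rw [he₁, sub_right hU, q0, q1, sub_zero]) q2
  obtain ⟨t, ht, -, hact⟩ := exists_refl_pair C hp hq hpp nq (eq_zero_symm hU q2)
  refine ⟨t, ht, ?_, ?_, fun d hd hda hda' => ?_⟩
  · rw [hact, eq_zero_symm hU hpa, eq_zero_symm hU q0]; simp
  · rw [hact, eq_zero_symm hU hpa', eq_zero_symm hU q1]; simp
  · have e := hdec d hd
    rw [he₀, he₁, add_right hU, sub_right hU, hda, hda', ← he₀, ← he₁] at e
    simp only [add_zero, sub_zero, zero_div, zero_smul, zero_add] at e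
    rw [hact]
    conv_rhs => rw [e]
    conv_lhs => enter [1, 1]; rw [e]
    match_scalars <;> ring

/-- an element of `M` scaling one rational singular vector to another -/
theorem exists_move {l l' : ι → F} (hl : l ∈ ratVec F₀ P) (hl' : l' ∈ ratVec F₀ P) (hll : f l l = 0)
    (hll' : f l' l' = 0) (hne : f l l' ≠ 0) {k : F} (hk : k ∈ F₀) (hk0 : k ≠ 0) :
    ∃ h ∈ M, h ∈ uiso f ∧ act h l = k • l' := by
  have hU := C.base.unit
  have hsym := symm' C hl hl'
  obtain ⟨p, hp, hpl, hpl', hpp⟩ := aniso_perp C hl hl'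
    (by rw [hll, hll', mul_zero, zero_sub, neg_ne_zero]; exact mul_ne_zero hne hne)
  obtain ⟨d, hddef⟩ : ∃ d, d = l - k • l' := ⟨_, rfl⟩
  have hdd : f d d = -(2 * k * f l l') := by
    rw [hddef]
    simp only [sub_left hU, sub_right hU, smul_left hU, smul_right hU, hll, hll', hsym, σ_rat C hk]
    ring
  have hd0 : f d d ≠ 0 := by
    rw [hdd]; exact neg_ne_zero.2 (mul_ne_zero (mul_ne_zero C.base.two hk0) hne)
  obtain ⟨h, hh, hi, hact⟩ := exists_refl_pair C (hddef ▸ Submodule.sub_mem _ hl (ratVec_smul hk hl')) hp hd0 hpp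
    (by rw [hddef, sub_left hU, smul_left hU, eq_zero_symm hU hpl, eq_zero_symm hU hpl']; ring)
  refine ⟨h, hh, hi, ?_⟩
  have hld : f l d = -(k * f l l') := by
    rw [hddef, sub_right hU, smul_right hU, hll, σ_rat C hk]; ring
  rw [hact, eq_zero_symm hU hpl, hld, hdd,
    show 2 * -(k * f l l') / -(2 * k * f l l') = 1 by
      rw [div_eq_one_iff_eq (by rw [← hdd]; exact hd0)]; ring]
  rw [hddef]; simp

/-- a rational singular vector orthogonal to neither of two given ones -/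
theorem exists_common {l l' : ι → F} (hl : l ∈ ratVec F₀ P) (hl' : l' ∈ ratVec F₀ P) (hl0 : l ≠ 0)
    (hl'0 : l' ≠ 0) (hll : f l l = 0) (hll' : f l' l' = 0) :
    ∃ z ∈ ratVec F₀ P, f z z = 0 ∧ f z l ≠ 0 ∧ f z l' ≠ 0 := by
  have hU := C.base.unit
  by_cases hne : f l l' = 0
  · by_cases hdep : ∃ k ∈ F₀, l' = k • l
    · obtain ⟨k, hk, rfl⟩ := hdep
      have hk0 : k ≠ 0 := by rintro rfl; simp at hl'0
      obtain ⟨z, hz, hzz, hz1, -⟩ := exists_pair C hl hl0 hll
      exact ⟨z, hz, hzz, by rw [hz1]; exact one_ne_zero,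
        by rw [smul_right hU, hz1, mul_one, σ_rat C hk]; exact hk0⟩
    push Not at hdep
    obtain ⟨d, hd, hdp, hdl⟩ := dual C.base ![l - l'] (by simpa using Submodule.sub_mem _ hl hl') hl (fun h => by
      obtain ⟨k, hk, e⟩ := rspan_one h
      rcases eq_or_ne k 0 with rfl | hk0
      · exact hl0 (by rw [e, zero_smul])
      · refine hdep ((k - 1) / k) (F₀.div_mem (F₀.sub_mem hk F₀.one_mem) hk) ?_
        have e' : k • l' = (k - 1) • l := by linear_combination (norm := module) e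
        rw [div_eq_inv_mul, mul_smul, ← e', inv_smul_smul₀ hk0])
    have hd1 : f d l' = 1 := by
      have h0 : f d (l - l') = 0 := by simpa using hdp 0
      rw [sub_right hU, hdl] at h0
      linear_combination -h0
    have hh : -(f d d / 2) ∈ F₀ := F₀.neg_mem (F₀.div_mem (C.base.rat d hd d hd) (two_mem C))
    refine ⟨d + (-(f d d / 2)) • l, Submodule.add_mem _ hd (ratVec_smul hh hl), ?_, ?_, ?_⟩
    · have := C.base.two
      simp only [add_left hU, add_right hU, smul_left hU, smul_right hU, hdl, hll, symm' C hd hl, σ_rat C hh]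
      field_simp
      ring
    · rw [add_left hU, smul_left hU, hdl, hll, mul_zero, add_zero]; exact one_ne_zero
    · rw [add_left hU, smul_left hU, hd1, hne, mul_zero, add_zero]; exact one_ne_zero
  obtain ⟨y, hy, hyl, hyl', hyy⟩ := aniso_perp C hl hl'
    (by rw [hll, hll', mul_zero, zero_sub, neg_ne_zero]; exact mul_ne_zero hne hne)
  have hsym := symm' C hl hl'
  obtain ⟨k, hk⟩ : ∃ k, k = -(f y y / (2 * f l l')) := ⟨_, rfl⟩
  have hkF : k ∈ F₀ := hk ▸ F₀.neg_mem (F₀.div_mem (C.base.rat y hy y hy)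
    (F₀.mul_mem (two_mem C) (C.base.rat l hl l' hl')))
  refine ⟨l' + y + k • l, Submodule.add_mem _ (Submodule.add_mem _ hl' hy) (ratVec_smul hkF hl), ?_, ?_, ?_⟩
  · simp only [add_left hU, add_right hU, smul_left hU, smul_right hU, hll, hll', hsym, hyl, hyl',
      eq_zero_symm hU hyl, eq_zero_symm hU hyl', σ_rat C hkF]
    rw [hk]
    have := C.base.two
    field_simp
    ring
  · rw [add_left hU, add_left hU, smul_left hU, hsym, hyl, hll, mul_zero, add_zero, add_zero]; exact hne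
  · rw [add_left hU, add_left hU, smul_left hU, hll', hyl', zero_add, zero_add, hk, neg_mul, neg_ne_zero]
    exact mul_ne_zero (div_ne_zero hyy (mul_ne_zero C.base.two hne)) hne

/-- one transvection gives the root groups at all rational singular points -/
theorem root_rat4 (hs : Seed C.base.unit F₀ P M) {l : ι → F} (hl : l ∈ ratVec F₀ P) (hll : f l l = 0) :
    RootIn C.base.unit M l := by
  have hU := C.base.unit
  obtain ⟨l₀, hl₀, hl₀0, hl₀₀, c, hc0, hc, hM⟩ := hs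
  have hstep : ∀ x y : ι → F, x ∈ ratVec F₀ P → y ∈ ratVec F₀ P → f x x = 0 → f y y = 0 → f x y ≠ 0 →
      ∀ (k e : F), k ∈ F₀ → k ≠ 0 → utv hU x e ∈ M → utv hU y (k * k * e) ∈ M := by
    intro x y hx hy hxx hyy hne k e hk hk0 hMx
    obtain ⟨h, hh, hi, he⟩ := exists_move C hx hy hxx hyy hne hk hk0
    have := M.mul_mem (M.mul_mem hh hMx) (M.inv_mem hh)
    rwa [conj_utv hU hi hxx, he, utv_smul hU hyy, σ_rat C hk] at this
  rcases eq_or_ne l 0 with rfl | hl0
  · refine ⟨hll, fun c' _ => ?_⟩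
    rw [show utv hU (0 : ι → F) c' = 1 from gl_ext fun x => by
      rw [act_utv hU (zero_left hU 0), act_one]; simp]
    exact M.one_mem
  obtain ⟨z, hz, hzz, hz₀, hzl⟩ := exists_common C hl₀ hl hl₀0 hl0 hl₀₀ hll
  have hsq : ∀ k ∈ F₀, utv hU l (k * k * c) ∈ M := by
    intro k hk
    rcases eq_or_ne k 0 with rfl | hk0
    · rw [mul_zero, zero_mul, utv_zero hU]; exact M.one_mem
    refine hstep z l hz hl hzz hll hzl k c hk hk0 ?_
    simpa using hstep l₀ z hl₀ hz hl₀₀ hzz (ne_symm hU hz₀) 1 c F₀.one_mem one_ne_zero hM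
  refine ⟨hll, fun c' hc' => ?_⟩
  obtain ⟨s, hs⟩ : ∃ s, s = c' / c := ⟨_, rfl⟩
  have hsF : s ∈ F₀ := (C.base.fix s).2 (by
    rw [hs, map_div₀, eq_neg_of_add_eq_zero_right hc', eq_neg_of_add_eq_zero_right hc, neg_div_neg_eq])
  have h2 := C.base.two
  have hm := M.mul_mem (hsq ((s + 1) / 2) (F₀.div_mem (F₀.add_mem hsF F₀.one_mem) (two_mem C)))
    (M.inv_mem (hsq ((s - 1) / 2) (F₀.div_mem (F₀.sub_mem hsF F₀.one_mem) (two_mem C))))
  rw [← utv_neg hU hll, utv_add hU hll] at hm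
  convert hm using 2
  rw [hs]
  field_simp
  ring

end Cfsg.Agent.MaxCl.UOrth4
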