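/-
The orthogonal subgroups of `SU_4(q)`, `q` odd and at least five, are maximal.

Without a transvection at a rational singular point an overgroup maps rational singular points to rational points:
an image orthogonal to a rational singular point gives either a root element at a rational point or a torus element
that is not a similitude of the rational plane; any other image together with three of its transforms gives three
pairwise non-orthogonal singular vectors orthogonal to one singular vector, unless it lies on a rational line.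
-/
import Cfsg.Agent.Lib.MaxCl.SU4.OrthSubfieldBase

set_option autoImplicit false
set_option maxHeartbeats 1600000

namespace Cfsg.Agent.MaxCl.UOrth4

open Cfsg.Agent.MaxCl.Unit Cfsg.Agent.MaxCl.UOrth
open scoped MatrixGroups Matrix

variable {ι : Type} [Fintype ι] [DecidableEq ι] {F : Type*} [Field F] [Fintype F]
variable {σ : F ≃+* F} {f : (ι → F) → (ι → F) → F} {F₀ : Subfield F} {P : GL ι F} {M : Subgroup (GL ι F)}
variable (C : Ctx4 σ f F₀ P M)
include C

theorem exists_rep {π ρ k : F} (hπ : π ∈ F₀) (hρ : ρ ∈ F₀) (hk : k ∈ F₀) (hπ0 : π ≠ 0) (hρ0 : ρ ≠ 0) :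
    ∃ m ∈ F₀, ∃ n ∈ F₀, m * m * π + n * n * ρ = k := by
  classical
  haveI : Fintype F₀ := Fintype.ofFinite _
  have h2 : (2 : F₀) ≠ 0 := fun h =>
    C.base.two ((map_ofNat F₀.subtype 2).symm.trans ((congrArg F₀.subtype h).trans (map_zero _)))
  have hodd : Fintype.card F₀ % 2 = 1 :=
    FiniteField.odd_card_of_char_ne_two (by
      intro h
      haveI : CharP F₀ 2 := h ▸ ringChar.charP F₀
      exact h2 CharTwo.two_eq_zero)
  obtain ⟨m, n, hmn⟩ := FiniteField.exists_root_sum_quadratic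
    (f := Polynomial.C (⟨π, hπ⟩ : F₀) * Polynomial.X ^ 2)
    (g := Polynomial.C (⟨ρ, hρ⟩ : F₀) * Polynomial.X ^ 2 - Polynomial.C (⟨k, hk⟩ : F₀))
    (Polynomial.degree_C_mul_X_pow 2 (fun h => hπ0 (congrArg Subtype.val h)))
    (by
      rw [Polynomial.degree_sub_eq_left_of_degree_lt]
      · exact Polynomial.degree_C_mul_X_pow 2 (fun h => hρ0 (congrArg Subtype.val h))
      · rw [Polynomial.degree_C_mul_X_pow 2 (fun h => hρ0 (congrArg Subtype.val h))]
        exact lt_of_le_of_lt Polynomial.degree_C_le (by norm_num)) hodd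
  refine ⟨(m : F), m.2, (n : F), n.2, ?_⟩
  have h := congrArg Subtype.val hmn
  simp at h
  linear_combination h

/-- three vectors of norm `4 ζ² f(x,x)` of the plane with independent differences -/
theorem exists_three {a a' x : ι → F} (ha : a ∈ ratVec F₀ P) (ha' : a' ∈ ratVec F₀ P) (haa : f a a = 0)
    (ha'a' : f a' a' = 0) (h1 : f a' a = 1) (hx : x ∈ ratVec F₀ P) (hxa : f x a = 0) (hxa' : f x a' = 0)
    (hx0 : x ≠ 0) {ζ : F} (hζ : ζ ≠ 0) (hζs : σ ζ = -ζ) (hζF : ζ ∉ F₀) :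
    ∃ y : Fin 3 → ι → F, (∀ i, y i ∈ ratVec F₀ P ∧ f (y i) a = 0 ∧ f (y i) a' = 0 ∧
        f (y i) (y i) = 4 * (ζ * ζ) * f x x) ∧
      ∀ i j, i ≠ j → f x (y i - y j) ≠ 0 ∨ f (y i - y j) (y i - y j) ≠ 0 := by
  have hU := C.base.unit
  have h2 := C.base.two
  have h1' : f a a' = 1 := by rw [symm' C ha' ha, h1]
  have hR := C.base.rat
  by_cases hxx : f x x = 0
  · obtain ⟨x', hx', hx'x', hx'p, hx'x, hxx'⟩ := partner C.base ![a, a'] (by simp [Fin.forall_fin_two, ha, ha']) hx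
      hxx (by simp [Fin.forall_fin_two, hxa, hxa']) (fun h => by
        rw [rspan, Matrix.range_cons, Matrix.range_cons, Matrix.range_empty, Set.union_empty, Set.singleton_union,
          Submodule.mem_span_pair] at h
        obtain ⟨s, t, h⟩ := h
        have h' : (s : F) • a + (t : F) • a' = x := h
        rw [← h'] at hxa hxa'
        simp only [add_left hU, smul_left hU, haa, ha'a', h1, h1', mul_zero, mul_one, zero_add, add_zero] at hxa hxa'
        exact hx0 (by rw [← h', hxa, hxa']; simp))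
    simp only [Fin.forall_fin_two, Matrix.cons_val_zero, Matrix.cons_val_one] at hx'p
    let c : Fin 3 → F := ![0, 1, -1]
    have hc : ∀ i, c i ∈ F₀ := by
      intro i; fin_cases i; exacts [F₀.zero_mem, F₀.one_mem, F₀.neg_mem F₀.one_mem]
    refine ⟨fun i => c i • x', fun i => ⟨ratVec_smul (hc i) hx', by rw [smul_left hU, hx'p.1, mul_zero],
      by rw [smul_left hU, hx'p.2, mul_zero], by
        rw [smul_left hU, smul_right hU, hx'x', hxx]; ring⟩, fun i j hij => Or.inl ?_⟩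
    have e : f x (c i • x' - c j • x') = c i - c j := by
      simp only [sub_right hU, smul_right hU, hxx', σ_rat C (hc i), σ_rat C (hc j), mul_one]
    rw [e, sub_ne_zero]
    have hm : (-1 : F) ≠ 1 := fun h => h2 (by linear_combination -h)
    fin_cases i <;> fin_cases j <;> simp [c, hm, hm.symm] at hij ⊢
  obtain ⟨e₀, he₀⟩ : ∃ e, e = a + a' := ⟨_, rfl⟩
  obtain ⟨e₁, he₁⟩ : ∃ e, e = a - a' := ⟨_, rfl⟩
  obtain ⟨z, hz, hz0, hzp⟩ := exists_perp C ![a, a', x] (by intro i; fin_cases i; exacts [ha, ha', hx])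
  have za : f z a = 0 := hzp 0
  have za' : f z a' = 0 := hzp 1
  have zx : f z x = 0 := hzp 2
  obtain ⟨nz, -⟩ := orth_basis C (he₀ ▸ Submodule.add_mem _ ha ha') (he₁ ▸ Submodule.sub_mem _ ha ha') hx hz
    (by
      rw [he₀, add_left hU, add_right hU, add_right hU, haa, ha'a', h1, h1', zero_add, add_zero, one_add_one_eq_two]
      exact h2)
    (by
      rw [he₁, sub_left hU, sub_right hU, sub_right hU, haa, ha'a', h1, h1', zero_sub, sub_zero]
      simpa [sub_eq_add_neg, ← neg_add, one_add_one_eq_two] using h2) hxx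
    (by rw [he₀, he₁, add_left hU, sub_right hU, sub_right hU, haa, ha'a', h1, h1']; ring)
    (by rw [he₀, add_left hU, eq_zero_symm hU hxa, eq_zero_symm hU hxa', add_zero])
    (by rw [he₁, sub_left hU, eq_zero_symm hU hxa, eq_zero_symm hU hxa', sub_zero]) hz0
    (by rw [he₀, add_right hU, za, za', add_zero]) (by rw [he₁, sub_right hU, za, za', sub_zero]) zx
  have xz := eq_zero_symm hU zx
  have hζ2 : ζ * ζ ∈ F₀ := (C.base.fix _).2 (by rw [map_mul, hζs]; ring)
  have h4 : (4 : F) ∈ F₀ := by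
    rw [show (4 : F) = 2 * 2 by norm_num]; exact F₀.mul_mem (two_mem C) (two_mem C)
  have hπ := hR x hx x hx
  have hρ := hR z hz z hz
  -- a solution with both coordinates non-zero
  obtain ⟨m, hm, n, hn, hm0, hn0, hmn⟩ : ∃ m ∈ F₀, ∃ n ∈ F₀, m ≠ 0 ∧ n ≠ 0 ∧
      m * m * f x x + n * n * f z z = 4 * (ζ * ζ) * f x x := by
    obtain ⟨m, hm, n, hn, hmn⟩ := exists_rep C hπ hρ (F₀.mul_mem (F₀.mul_mem h4 hζ2) hπ) hxx nz
    have hn0 : ∀ m' ∈ F₀, m' * m' * f x x + (0 : F) * 0 * f z z ≠ 4 * (ζ * ζ) * f x x := by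
      intro m' hm' h
      have e : (m' - 2 * ζ) * (m' + 2 * ζ) = 0 := by
        refine mul_right_cancel₀ hxx ?_
        linear_combination h
      rcases mul_eq_zero.1 e with e | e
      · exact hζF (by rw [show ζ = m' / 2 by rw [eq_div_iff h2]; linear_combination -e]; exact F₀.div_mem hm' (two_mem C))
      · exact hζF (by
          rw [show ζ = -m' / 2 by rw [eq_div_iff h2]; linear_combination e]
          exact F₀.div_mem (F₀.neg_mem hm') (two_mem C))
    have hne : n ≠ 0 := fun h => hn0 m hm (h ▸ hmn)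
    by_cases hm0 : m = 0
    swap; · exact ⟨m, hm, n, hn, hm0, hne, hmn⟩
    obtain ⟨t, ht, ht0, hd⟩ : ∃ t ∈ F₀, t ≠ 0 ∧ f x x + t * t * f z z ≠ 0 := by
      by_cases h : f x x + f z z = 0
      · obtain ⟨μ, hμ, hμ0, hμ1⟩ := C.big
        refine ⟨μ, hμ, hμ0, fun h' => hμ1 (mul_right_cancel₀ nz ?_)⟩
        linear_combination h' - h
      · exact ⟨1, F₀.one_mem, one_ne_zero, by simpa using h⟩
    obtain ⟨s, hs⟩ : ∃ s, s = -(2 * n * t * f z z) / (f x x + t * t * f z z) := ⟨_, rfl⟩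
    have hsF : s ∈ F₀ := hs ▸ F₀.div_mem (F₀.neg_mem (F₀.mul_mem (F₀.mul_mem (F₀.mul_mem (two_mem C) hn) ht) hρ))
      (F₀.add_mem hπ (F₀.mul_mem (F₀.mul_mem ht ht) hρ))
    have hs0 : s ≠ 0 := by
      rw [hs]; exact div_ne_zero (neg_ne_zero.2 (mul_ne_zero (mul_ne_zero (mul_ne_zero h2 hne) ht0) nz)) hd
    have hsd : s * (f x x + t * t * f z z) = -(2 * n * t * f z z) := by rw [hs, div_mul_cancel₀ _ hd]
    have hsol : s * s * f x x + (n + t * s) * (n + t * s) * f z z = 4 * (ζ * ζ) * f x x := by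
      rw [← hmn, hm0]; linear_combination s * hsd
    exact ⟨s, hsF, n + t * s, F₀.add_mem hn (F₀.mul_mem ht hsF), hs0, fun h => hn0 s hsF (h ▸ hsol), hsol⟩
  let u : Fin 3 → F := ![m, -m, m]
  let w : Fin 3 → F := ![n, n, -n]
  have hu : ∀ i, u i ∈ F₀ := by intro i; fin_cases i; exacts [hm, F₀.neg_mem hm, hm]
  have hw : ∀ i, w i ∈ F₀ := by intro i; fin_cases i; exacts [hn, hn, F₀.neg_mem hn]
  refine ⟨fun i => u i • x + w i • z, fun i => ⟨Submodule.add_mem _ (ratVec_smul (hu i) hx) (ratVec_smul (hw i) hz),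
    by rw [add_left hU, smul_left hU, smul_left hU, hxa, za]; ring,
    by rw [add_left hU, smul_left hU, smul_left hU, hxa', za']; ring, ?_⟩, fun i j hij => ?_⟩
  · simp only [add_left hU, add_right hU, smul_left hU, smul_right hU, xz, zx, σ_rat C (hu i), σ_rat C (hw i)]
    fin_cases i <;> simp [u, w] <;> linear_combination hmn
  · have e1 : f x ((u i • x + w i • z) - (u j • x + w j • z)) = (u i - u j) * f x x := by
      simp only [sub_right hU, add_right hU, smul_right hU, xz, σ_rat C (hu i), σ_rat C (hu j)]; ring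
    rw [e1]
    by_cases hui : u i = u j
    · right
      have e2 : (u i • x + w i • z) - (u j • x + w j • z) = (w i - w j) • z := by rw [hui]; module
      rw [e2, smul_left hU, smul_right hU, σ_rat C (F₀.sub_mem (hw i) (hw j))]
      refine mul_ne_zero (sub_ne_zero.2 fun h => ?_) (mul_ne_zero (sub_ne_zero.2 fun h => ?_) nz) <;>
      · have hm' : -m ≠ m := fun e => mul_ne_zero h2 hm0 (by linear_combination -e)
        have hn' : -n ≠ n := fun e => mul_ne_zero h2 hn0 (by linear_combination -e)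
        fin_cases i <;> fin_cases j <;> simp [u, w, hm', hm'.symm, hn', hn'.symm] at hij hui h
    · exact Or.inl (mul_ne_zero (sub_ne_zero.2 hui) hxx)

/-- no three pairwise non-orthogonal singular vectors are orthogonal to one singular vector -/
theorem no_three {a₀ : ι → F} (ha₀ : a₀ ∈ ratVec F₀ P) (ha₀0 : a₀ ≠ 0) (h₀ : f a₀ a₀ = 0)
    (r : Fin 3 → ι → F) (hr : ∀ i, r i ∈ ratVec F₀ P) (hs : ∀ i, f (r i) (r i) = 0) (hp : ∀ i, f (r i) a₀ = 0)
    (hne : ∀ i j, i ≠ j → f (r i) (r j) ≠ 0) : False := by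
  have hU := C.base.unit
  have hR := C.base.rat
  have h01 : f (r 0) (r 1) ≠ 0 := hne 0 1 (by decide)
  have h10 : f (r 1) (r 0) ≠ 0 := hne 1 0 (by decide)
  have h01' : f (r 1) (r 0) = f (r 0) (r 1) := symm' C (hr 0) (hr 1)
  obtain ⟨α, hα⟩ : ∃ α, α = f (r 2) (r 1) / f (r 0) (r 1) := ⟨_, rfl⟩
  obtain ⟨β, hβ⟩ : ∃ β, β = f (r 2) (r 0) / f (r 0) (r 1) := ⟨_, rfl⟩
  have hαF : α ∈ F₀ := hα ▸ F₀.div_mem (hR _ (hr 2) _ (hr 1)) (hR _ (hr 0) _ (hr 1))
  have hβF : β ∈ F₀ := hβ ▸ F₀.div_mem (hR _ (hr 2) _ (hr 0)) (hR _ (hr 0) _ (hr 1))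
  obtain ⟨k, hk, he⟩ := perp_line C ![a₀, r 0, r 1] (by intro i; fin_cases i; exacts [ha₀, hr 0, hr 1])
    (fun c₀ _ c₁ _ c₂ _ h => by
      have h' : c₀ • a₀ + c₁ • r 0 + c₂ • r 1 = 0 := h
      have q0 := congrArg (f · (r 0)) h'
      have q1 := congrArg (f · (r 1)) h'
      simp only [add_left hU, smul_left hU, zero_left hU, eq_zero_symm hU (hp 0), eq_zero_symm hU (hp 1), hs,
        mul_zero, add_zero, zero_add, mul_eq_zero, h10, h01, or_false] at q0 q1
      subst q0 q1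
      simp only [zero_smul, add_zero] at h'
      exact ⟨(smul_eq_zero.1 h').resolve_right ha₀0, rfl, rfl⟩)
    (z := a₀) (z' := r 2 - α • r 0 - β • r 1) ha₀
    (Submodule.sub_mem _ (Submodule.sub_mem _ (hr 2) (ratVec_smul hαF (hr 0))) (ratVec_smul hβF (hr 1))) ha₀0
    (by intro i; fin_cases i; exacts [h₀, eq_zero_symm hU (hp 0), eq_zero_symm hU (hp 1)])
    (by
      intro i
      fin_cases i <;>
      · simp [sub_left hU, smul_left hU, hp, hs, h01', hα, hβ, h01])
  have e : f (r 2 - α • r 0 - β • r 1) (r 2) = 0 := by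
    rw [he, smul_left hU, eq_zero_symm hU (hp 2), mul_zero]
  rw [sub_left hU, sub_left hU, smul_left hU, smul_left hU, hs, symm' C (hr 2) (hr 0), symm' C (hr 2) (hr 1),
    hα, hβ] at e
  field_simp at e
  exact mul_ne_zero (mul_ne_zero (hne 2 0 (by decide)) (hne 2 1 (by decide))) C.base.two (by linear_combination -e)

/-- an irrational point of a totally singular rational line in the orbit gives a seed -/
theorem seed_line (hseed : ¬ Seed C.base.unit F₀ P M) {g : GL ι F} (hg : g ∈ M) {a₀ a b : ι → F}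
    (ha₀ : a₀ ∈ ratVec F₀ P) (h₀ : f a₀ a₀ = 0) (ha : a ∈ ratVec F₀ P) (hb : b ∈ ratVec F₀ P)
    (ha0 : a ≠ 0) (haa : f a a = 0) (hbb : f b b = 0) (hab : f a b = 0) (hind : ∀ k ∈ F₀, b ≠ k • a) {p r : F}
    (hv : act g a₀ = p • a + r • b) (hirr : r * σ p - p * σ r ≠ 0) : False := by
  have hU := C.base.unit
  have hi := mem_uiso.1 (C.base.iso hg)
  have hba := eq_zero_symm hU hab
  have hb0 : b ≠ 0 := fun h => hind 0 F₀.zero_mem (by rw [h, zero_smul])
  have hp0 : p ≠ 0 := fun h => hirr (by rw [h, map_zero]; ring)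
  have haout : a ∉ rspan F₀ ![b] := fun h => by
    obtain ⟨k, hk, e⟩ := rspan_one h
    rcases eq_or_ne k 0 with rfl | hk0
    · exact ha0 (by rw [e, zero_smul])
    · exact hind k⁻¹ (F₀.inv_mem hk) (by rw [e, inv_smul_smul₀ hk0])
  obtain ⟨m, hm, hmm, hmb', hma, ham⟩ := partner C.base ![b] (by simpa using hb) ha haa (by simpa using hab) haout
  have hmb : f m b = 0 := by simpa using hmb' 0
  have hbm := eq_zero_symm hU hmb
  -- a root element at the point moving `b`
  obtain ⟨y, hy, hya, hβ0⟩ : ∃ y ∈ ratVec F₀ P, f y a₀ = 0 ∧ f b (act g y) ≠ 0 := by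
    by_contra hno; push Not at hno
    have h := mem_span_of_perp C.base ![a₀] (by simpa using ha₀) (w := act g⁻¹ b) fun x hx hxp => by
      rw [← hi, act_act_inv]
      exact eq_zero_symm hU (hno x hx (by simpa using hxp 0))
    rw [Matrix.range_cons, Matrix.range_empty, Set.union_empty, Submodule.mem_span_singleton] at h
    obtain ⟨k, hk⟩ := h
    have e := congrArg (act g) hk
    rw [map_smul, act_act_inv, hv] at e
    have e' := congrArg (f · m) e
    simp only [smul_left hU, add_left hU, ham, hbm, mul_zero, add_zero, mul_one] at e'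
    rcases mul_eq_zero.1 e' with hk0 | hp
    · rw [hk0, zero_smul] at e; exact hb0 e.symm
    · exact hp0 hp
  have hz : ∀ y ∈ ratVec F₀ P, f y a₀ = 0 →
      σ (f b (act g y) * p) * (1 - r * f b (act g y)) - σ (1 - r * f b (act g y)) * (f b (act g y) * p) = 0 := by
    intro y hy hya
    obtain ⟨W, hW⟩ : ∃ W, W = act g y := ⟨_, rfl⟩
    rw [← hW]
    obtain ⟨β, hβ⟩ : ∃ β, β = f b W := ⟨_, rfl⟩
    rw [← hβ]
    obtain ⟨α, hα⟩ : ∃ α, α = f a W := ⟨_, rfl⟩
    obtain ⟨v, hvdef⟩ : ∃ v, v = act g a₀ := ⟨_, rfl⟩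
    have hv' : v = p • a + r • b := hvdef.trans hv
    have hvW : f v W = 0 := by rw [hvdef, hW, hi, eq_zero_symm hU hya]
    have hrel : p * α + r * β = 0 := by
      rw [hv', add_left hU, smul_left hU, smul_left hU, ← hα, ← hβ] at hvW; exact hvW
    have hvv : f v v = 0 := by rw [hvdef, hi, h₀]
    have hWv := eq_zero_symm hU hvW
    have hav : f a v = 0 := by rw [hv', add_right hU, smul_right hU, smul_right hU, haa, hab]; ring
    have hbv : f b v = 0 := by rw [hv', add_right hU, smul_right hU, smul_right hU, hba, hbb]; ring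
    have hX : tev hU v W ∈ M := by
      have := M.mul_mem (M.mul_mem hg (tev_mem C ha₀ h₀ hy hya)) (M.inv_mem hg)
      rwa [conj_tev C.base (C.base.iso hg) h₀ hya, ← hvdef, ← hW] at this
    have hXa : act (tev hU v W) a = (1 + α * p) • a + (α * r) • b := by
      rw [act_tev C.base hvv hWv, hav, ← hα, hv']; module
    have hXb : act (tev hU v W) b = (β * p) • a + (1 + β * r) • b := by
      rw [act_tev C.base hvv hWv, hbv, ← hβ, hv']; module
    obtain ⟨Pc, hPc⟩ : ∃ c, c = 1 + α * p := ⟨_, rfl⟩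
    obtain ⟨qc, hqc⟩ : ∃ c, c = α * r := ⟨_, rfl⟩
    obtain ⟨Rc, hRc⟩ : ∃ c, c = β * p := ⟨_, rfl⟩
    obtain ⟨Sc, hSc⟩ : ∃ c, c = 1 + β * r := ⟨_, rfl⟩
    rw [← hPc, ← hqc] at hXa
    rw [← hRc, ← hSc] at hXb
    have hiso : ∀ s t : F, f (s • a + t • b) (s • a + t • b) = 0 := fun s t => by
      simp only [add_left hU, add_right hU, smul_left hU, smul_right hU, haa, hbb, hab, hba]; ring
    have hiso2 : ∀ s t s' t' : F, f (s • a + t • b) (s' • a + t' • b) = 0 := fun s t s' t' => by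
      simp only [add_left hU, add_right hU, smul_left hU, smul_right hU, haa, hbb, hab, hba]; ring
    have hone : sieg hU a b 1 ∈ M := C.base.sieg_rat a ha b hb haa hbb hab 1 F₀.one_mem hU
    have hE0 : sieg hU (Pc • a + qc • b) (Rc • a + Sc • b) 1 ∈ M := by
      have := M.mul_mem (M.mul_mem hX hone) (M.inv_mem hX)
      rwa [conj_sieg hU (C.base.iso hX) hab, hXa, hXb] at this
    have hEt : ∀ t ∈ F₀, sieg hU (Pc • a + (qc + t * Pc) • b) (Rc • a + (Sc + t * Rc) • b) 1 ∈ M := by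
      intro t ht
      have hu := C.base.sieg_rat b hb m hm hbb hmm hbm t ht hU
      have := M.mul_mem (M.mul_mem hu hE0) (M.inv_mem hu)
      rw [conj_sieg hU (sieg_mem hU hbb hmm hbm t) (hiso2 _ _ _ _), act_sieg hU hbb hmm hbm,
        act_sieg hU hbb hmm hbm] at this
      simp only [add_left hU, smul_left hU, ham, hbm, hab, hbb, mul_zero, add_zero, mul_one,
        zero_smul, sub_zero] at this
      convert this using 2 <;> module
    obtain ⟨z, hzdef⟩ : ∃ z, z = σ Rc * Pc - σ Pc * Rc := ⟨_, rfl⟩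
    have hzs : z + σ z = 0 := by rw [hzdef, map_sub, map_mul, map_mul, hU.involutive, hU.involutive]; ring
    suffices hz0 : z = 0 by
      rw [hzdef, hRc, hPc, show 1 + α * p = 1 - r * β by linear_combination hrel] at hz0
      exact hz0
    by_contra hz0
    refine hseed ⟨b, hb, hb0, hbb, z + z, by rw [← two_mul]; exact mul_ne_zero C.base.two hz0,
      by rw [map_add]; linear_combination 2 * hzs, ?_⟩
    have h := M.mul_mem (hEt 1 F₀.one_mem) (hEt (-1) (F₀.neg_mem F₀.one_mem))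
    have e : sieg hU (Pc • a + (qc + 1 * Pc) • b) (Rc • a + (Sc + 1 * Rc) • b) 1 *
        sieg hU (Pc • a + (qc + -1 * Pc) • b) (Rc • a + (Sc + -1 * Rc) • b) 1 =
        utv hU b (z + z) * (sieg hU (Pc • a + qc • b) (Rc • a + Sc • b) 1 *
          sieg hU (Pc • a + qc • b) (Rc • a + Sc • b) 1) := by
      apply gl_ext; intro x
      simp only [act_mul, act_utv hU hbb, act_sieg hU (hiso _ _) (hiso _ _) (hiso2 _ _ _ _), hzdef, map_one,
        map_add, map_mul, map_neg, one_mul, add_left hU, add_right hU, sub_left hU, smul_left hU, smul_right hU,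
        haa, hbb, hab, hba, mul_zero, zero_mul, add_zero, zero_add, sub_zero]
      match_scalars <;> ring
    rw [e] at h
    exact (M.mul_mem_cancel_right (M.mul_mem hE0 hE0)).1 h
  have q1 := hz y hy hya
  have q2 := hz (-y) (Submodule.neg_mem _ hy) (by rw [neg_left' hU, hya, neg_zero])
  rw [map_neg, neg_right' hU] at q2
  obtain ⟨β, hβ⟩ : ∃ β, β = f b (act g y) := ⟨_, rfl⟩
  rw [← hβ] at q1 q2 hβ0
  simp only [map_mul, map_sub, map_neg, map_one] at q1 q2
  exact mul_ne_zero (mul_ne_zero C.base.two (mul_ne_zero hβ0 ((map_ne_zero σ).2 hβ0))) hirr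
    (by linear_combination -q1 - q2)

/-- without seeds an image orthogonal to a rational singular vector is a rational point -/
theorem orth_point (hseed : ¬ Seed C.base.unit F₀ P M) {g : GL ι F} (hg : g ∈ M) {a₀ a : ι → F}
    (ha₀ : a₀ ∈ ratVec F₀ P) (h₀ : f a₀ a₀ = 0) (ha : a ∈ ratVec F₀ P) (ha0 : a ≠ 0) (haa : f a a = 0)
    (hva : f (act g a₀) a = 0) : ∃ s : F, ∃ r ∈ ratVec F₀ P, act g a₀ = s • r := by
  have hU := C.base.unit
  have hR := C.base.rat
  have hi := mem_uiso.1 (C.base.iso hg)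
  by_contra hno; push Not at hno
  obtain ⟨ζ, hζ, hζs, hζF⟩ := exists_skew_unit C.base
  obtain ⟨V₁, hV₁, V₂, hV₂, hdec⟩ := exists_dec C.base hζ hζs (act g a₀)
  obtain ⟨v, hvdef⟩ : ∃ v, v = act g a₀ := ⟨_, rfl⟩
  rw [← hvdef] at hdec hva
  have hvv : f v v = 0 := by rw [hvdef, hi, h₀]
  have hV : f V₁ a = 0 ∧ f V₂ a = 0 := by
    rw [hdec, add_left hU, smul_left hU] at hva
    have h2 := coef_rat C.base hζ hζs (hR _ hV₁ _ ha) (hR _ hV₂ _ ha) (by rw [hva]; exact F₀.zero_mem)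
    rw [h2, mul_zero, add_zero] at hva
    exact ⟨hva, h2⟩
  by_cases hind : ∀ c₀ ∈ F₀, ∀ c₁ ∈ F₀, ∀ c₂ ∈ F₀, c₀ • a + c₁ • V₁ + c₂ • V₂ = 0 → c₀ = 0 ∧ c₁ = 0 ∧ c₂ = 0
  swap
  · -- the image lies on a rational line through `a`
    push Not at hind
    obtain ⟨c₀, hc₀, c₁, hc₁, c₂, hc₂, hc, hc'⟩ := hind
    obtain ⟨b, hb, hba, p, r, hv⟩ : ∃ b ∈ ratVec F₀ P, f b a = 0 ∧ ∃ p r : F, v = p • a + r • b := by
      rcases eq_or_ne c₂ 0 with rfl | h2
      · rcases eq_or_ne c₁ 0 with rfl | h1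
        · rw [zero_smul, zero_smul, add_zero, add_zero] at hc
          exact absurd rfl (hc' ((smul_eq_zero.1 hc).resolve_right ha0) rfl)
        · refine ⟨V₂, hV₂, hV.2, -(c₀ / c₁), ζ, ?_⟩
          have e : V₁ = (-(c₀ / c₁)) • a := by
            apply smul_right_injective _ h1
            show c₁ • V₁ = c₁ • (-(c₀ / c₁)) • a
            rw [smul_smul, mul_neg, mul_div_cancel₀ _ h1]
            linear_combination (norm := module) hc
          rw [hdec, e]
      · refine ⟨V₁, hV₁, hV.1, -(ζ * (c₀ / c₂)), 1 - ζ * (c₁ / c₂), ?_⟩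
        have e : V₂ = (-(c₀ / c₂)) • a + (-(c₁ / c₂)) • V₁ := by
          apply smul_right_injective _ h2
          show c₂ • V₂ = c₂ • _
          rw [smul_add, smul_smul, smul_smul, mul_neg, mul_neg, mul_div_cancel₀ _ h2, mul_div_cancel₀ _ h2]
          linear_combination (norm := module) hc
        rw [hdec, e]; module
    rw [← hvdef] at hno
    have hr0 : r ≠ 0 := fun h => hno p a ha (by rw [hv, h]; simp)
    have hbb : f b b = 0 := by
      rw [hv] at hvv
      simp only [add_left hU, add_right hU, smul_left hU, smul_right hU, haa, hba, eq_zero_symm hU hba,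
        mul_zero, add_zero, zero_add] at hvv
      simpa [hr0] using hvv
    by_cases hdep : ∃ k ∈ F₀, b = k • a
    · obtain ⟨k, -, rfl⟩ := hdep
      exact hno (p + r * k) a ha (by rw [hv]; module)
    push Not at hdep
    by_cases hirr : r * σ p - p * σ r = 0
    · have hσr : σ r ≠ 0 := (map_ne_zero σ).2 hr0
      have hk : p / r ∈ F₀ := (C.base.fix _).2 (by rw [map_div₀, div_eq_div_iff hσr hr0]; linear_combination hirr)
      exact hno r ((p / r) • a + b) (Submodule.add_mem _ (ratVec_smul hk ha) hb)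
        (by rw [hv, smul_add, smul_smul, mul_div_cancel₀ _ hr0])
    · exact seed_line C hseed hg ha₀ h₀ ha hb ha0 haa hbb (eq_zero_symm hU hba) hdep
        (hvdef.symm.trans hv) hirr
  -- a torus on the line through `a` and the image
  have hav := eq_zero_symm hU hva
  obtain ⟨y₀, hy₀, hy₀a, ht⟩ : ∃ y ∈ ratVec F₀ P, f y a₀ = 0 ∧ f a (act g y) ≠ 0 := by
    by_contra hno'; push Not at hno'
    have h := mem_span_of_perp C.base ![a₀] (by simpa using ha₀) (w := act g⁻¹ a) fun x hx hxp => by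
      rw [← hi, act_act_inv]
      exact eq_zero_symm hU (hno' x hx (by simpa using hxp 0))
    rw [Matrix.range_cons, Matrix.range_empty, Set.union_empty, Submodule.mem_span_singleton] at h
    obtain ⟨k, hk⟩ := h
    have e := congrArg (act g) hk
    rw [map_smul, act_act_inv] at e
    have hk0 : k ≠ 0 := by rintro rfl; exact ha0 (by rw [← e, zero_smul])
    exact hno k⁻¹ a ha (by rw [← e, inv_smul_smul₀ hk0])
  obtain ⟨t, htdef⟩ : ∃ t, t = f a (act g y₀) := ⟨_, rfl⟩
  rw [← htdef] at ht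
  have hupper : ∀ s : F, ∃ T ∈ M, act T v = v + s • a ∧ act T a = a := by
    intro s
    have hs1 : (s + σ s) / 2 ∈ F₀ := (C.base.fix _).2 (by
      rw [map_div₀, map_add, hU.involutive, map_ofNat, add_comm])
    have hs2 : (s - σ s) / (2 * ζ) ∈ F₀ := (C.base.fix _).2 (by
      rw [map_div₀, map_sub, map_mul, hU.involutive, map_ofNat, hζs]
      have := C.base.two
      field_simp
      ring)
    have hout : ∀ X Y : ι → F, (X = V₁ ∧ Y = V₂ ∨ X = V₂ ∧ Y = V₁) → X ∉ rspan F₀ ![a, Y] := by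
      intro X Y hXY h
      rw [rspan, Matrix.range_cons, Matrix.range_cons, Matrix.range_empty, Set.union_empty, Set.singleton_union,
        Submodule.mem_span_pair] at h
      obtain ⟨k, l, h⟩ := h
      have h' : (k : F) • a + (l : F) • Y = X := h
      rcases hXY with ⟨rfl, rfl⟩ | ⟨rfl, rfl⟩
      · exact neg_ne_zero.2 one_ne_zero
          (hind k k.2 (-1) (F₀.neg_mem F₀.one_mem) l l.2 (by linear_combination (norm := module) h')).2.1
      · exact neg_ne_zero.2 one_ne_zero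
          (hind k k.2 l l.2 (-1) (F₀.neg_mem F₀.one_mem) (by linear_combination (norm := module) h')).2.2
    obtain ⟨d₁, hd₁, hd₁p, hd₁1⟩ := dual C.base ![a, V₂] (by simp [Fin.forall_fin_two, ha, hV₂]) hV₁
      (hout V₁ V₂ (Or.inl ⟨rfl, rfl⟩))
    obtain ⟨d₂, hd₂, hd₂p, hd₂1⟩ := dual C.base ![a, V₁] (by simp [Fin.forall_fin_two, ha, hV₁]) hV₂
      (hout V₂ V₁ (Or.inr ⟨rfl, rfl⟩))
    simp only [Fin.forall_fin_two, Matrix.cons_val_zero, Matrix.cons_val_one] at hd₁p hd₂p
    obtain ⟨y, hy⟩ : ∃ y, y = ((s + σ s) / 2) • d₁ + ((s - σ s) / (2 * ζ)) • d₂ := ⟨_, rfl⟩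
    have hyr : y ∈ ratVec F₀ P := hy ▸ Submodule.add_mem _ (ratVec_smul hs1 hd₁) (ratVec_smul hs2 hd₂)
    have hya : f y a = 0 := by rw [hy, add_left hU, smul_left hU, smul_left hU, hd₁p.1, hd₂p.1]; ring
    refine ⟨tev hU a y, tev_mem C ha haa hyr hya, ?_, ?_⟩
    · have e : f v y = s := by
        rw [hdec, add_left hU, smul_left hU, symm' C hyr hV₁, symm' C hyr hV₂, hy]
        simp only [add_left hU, smul_left hU, hd₁p.2, hd₂p.2, hd₁1, hd₂1]
        have := C.base.two
        field_simp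
        ring
      rw [act_tev C.base haa hya, hva, e]; simp
    · rw [act_tev C.base haa hya, haa, eq_zero_symm hU hya]; simp
  have hlower : ∀ k ∈ F₀, ∃ T ∈ M, act T v = v ∧ act T a = a + (k * t) • v := by
    intro k hk
    have hya : f (k • y₀) a₀ = 0 := by rw [smul_left hU, hy₀a, mul_zero]
    have hw : f (act g (k • y₀)) v = 0 := by rw [hvdef, hi, hya]
    have hX : tev hU v (act g (k • y₀)) ∈ M := by
      have := M.mul_mem (M.mul_mem hg (tev_mem C ha₀ h₀ (ratVec_smul hk hy₀) hya)) (M.inv_mem hg)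
      rwa [conj_tev C.base (C.base.iso hg) h₀ hya, ← hvdef] at this
    refine ⟨_, hX, ?_, ?_⟩
    · rw [act_tev C.base hvv hw, hvv, eq_zero_symm hU hw]; simp
    · rw [act_tev C.base hvv hw, hav, map_smul, smul_right hU, ← htdef, σ_rat C hk]; simp
  obtain ⟨μ, hμ, hμ0, hμ1⟩ := C.big
  obtain ⟨U₁, hU₁, hU₁v, hU₁a⟩ := hupper (-(1 / t))
  obtain ⟨L₁, hL₁, hL₁v, hL₁a⟩ := hlower 1 F₀.one_mem
  obtain ⟨U₂, hU₂, hU₂v, hU₂a⟩ := hupper (μ / t)
  obtain ⟨L₂, hL₂, hL₂v, hL₂a⟩ := hlower (-(1 / μ)) (F₀.neg_mem (F₀.div_mem F₀.one_mem hμ))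
  obtain ⟨h, hh⟩ : ∃ h, h = (U₂ * L₂ * U₂) * (U₁ * L₁ * U₁) := ⟨_, rfl⟩
  have hhM : h ∈ M := hh ▸ M.mul_mem (M.mul_mem (M.mul_mem hU₂ hL₂) hU₂) (M.mul_mem (M.mul_mem hU₁ hL₁) hU₁)
  have hha : act h a = μ • a := by
    simp only [hh, act_mul, map_add, map_smul, hU₁v, hU₁a, hL₁v, hL₁a, hU₂v, hU₂a, hL₂v, hL₂a]
    match_scalars <;> field_simp <;> ring
  have hhv : act h v = μ⁻¹ • v := by
    simp only [hh, act_mul, map_add, map_smul, hU₁v, hU₁a, hL₁v, hL₁a, hU₂v, hU₂a, hL₂v, hL₂a]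
    match_scalars <;> field_simp <;> ring
  obtain ⟨a', ha', ha'a', h1, h1'⟩ := exists_pair C ha ha0 haa
  obtain ⟨y, hy, hya, -, hyy⟩ := aniso_perp C ha ha' (by rw [haa, ha'a', h1']; simp)
  have hhi := C.base.iso hhM
  have hwa : f (μ • act h y) a = 0 := by
    have := mem_uiso.1 hhi y a
    rw [hha, smul_right hU, hya, mul_eq_zero, or_iff_right ((map_ne_zero σ).2 hμ0)] at this
    rw [smul_left hU, this, mul_zero]
  have hhy : f (act h y) a = 0 := by
    rw [smul_left hU] at hwa; exact (mul_eq_zero.1 hwa).resolve_left hμ0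
  have hmem : tev hU a (μ • act h y) ∈ M := by
    have hX := M.mul_mem (M.mul_mem hhM (tev_mem C ha haa hy hya)) (M.inv_mem hhM)
    rw [conj_tev C.base hhi haa hya, hha] at hX
    convert hX using 1
    apply gl_ext; intro x
    rw [act_tev C.base haa hwa, act_tev C.base (v := μ • a) (by rw [smul_left hU, smul_right hU, haa]; ring)
      (by rw [smul_right hU, hhy, mul_zero])]
    simp only [smul_left hU, smul_right hU, σ_rat C hμ]
    match_scalars <;> ring
  obtain ⟨Y₁, hY₁, Y₂, hY₂, hY⟩ := exists_dec C.base hζ hζs (μ • act h y)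
  have hY₂p : ∀ b ∈ ratVec F₀ P, f b a = 0 → f b Y₂ = 0 := by
    intro b hb hba
    have h := tev_real4 C hseed ha ha0 haa hwa hmem hb hba
    rw [hY, add_right hU, smul_right hU, hζs] at h
    exact coef_rat C.base (neg_ne_zero.2 hζ) (by rw [map_neg, hζs]) (hR b hb _ hY₁) (hR b hb _ hY₂) h
  have hYa : f Y₁ a = 0 ∧ f Y₂ a = 0 := by
    rw [hY, add_left hU, smul_left hU] at hwa
    have h2 := coef_rat C.base hζ hζs (hR _ hY₁ _ ha) (hR _ hY₂ _ ha) (by rw [hwa]; exact F₀.zero_mem)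
    rw [h2, mul_zero, add_zero] at hwa
    exact ⟨hwa, h2⟩
  have hY22 := hY₂p Y₂ hY₂ hYa.2
  have hY12 := hY₂p Y₁ hY₁ hYa.1
  have hnorm : f Y₁ Y₁ = μ * μ * f y y := by
    have e : f (μ • act h y) (μ • act h y) = μ * μ * f y y := by
      rw [smul_left hU, smul_right hU, mem_uiso.1 hhi, σ_rat C hμ]; ring
    rw [hY] at e
    simp only [add_left hU, add_right hU, smul_left hU, smul_right hU, hY22, hY12, eq_zero_symm hU hY12,
      mul_zero, add_zero] at e
    exact e
  have hd : f (Y₁ - (μ * μ) • y) v = 0 := by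
    have e1 : f Y₂ v = 0 := by
      rw [hdec, add_right hU, smul_right hU, symm' C hV₁ hY₂, symm' C hV₂ hY₂, hY₂p V₁ hV₁ hV.1,
        hY₂p V₂ hV₂ hV.2]
      ring
    have e2 : f (μ • act h y) v = μ * μ * f y v := by
      have := mem_uiso.1 hhi y v
      rw [hhv, smul_right hU, map_inv₀, σ_rat C hμ] at this
      rw [smul_left hU, ← this]; field_simp
    rw [hY, add_left hU, smul_left hU, e1, mul_zero, add_zero] at e2
    rw [sub_left hU, smul_left hU, e2, sub_self]
  have hμμ : μ * μ ∈ F₀ := F₀.mul_mem hμ hμ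
  have hdr : Y₁ - (μ * μ) • y ∈ ratVec F₀ P := Submodule.sub_mem _ hY₁ (ratVec_smul hμμ hy)
  have hd' : f (Y₁ - (μ * μ) • y) V₁ = 0 ∧ f (Y₁ - (μ * μ) • y) V₂ = 0 := by
    rw [hdec, add_right hU, smul_right hU, hζs] at hd
    have h2 := coef_rat C.base (neg_ne_zero.2 hζ) (by rw [map_neg, hζs]) (hR _ hdr _ hV₁) (hR _ hdr _ hV₂)
      (by rw [hd]; exact F₀.zero_mem)
    rw [h2, mul_zero, add_zero] at hd
    exact ⟨hd, h2⟩
  obtain ⟨k, hk, hke⟩ := perp_line C ![a, V₁, V₂] (by intro i; fin_cases i; exacts [ha, hV₁, hV₂]) hind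
    ha hdr ha0 (by intro i; fin_cases i; exacts [haa, eq_zero_symm hU hV.1, eq_zero_symm hU hV.2])
    (by
      intro i; fin_cases i
      exacts [show f (Y₁ - (μ * μ) • y) a = 0 by rw [sub_left hU, smul_left hU, hYa.1, hya]; simp, hd'.1, hd'.2])
  have e : Y₁ = (μ * μ) • y + k • a := by linear_combination (norm := module) hke
  rw [e] at hnorm
  simp only [add_left hU, add_right hU, smul_left hU, smul_right hU, haa, hya, eq_zero_symm hU hya,
    σ_rat C hμμ] at hnorm
  exact hμ1 (mul_right_cancel₀ (mul_ne_zero (mul_ne_zero hμ0 hμ0) hyy) (by linear_combination hnorm))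

/-- the shape of an image not orthogonal to a rational singular vector -/
theorem point_form (hseed : ¬ Seed C.base.unit F₀ P M) {g : GL ι F} (hg : g ∈ M) {a₀ a : ι → F}
    (ha₀ : a₀ ∈ ratVec F₀ P) (h₀ : f a₀ a₀ = 0) (ha : a ∈ ratVec F₀ P) (ha0 : a ≠ 0) (haa : f a a = 0)
    (hva : f (act g a₀) a ≠ 0) : ∃ a'' ∈ ratVec F₀ P, f a'' a'' = 0 ∧ f a'' a = 1 ∧
      ∃ c : F, c + σ c = 0 ∧ act g a₀ = f (act g a₀) a • (a'' + c • a) := by
  have hU := C.base.unit
  have hR := C.base.rat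
  have h2 := C.base.two
  have hi := mem_uiso.1 (C.base.iso hg)
  obtain ⟨ζ, hζ, hζs, hζF⟩ := exists_skew_unit C.base
  obtain ⟨k, hk⟩ : ∃ k, k = f (act g a₀) a := ⟨_, rfl⟩
  rw [← hk] at hva ⊢
  obtain ⟨b, hb⟩ : ∃ b, b = k⁻¹ • act g a₀ := ⟨_, rfl⟩
  have hgb : act g a₀ = k • b := by rw [hb, smul_inv_smul₀ hva]
  have hba : f b a = 1 := by rw [hb, smul_left hU, ← hk, inv_mul_cancel₀ hva]
  have hbb : f b b = 0 := by rw [hb, smul_left hU, smul_right hU, hi, h₀]; ring
  obtain ⟨B₁, hB₁, B₂, hB₂, hdec⟩ := exists_dec C.base hζ hζs b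
  have hB : f B₁ a = 1 ∧ f B₂ a = 0 := by
    rw [hdec, add_left hU, smul_left hU] at hba
    have h2 := coef_rat C.base hζ hζs (hR _ hB₁ _ ha) (hR _ hB₂ _ ha) (by rw [hba]; exact F₀.one_mem)
    rw [h2, mul_zero, add_zero] at hba
    exact ⟨hba, h2⟩
  obtain ⟨m, hm⟩ : ∃ m, m = -(f B₁ B₁ / 2) := ⟨_, rfl⟩
  have hmF : m ∈ F₀ := hm ▸ F₀.neg_mem (F₀.div_mem (hR _ hB₁ _ hB₁) (two_mem C))
  obtain ⟨a'', ha''⟩ : ∃ x, x = B₁ + m • a := ⟨_, rfl⟩
  have hA : a'' ∈ ratVec F₀ P := ha'' ▸ Submodule.add_mem _ hB₁ (ratVec_smul hmF ha)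
  have hB1' : f a B₁ = 1 := by rw [symm' C hB₁ ha, hB.1]
  have hAA : f a'' a'' = 0 := by
    simp only [ha'', add_left hU, add_right hU, smul_left hU, smul_right hU, hB.1, hB1', haa, σ_rat C hmF]
    rw [hm]; field_simp; ring
  have hAa : f a'' a = 1 := by rw [ha'', add_left hU, smul_left hU, hB.1, haa, mul_zero, add_zero]
  have haA : f a a'' = 1 := by rw [symm' C hA ha, hAa]
  refine ⟨a'', hA, hAA, hAa, ?_⟩
  obtain ⟨n, hn⟩ : ∃ n, n = f B₂ a'' := ⟨_, rfl⟩
  have hnF : n ∈ F₀ := hn ▸ hR _ hB₂ _ hA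
  obtain ⟨x, hx⟩ : ∃ x, x = B₂ - n • a := ⟨_, rfl⟩
  have hxr : x ∈ ratVec F₀ P := hx ▸ Submodule.sub_mem _ hB₂ (ratVec_smul hnF ha)
  have hxa : f x a = 0 := by rw [hx, sub_left hU, smul_left hU, hB.2, haa]; ring
  have hxA : f x a'' = 0 := by rw [hx, sub_left hU, smul_left hU, haA, ← hn]; ring
  obtain ⟨γ, hγ⟩ : ∃ γ, γ = -m + ζ * n := ⟨_, rfl⟩
  have hbform : b = a'' + ζ • x + γ • a := by rw [hdec, ha'', hx, hγ]; module
  have hax := eq_zero_symm hU hxa
  have hAx := eq_zero_symm hU hxA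
  have hγs : γ + σ γ - ζ * ζ * f x x = 0 := by
    rw [hbform] at hbb
    simp only [add_left hU, add_right hU, smul_left hU, smul_right hU, hAA, hAa, haA, haa, hxa, hxA, hax, hAx,
      hζs] at hbb
    linear_combination hbb
  by_cases hx0 : x = 0
  · refine ⟨γ, ?_, by rw [hgb, hbform, hx0, smul_zero, add_zero]⟩
    rw [hx0, zero_left hU, mul_zero, sub_zero] at hγs; exact hγs
  exfalso
  obtain ⟨t, ht, hta, htA, htneg⟩ := exists_flip C ha hA haa hAA hAa
  obtain ⟨ys, hys, hdiff⟩ := exists_three C ha hA haa hAA hAa hxr hxa hxA hx0 hζ hζs hζF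
  obtain ⟨B, hBdef⟩ : ∃ B : Fin 3 → ι → F,
      ∀ i, B i = a'' + -(ζ • x) - ys i + (γ - ζ * f x (ys i) - f (ys i) (ys i) / 2) • a := ⟨_, fun i => rfl⟩
  have hgi : ∀ i, ∃ T ∈ M, act T b = B i := by
    intro i
    obtain ⟨hy, hya, hyA, -⟩ := hys i
    refine ⟨tev hU a (ys i) * t, M.mul_mem (tev_mem C ha haa hy hya) ht, ?_⟩
    rw [act_mul, hbform]
    simp only [map_add, map_smul, hta, htA, htneg x hxr hxa hxA, map_neg]
    simp only [act_tev C.base haa hya, hAa, haa, hxa, hBdef, symm' C hxr hy, symm' C hy hA, hyA,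
      eq_zero_symm hU hya]
    match_scalars <;> ring
  have hperp : ∀ i, f (B i) b = 0 := by
    intro i
    obtain ⟨hy, hya, hyA, hyy⟩ := hys i
    rw [hBdef, hbform]
    simp only [add_left hU, add_right hU, sub_left hU, neg_left' hU, smul_left hU, smul_right hU, hAA, hAa, haA,
      haa, hxa, hxA, hax, hAx, hya, hyA, symm' C hxr hy, hζs, hyy]
    field_simp
    linear_combination 2 * hγs
  have hpair : ∀ i j, i ≠ j → f (B i) (B j) ≠ 0 := by
    intro i j hij
    obtain ⟨hy, hya, hyA, hyy⟩ := hys i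
    obtain ⟨hy', hy'a, hy'A, hy'y'⟩ := hys j
    have hBx : ∀ z ∈ ratVec F₀ P, σ (f x z) = f x z := fun z hz => σ_rat C (hR x hxr z hz)
    have e : f (B i) (B j) = 2 * ζ * f x (ys j - ys i) - f (ys i - ys j) (ys i - ys j) / 2 := by
      rw [hBdef, hBdef]
      simp only [add_left hU, add_right hU, sub_left hU, sub_right hU, neg_left' hU, neg_right' hU, smul_left hU,
        smul_right hU, map_sub, map_mul, map_div₀, map_ofNat, hBx _ hy', hBx _ hxr, σ_rat C (hR _ hy' _ hy'),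
        hAA, hAa, haA, haa, hxa, hxA, hax, hAx, hya, hyA, hy'a, hy'A, eq_zero_symm hU hya, eq_zero_symm hU hyA,
        eq_zero_symm hU hy'a, eq_zero_symm hU hy'A, symm' C hxr hy, hζs, symm' C hy hy', hyy, hy'y']
      field_simp
      linear_combination 4 * hγs
    intro h0
    rw [e] at h0
    have hd := Submodule.sub_mem _ hy hy'
    have hd1 : f x (ys j - ys i) ∈ F₀ := hR x hxr _ (Submodule.sub_mem _ hy' hy)
    have hd2 : -(f (ys i - ys j) (ys i - ys j) / 2) ∈ F₀ := F₀.neg_mem (F₀.div_mem (hR _ hd _ hd) (two_mem C))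
    have q := coef_rat C.base hζ hζs hd2 (F₀.mul_mem (two_mem C) hd1) (by
      rw [show -(f (ys i - ys j) (ys i - ys j) / 2) + ζ * (2 * f x (ys j - ys i)) = 0 by linear_combination h0]
      exact F₀.zero_mem)
    have q1 : f x (ys i - ys j) = 0 := by
      rw [← neg_sub (ys j), neg_right' hU, (mul_eq_zero.1 q).resolve_left h2, neg_zero]
    rcases hdiff i j hij with h | h
    · exact h q1
    · refine h ((mul_eq_zero.1 (show f (ys i - ys j) (ys i - ys j) * 1 = 0 from ?_)).resolve_right one_ne_zero)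
      rw [(mul_eq_zero.1 q).resolve_left h2] at h0
      field_simp at h0
      linear_combination -h0
  have himg : ∀ i, ∃ s : F, ∃ r ∈ ratVec F₀ P, act g⁻¹ (k • B i) = s • r := by
    intro i
    obtain ⟨T, hT, he⟩ := hgi i
    have e : act (g⁻¹ * T * g) a₀ = act g⁻¹ (k • B i) := by rw [act_mul, act_mul, hgb, map_smul, he]
    rw [← e]
    have ha₀0 : a₀ ≠ 0 := fun h => hva (by rw [hk, h, map_zero, zero_left hU])
    refine orth_point C hseed (M.mul_mem (M.mul_mem (M.inv_mem hg) hT) hg) ha₀ h₀ ha₀ ha₀0 h₀ ?_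
    rw [e, ← hi, act_act_inv, hgb, smul_left hU, smul_right hU, hperp]; ring
  choose s r hr hsr using himg
  have hfr : ∀ i j, s i * σ (s j) * f (r i) (r j) = k * σ k * f (B i) (B j) := fun i j => by
    have := congrArg₂ f (hsr i) (hsr j)
    rw [← hi, act_act_inv, act_act_inv] at this
    simp only [smul_left hU, smul_right hU] at this
    linear_combination -this
  have ha₀0 : a₀ ≠ 0 := fun h => hva (by rw [hk, h, map_zero, zero_left hU])
  have hs0 : ∀ i, s i ≠ 0 := fun i h => by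
    have h0 := hsr i
    rw [h, zero_smul] at h0
    have h1 := congrArg (act g) h0
    rw [act_act_inv, map_zero, smul_eq_zero, or_iff_right hva] at h1
    obtain ⟨hy, hya, -, -⟩ := hys i
    have h3 : f (B i) a = 1 := by
      rw [hBdef, add_left hU, sub_left hU, add_left hU, neg_left' hU, smul_left hU, smul_left hU, hAa, hxa, hya, haa]
      ring
    rw [h1, zero_left hU] at h3
    exact zero_ne_one h3
  refine no_three C ha₀ ha₀0 h₀ r hr (fun i => ?_) (fun i => ?_) fun i j hij h => ?_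
  · obtain ⟨T, hT, he⟩ := hgi i
    have e : f (B i) (B i) = 0 := by rw [← he, mem_uiso.1 (C.base.iso hT), hbb]
    have := hfr i i
    rw [e, mul_zero] at this
    exact (mul_eq_zero.1 this).resolve_left (mul_ne_zero (hs0 i) ((map_ne_zero σ).2 (hs0 i)))
  · have := congrArg (f · a₀) (hsr i)
    rw [smul_left hU, ← hi, act_act_inv, hgb, smul_left hU, smul_right hU, hperp] at this
    simpa [hs0 i] using this.symm
  · have := hfr i j
    rw [h, mul_zero, eq_comm, mul_eq_zero, mul_eq_zero, map_eq_zero, or_self, or_iff_right hva] at this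
    exact hpair i j hij this

/-- rational vectors are combinations of singular ones -/
theorem sing_span {x : ι → F} (hx : x ∈ ratVec F₀ P) : ∃ w : Fin 3 → ι → F, ∃ c : Fin 3 → F,
    (∀ i, w i ∈ ratVec F₀ P ∧ f (w i) (w i) = 0 ∧ c i ∈ F₀) ∧ x = ∑ i, c i • w i := by
  have hU := C.base.unit
  obtain ⟨a, ha, haa, -, haout⟩ := sing_perp C.base (k := 0) (by have := C.four; omega) ![] (fun i => i.elim0)
  have ha0 : a ≠ 0 := fun h => haout (h ▸ zero_mem _)
  obtain ⟨a', ha', ha'a', h1, h1'⟩ := exists_pair C ha ha0 haa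
  obtain ⟨y, hy⟩ : ∃ y, y = x - f x a' • a - f x a • a' := ⟨_, rfl⟩
  have hR := C.base.rat
  have hyr : y ∈ ratVec F₀ P :=
    hy ▸ Submodule.sub_mem _ (Submodule.sub_mem _ hx (ratVec_smul (hR x hx a' ha') ha)) (ratVec_smul (hR x hx a ha) ha')
  have hya : f y a = 0 := by rw [hy]; simp only [sub_left hU, smul_left hU, haa, h1]; ring
  have hya' : f y a' = 0 := by rw [hy]; simp only [sub_left hU, smul_left hU, ha'a', h1']; ring
  have hk : f y y / 2 ∈ F₀ := F₀.div_mem (hR y hyr y hyr) (two_mem C)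
  refine ⟨![y + a - (f y y / 2) • a', a, a'], ![1, f x a' - 1, f x a + f y y / 2], fun i => ?_, ?_⟩
  · fin_cases i
    · refine ⟨Submodule.sub_mem _ (Submodule.add_mem _ hyr ha) (ratVec_smul hk ha'), ?_, F₀.one_mem⟩
      show f (y + a - (f y y / 2) • a') (y + a - (f y y / 2) • a') = 0
      simp only [add_left hU, add_right hU, sub_left hU, sub_right hU, smul_left hU, smul_right hU, haa, ha'a', h1, h1',
        hya, hya', eq_zero_symm hU hya, eq_zero_symm hU hya', σ_rat C hk]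
      have := C.base.two
      field_simp
      ring
    · exact ⟨ha, haa, F₀.sub_mem (hR x hx a' ha') F₀.one_mem⟩
    · exact ⟨ha', ha'a', F₀.add_mem (hR x hx a ha) hk⟩
  · simp only [Fin.sum_univ_three, Matrix.cons_val_zero, Matrix.cons_val_one, Matrix.cons_val_two,
      Matrix.tail_cons, Matrix.head_cons]
    rw [hy]; module

/-- an element of `M` outside the subfield group gives a seed -/
theorem seed_of_not_mem4 {g : GL ι F} (hg : g ∈ M) (hgn : g ∉ Cfsg.Geo.subfieldSubgroup F₀ P) :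
    Seed C.base.unit F₀ P M := by
  classical
  have hU := C.base.unit
  have hR := C.base.rat
  have hi := mem_uiso.1 (C.base.iso hg)
  by_contra hseed
  have himg : ∀ l, l ∈ ratVec F₀ P ∧ f l l = 0 → ∃ s : F, ∃ w ∈ ratVec F₀ P, act g l = s • w := by
    rintro a₀ ⟨ha₀, h₀⟩
    by_contra hno; push Not at hno
    obtain ⟨a, ha, haa, hva⟩ : ∃ a ∈ ratVec F₀ P, f a a = 0 ∧ f (act g a₀) a ≠ 0 := by
      by_contra hno'; push Not at hno'
      refine hno 0 0 (Submodule.zero_mem _) ?_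
      rw [smul_zero]
      refine eq_zero_of_perp C.base fun x hx => ?_
      obtain ⟨w, c, hw, rfl⟩ := sing_span C hx
      have h0 : ∀ i, f (w i) (act g a₀) = 0 := fun i => eq_zero_symm hU (hno' _ (hw i).1 (hw i).2.1)
      simp [Fin.sum_univ_three, add_left hU, smul_left hU, h0]
    have ha0 : a ≠ 0 := fun h => hva (by rw [h, zero_right hU])
    obtain ⟨b, hb, hbb, hba, c, hcs, hv⟩ := point_form C hseed hg ha₀ h₀ ha ha0 haa hva
    have hab : f a b = 1 := by rw [symm' C hb ha, hba]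
    obtain ⟨y, hy, hya, hyb, hyy⟩ := aniso_perp C ha hb (by rw [haa, hbb, hab]; simp)
    obtain ⟨k, hk⟩ : ∃ k, k = f (act g a₀) a := ⟨_, rfl⟩
    rw [← hk] at hva hv
    rcases eq_or_ne c 0 with rfl | hc0
    · exact hno k b hb (by rw [hv, zero_smul, add_zero])
    have hay := eq_zero_symm hU hya
    have hby := eq_zero_symm hU hyb
    have hh : f y y / 2 ∈ F₀ := F₀.div_mem (hR y hy y hy) (two_mem C)
    obtain ⟨a₃, ha₃⟩ : ∃ x, x = b - y - (f y y / 2) • a := ⟨_, rfl⟩
    have ha₃r : a₃ ∈ ratVec F₀ P :=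
      ha₃ ▸ Submodule.sub_mem _ (Submodule.sub_mem _ hb hy) (ratVec_smul hh ha)
    have ha₃₃ : f a₃ a₃ = 0 := by
      simp only [ha₃, sub_left hU, sub_right hU, smul_left hU, smul_right hU, haa, hbb, hab, hba, hya, hay, hyb,
        hby, σ_rat C hh]
      have := C.base.two
      field_simp
      ring
    have hne : f (act g a₀) a₃ = k * (c - f y y / 2) := by
      rw [hv, smul_left hU, add_left hU, smul_left hU]
      simp only [ha₃, sub_right hU, smul_right hU, haa, hbb, hab, hba, hay, hby, σ_rat C hh]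
      ring
    have hne0 : f (act g a₀) a₃ ≠ 0 := by
      rw [hne]
      refine mul_ne_zero hva (sub_ne_zero.2 fun h => hc0 ?_)
      have e1 : σ c = c := σ_rat C (h ▸ hh)
      rw [e1] at hcs
      exact (mul_eq_zero.1 (show (2 : F) * c = 0 by linear_combination hcs)).resolve_left C.base.two
    have ha₃0 : a₃ ≠ 0 := fun h => hne0 (by rw [h, zero_right hU])
    obtain ⟨a₄, ha₄, -, -, c', hc's, hv'⟩ := point_form C hseed hg ha₀ h₀ ha₃r ha₃0 ha₃₃ hne0
    have e := congrArg (f · y) (hv.symm.trans hv')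
    have h3y : f a₃ y = -f y y := by
      rw [ha₃, sub_left hU, sub_left hU, smul_left hU, hby, hay]; ring
    simp only [smul_left hU, add_left hU, hby, hay, h3y] at e
    have e' : f a₄ y + c' * -f y y = 0 := by
      refine (mul_eq_zero.1 (show f (act g a₀) a₃ * (f a₄ y + c' * -f y y) = 0 from ?_)).resolve_left hne0
      rw [← e]; ring
    have hc' : c' = 0 := by
      have hF : c' ∈ F₀ := by
        rw [show c' = f a₄ y / f y y by field_simp; linear_combination -e']
        exact F₀.div_mem (hR _ ha₄ _ hy) (hR y hy y hy)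
      rw [σ_rat C hF] at hc's
      exact (mul_eq_zero.1 (show (2 : F) * c' = 0 by linear_combination hc's)).resolve_left C.base.two
    exact hno _ a₄ ha₄ (by rw [hv', hc', zero_smul, add_zero])
  choose! s w hw hsw using himg
  have hne : ∀ l ∈ ratVec F₀ P, f l l = 0 → l ≠ 0 → s l ≠ 0 := fun l hl hll hl0 h => by
    have h1 : act g l ≠ 0 := fun h => hl0 (act_injective g (h.trans (map_zero _).symm))
    exact h1 (by rw [hsw l ⟨hl, hll⟩, h, zero_smul])
  obtain ⟨l₁, hl₁, hl₁₁, -, hl₁out⟩ := sing_perp C.base (k := 0) (by have := C.four; omega) ![] (fun i => i.elim0)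
  have hl₁0 : l₁ ≠ 0 := fun h => hl₁out (h ▸ zero_mem _)
  obtain ⟨γ, hγ⟩ : ∃ γ, γ = s l₁ := ⟨_, rfl⟩
  have hγ0 : γ ≠ 0 := hγ ▸ hne l₁ hl₁ hl₁₁ hl₁0
  have hprod : ∀ l z, l ∈ ratVec F₀ P → z ∈ ratVec F₀ P → f l l = 0 → f z z = 0 → f l z ≠ 0 →
      s l * σ (s z) ∈ F₀ := by
    intro l z hl hz hll hzz hlz
    have := hi l z
    rw [hsw l ⟨hl, hll⟩, hsw z ⟨hz, hzz⟩, smul_left hU, smul_right hU] at this
    have hw0 : f (w l) (w z) ≠ 0 := fun h => hlz (by rw [← this, h]; ring)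
    rw [show s l * σ (s z) = f l z / f (w l) (w z) by rw [eq_div_iff hw0, ← this]; ring]
    exact F₀.div_mem (hR l hl z hz) (hR _ (hw l ⟨hl, hll⟩) _ (hw z ⟨hz, hzz⟩))
  have hiso_img : ∀ l ∈ ratVec F₀ P, f l l = 0 → γ⁻¹ • act g l ∈ ratVec F₀ P := by
    intro l hl hll
    rcases eq_or_ne l 0 with rfl | hl0
    · simpa using Submodule.zero_mem _
    obtain ⟨z, hz, hzz, hz1, hzl⟩ := exists_common C hl₁ hl hl₁0 hl0 hl₁₁ hll
    have hz0 : z ≠ 0 := fun h => hz1 (by rw [h, zero_left hU])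
    have h3 := F₀.div_mem (hprod l z hl hz hll hzz (ne_symm hU hzl)) (hprod l₁ z hl₁ hz hl₁₁ hzz (ne_symm hU hz1))
    rw [mul_div_mul_right _ _ ((map_ne_zero σ).2 (hne z hz hzz hz0)), ← hγ] at h3
    rw [hsw l ⟨hl, hll⟩, smul_smul, ← div_eq_inv_mul]
    exact ratVec_smul h3 (hw l ⟨hl, hll⟩)
  refine hgn (mem_subfieldSubgroup F₀ P hγ0 fun x hx => ?_)
  obtain ⟨ws, c, hws, rfl⟩ := sing_span C hx
  rw [map_sum, Finset.smul_sum]
  refine Submodule.sum_mem _ fun i _ => ?_
  rw [map_smul, smul_comm]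
  exact ratVec_smul (hws i).2.2 (hiso_img _ (hws i).1 (hws i).2.1)

/-- a seed gives all transvections -/
theorem utv_all4 (hs : Seed C.base.unit F₀ P M) (v : ι → F) (hvv : f v v = 0) : RootIn C.base.unit M v := by
  have hU := C.base.unit
  have hR := C.base.rat
  have h2 := C.base.two
  have hroot := fun (l : ι → F) (hl : l ∈ ratVec F₀ P) (hll : f l l = 0) => root_rat4 C hs hl hll
  obtain ⟨ζ, hζ, hζs, hζF⟩ := exists_skew_unit C.base
  obtain ⟨V₁, hV₁, V₂, hV₂, hdec⟩ := exists_dec C.base hζ hζs v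
  have hsym := symm' C hV₁ hV₂
  have hnorm : f V₁ V₁ = ζ * ζ * f V₂ V₂ := by
    rw [hdec] at hvv
    simp only [add_left hU, add_right hU, smul_left hU, smul_right hU, hζs, hsym] at hvv
    linear_combination hvv
  have hskew : ∀ b ∈ F₀, ζ * b + σ (ζ * b) = 0 := fun b hb => by rw [map_mul, hζs, σ_rat C hb]; ring
  -- the lines through two rational singular points
  have hline : ∀ A B : ι → F, A ∈ ratVec F₀ P → B ∈ ratVec F₀ P → f A A = 0 → f B B = 0 → f A B ≠ 0 →
      RootIn hU M (A + ζ • B) := by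
    intro A B hA hB hAA hBB hAB
    have := rootIn_add hU (hroot B hB hBB) (hroot A hA hAA) (c := ζ * (f A B)⁻¹)
      (hskew _ (F₀.inv_mem (hR A hA B hB)))
    rwa [mul_assoc, inv_mul_cancel₀ hAB, mul_one] at this
  by_cases hQ2 : f V₂ V₂ = 0
  · have h11 : f V₁ V₁ = 0 := by rw [hnorm, hQ2, mul_zero]
    by_cases hB : f V₁ V₂ = 0
    swap; · rw [hdec]; exact hline V₁ V₂ hV₁ hV₂ h11 hQ2 hB
    by_cases hdep : ∃ k ∈ F₀, V₁ = k • V₂
    · obtain ⟨k, -, rfl⟩ := hdep
      rw [hdec, show k • V₂ + ζ • V₂ = (k + ζ) • V₂ by module]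
      exact rootIn_smul hU (hroot V₂ hV₂ hQ2) _
    push Not at hdep
    obtain ⟨d, hd, hdp, hd1⟩ := dual C.base ![V₂] (by simpa using hV₂) hV₁ (fun h => by
      obtain ⟨k, hk, e⟩ := rspan_one h; exact hdep k hk e)
    have hd2 : f d V₂ = 0 := by simpa using hdp 0
    have hk : -(f d d / 2) ∈ F₀ := F₀.neg_mem (F₀.div_mem (hR d hd d hd) (two_mem C))
    obtain ⟨e, he⟩ : ∃ e, e = d + (-(f d d / 2)) • V₁ := ⟨_, rfl⟩
    have her : e ∈ ratVec F₀ P := he ▸ Submodule.add_mem _ hd (ratVec_smul hk hV₁)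
    have hee : f e e = 0 := by
      simp only [he, add_left hU, add_right hU, smul_left hU, smul_right hU, h11, hd1, symm' C hd hV₁, σ_rat C hk]
      field_simp
      ring
    have he1 : f e V₁ = 1 := by rw [he, add_left hU, smul_left hU, hd1, h11, mul_zero, add_zero]
    have he2 : f e V₂ = 0 := by rw [he, add_left hU, smul_left hU, hd2, hB]; ring
    have h1e : f V₁ e = 1 := by rw [symm' C her hV₁, he1]
    have h2e := eq_zero_symm hU he2
    have hv' : RootIn hU M (V₁ + ζ • (V₂ + e)) := by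
      refine hline V₁ (V₂ + e) hV₁ (Submodule.add_mem _ hV₂ her) h11 ?_ ?_
      · rw [add_left hU, add_right hU, add_right hU, hQ2, hee, he2, h2e]; ring
      · rw [add_right hU, hB, h1e, zero_add]; exact one_ne_zero
    have := rootIn_add hU (hroot e her hee) hv' (c := ζ * -1) (hskew _ (F₀.neg_mem F₀.one_mem))
    simp only [add_left hU, smul_left hU, h1e, h2e, hee, mul_zero, zero_add, add_zero, mul_one] at this
    rw [hdec]
    convert this using 1
    module
  -- an anisotropic imaginary part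
  obtain ⟨k, hk⟩ : ∃ k, k = f V₁ V₂ / f V₂ V₂ := ⟨_, rfl⟩
  have hkF : k ∈ F₀ := hk ▸ F₀.div_mem (hR _ hV₁ _ hV₂) (hR _ hV₂ _ hV₂)
  obtain ⟨u, hu⟩ : ∃ u, u = V₁ - k • V₂ := ⟨_, rfl⟩
  have hur : u ∈ ratVec F₀ P := hu ▸ Submodule.sub_mem _ hV₁ (ratVec_smul hkF hV₂)
  have hu2 : f u V₂ = 0 := by rw [hu, sub_left hU, smul_left hU, hk, div_mul_cancel₀ _ hQ2, sub_self]
  have huu : f u u = (ζ * ζ - k * k) * f V₂ V₂ := by
    simp only [hu, sub_left hU, sub_right hU, smul_left hU, smul_right hU, hsym, hnorm, σ_rat C hkF, hk]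
    field_simp
    ring
  have hu0 : f u u ≠ 0 := by
    rw [huu]
    refine mul_ne_zero (fun h => ?_) hQ2
    rcases mul_eq_zero.1 (show (ζ - k) * (ζ + k) = 0 by linear_combination h) with h | h
    · exact hζF (by rw [sub_eq_zero.1 h]; exact hkF)
    · exact hζF (by rw [eq_neg_of_add_eq_zero_left h]; exact F₀.neg_mem hkF)
  have h2u := eq_zero_symm hU hu2
  obtain ⟨p, hp, hp2, hpu, hpp⟩ := aniso_perp C hV₂ hur (by rw [h2u, mul_zero, sub_zero]; exact mul_ne_zero hQ2 hu0)
  obtain ⟨z, hz, hz0, hzp⟩ := exists_perp C ![V₂, u, p] (by intro i; fin_cases i; exacts [hV₂, hur, hp])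
  have hz2 : f z V₂ = 0 := hzp 0
  have hzu : f z u = 0 := hzp 1
  have hzp' : f z p = 0 := hzp 2
  obtain ⟨hzz, -⟩ := orth_basis C hV₂ hur hp hz hQ2 hu0 hpp h2u (eq_zero_symm hU hp2) (eq_zero_symm hU hpu) hz0
    hz2 hzu hzp'
  obtain ⟨m, hm, n, hn, hmn⟩ := exists_rep C (hR p hp p hp) (hR z hz z hz)
    (F₀.neg_mem (hR V₂ hV₂ V₂ hV₂)) hpp hzz
  obtain ⟨t, ht⟩ : ∃ t, t = m • p + n • z := ⟨_, rfl⟩
  have htr : t ∈ ratVec F₀ P := ht ▸ Submodule.add_mem _ (ratVec_smul hm hp) (ratVec_smul hn hz)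
  have htt : f t t = -f V₂ V₂ := by
    simp only [ht, add_left hU, add_right hU, smul_left hU, smul_right hU, hzp', eq_zero_symm hU hzp',
      σ_rat C hm, σ_rat C hn]
    linear_combination hmn
  have ht2 : f t V₂ = 0 := by rw [ht, add_left hU, smul_left hU, smul_left hU, hp2, hz2]; ring
  have htu : f t u = 0 := by rw [ht, add_left hU, smul_left hU, smul_left hU, hpu, hzu]; ring
  obtain ⟨A, hA⟩ : ∃ A, A = V₂ + t := ⟨_, rfl⟩
  obtain ⟨B, hB⟩ : ∃ B, B = V₂ - t := ⟨_, rfl⟩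
  have hAr : A ∈ ratVec F₀ P := hA ▸ Submodule.add_mem _ hV₂ htr
  have hBr : B ∈ ratVec F₀ P := hB ▸ Submodule.sub_mem _ hV₂ htr
  have h2t := eq_zero_symm hU ht2
  have hAA : f A A = 0 := by rw [hA, add_left hU, add_right hU, add_right hU, ht2, h2t, htt]; ring
  have hBB : f B B = 0 := by rw [hB, sub_left hU, sub_right hU, sub_right hU, ht2, h2t, htt]; ring
  obtain ⟨K, hK⟩ : ∃ K, K = 2 * f V₂ V₂ := ⟨_, rfl⟩
  have hK0 : K ≠ 0 := hK ▸ mul_ne_zero h2 hQ2
  have hKs : σ K = K := by rw [hK, map_mul, map_ofNat, herm' hU]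
  have hAB : f A B = K := by rw [hA, hB, add_left hU, sub_right hU, sub_right hU, ht2, h2t, htt, hK]; ring
  have hBA : f B A = K := by rw [symm' C hAr hBr, hAB]
  have huA : f u A = 0 := by rw [hA, add_right hU, hu2, eq_zero_symm hU htu, add_zero]
  have huB : f u B = 0 := by rw [hB, sub_right hU, hu2, eq_zero_symm hU htu, sub_zero]
  -- shifts along the two singular points
  let G : F → F → Prop := fun x y => RootIn hU M (u + x • A + y • B)
  have hshiftA : ∀ x y s : F, s + σ s = 0 → G (x + s * y) y → G x y := by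
    intro x y s hs h
    have := rootIn_add hU (hroot A hAr hAA) h (c := -s / K) (by
      rw [map_div₀, map_neg, hKs, eq_neg_of_add_eq_zero_right hs]; field_simp; ring)
    simp only [add_left hU, smul_left hU, huA, hAA, hBA, mul_zero, zero_add] at this
    simp only [G]
    convert this using 1
    match_scalars <;> field_simp <;> ring
  have hshiftB : ∀ x y s : F, s + σ s = 0 → G x (y + s * x) → G x y := by
    intro x y s hs h
    have := rootIn_add hU (hroot B hBr hBB) h (c := -s / K) (by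
      rw [map_div₀, map_neg, hKs, eq_neg_of_add_eq_zero_right hs]; field_simp; ring)
    simp only [add_left hU, smul_left hU, huB, hBB, hAB, mul_zero, zero_add, add_zero] at this
    simp only [G]
    convert this using 1
    match_scalars <;> field_simp <;> ring
  have hrat : ∀ x y : F, σ x = x → σ y = y → f u u + K * (x * σ y + y * σ x) = 0 → G x y := by
    intro x y hx hy hxy
    refine hroot _ (Submodule.add_mem _ (Submodule.add_mem _ hur (ratVec_smul ((C.base.fix x).2 hx) hAr))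
      (ratVec_smul ((C.base.fix y).2 hy) hBr)) ?_
    simp only [add_left hU, add_right hU, smul_left hU, smul_right hU, huA, huB, eq_zero_symm hU huA,
      eq_zero_symm hU huB, hAA, hBB, hAB, hBA]
    linear_combination hxy
  have hgen : ∀ x y : F, y + σ y ≠ 0 → f u u + K * (x * σ y + y * σ x) = 0 → G x y := by
    intro x y hy hxy
    obtain ⟨s, hs⟩ : ∃ s, s = -(x - σ x) / (y + σ y) := ⟨_, rfl⟩
    have hss : s + σ s = 0 := by
      rw [hs, map_div₀, map_neg, map_sub, map_add, hU.involutive, hU.involutive, add_comm (σ y), ← add_div]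
      simp
    obtain ⟨x', hx'⟩ : ∃ x', x' = x + s * y := ⟨_, rfl⟩
    have hsy : s * (y + σ y) = -(x - σ x) := by rw [hs, div_mul_cancel₀ _ hy]
    have hx's : σ x' = x' := by
      rw [hx', map_add, map_mul, eq_neg_of_add_eq_zero_right hss]; linear_combination -hsy
    have hJ : f u u + K * (x' * σ y + y * σ x') = 0 := by
      rw [hx', map_add, map_mul]; linear_combination hxy + K * y * σ y * hss
    have hx'0 : x' ≠ 0 := fun h => hu0 (by rw [h, map_zero] at hJ; linear_combination hJ)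
    obtain ⟨r, hr⟩ : ∃ r, r = -(y - σ y) / (2 * x') := ⟨_, rfl⟩
    have hrs : r + σ r = 0 := by
      rw [hr, map_div₀, map_neg, map_sub, map_mul, map_ofNat, hU.involutive, hx's, ← add_div]
      simp
    have hrx : r * (2 * x') = -(y - σ y) := by rw [hr, div_mul_cancel₀ _ (mul_ne_zero h2 hx'0)]
    refine hshiftA x y s hss (hx' ▸ hshiftB x' y r hrs (hrat x' _ hx's ?_ ?_))
    · rw [map_add, map_mul, hx's, eq_neg_of_add_eq_zero_right hrs]; linear_combination -hrx
    · rw [map_add, map_mul]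
      linear_combination hJ + K * x' * σ x' * hrs
  obtain ⟨μ, hμ⟩ : ∃ μ, μ = (k + ζ) / 2 := ⟨_, rfl⟩
  have hv : v = u + μ • A + μ • B := by
    rw [hdec, hu, hA, hB, hμ]
    match_scalars <;> field_simp <;> ring
  have hJ : f u u + K * (μ * σ μ + μ * σ μ) = 0 := by
    rw [huu, hK, hμ, map_div₀, map_add, σ_rat C hkF, hζs, map_ofNat]
    field_simp
    ring
  have hμs : σ μ = (k - ζ) / 2 := by rw [hμ, map_div₀, map_add, σ_rat C hkF, hζs, map_ofNat]; ring
  rw [hv]
  by_cases hre : μ + σ μ = 0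
  · refine hshiftB μ μ ζ (by rw [hζs, add_neg_cancel]) (hgen μ _ ?_ ?_)
    · rw [show μ + ζ * μ + σ (μ + ζ * μ) = ζ * (μ - σ μ) by
        rw [map_add, map_mul, hζs]; linear_combination hre, hμs, hμ,
        show (k + ζ) / 2 - (k - ζ) / 2 = ζ by field_simp; ring]
      exact mul_ne_zero hζ hζ
    · rw [map_add, map_mul, hζs]; linear_combination hJ
  · exact hgen μ μ hre hJ

omit C in
/-- the orthogonal subgroup is maximal in dimension four, the field of the form having more than three elements -/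
theorem orth4_maximal (hU : Cfsg.Geo.IsUnitaryForm σ f) (hn : Fintype.card ι = 4) (F₀ : Subfield F) (P : GL ι F)
    (hrat : ∀ x ∈ ratVec F₀ P, ∀ y ∈ ratVec F₀ P, f x y ∈ F₀) (hfix : ∀ a : F, a ∈ F₀ ↔ σ a = a)
    (h2 : (2 : F) ≠ 0) (hbig : ∃ μ ∈ F₀, μ ≠ 0 ∧ μ * μ ≠ 1) :
    Cfsg.Geo.IsMaximalIn (uiso f ⊓ Cfsg.Geo.specialLinear ι F)
      (Cfsg.Geo.subfieldSubgroup F₀ P ⊓ (uiso f ⊓ Cfsg.Geo.specialLinear ι F)) := by
  classical
  have hctx : ∀ (M : Subgroup (GL ι F)),
      Cfsg.Geo.subfieldSubgroup F₀ P ⊓ (uiso f ⊓ Cfsg.Geo.specialLinear ι F) ≤ M → M ≤ uiso f →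
      Ctx4 σ f F₀ P M := by
    intro M hM hMi
    have hsf : ∀ g : GL ι F, (∀ x ∈ ratVec F₀ P, act g x ∈ ratVec F₀ P) →
        g ∈ Cfsg.Geo.subfieldSubgroup F₀ P := fun g hg =>
      mem_subfieldSubgroup F₀ P one_ne_zero fun x hx => by rw [inv_one, one_smul]; exact hg x hx
    refine ⟨⟨hU, hn.ge, hrat, hfix, h2, hMi, fun a ha b hb haa hbb hab s hs hU' => hM ⟨hsf _ fun x hx => ?_,
      sieg_mem hU haa hbb hab s, det_sieg hU hab s⟩⟩, hn, fun g hg hdet hgr => hM ⟨hsf g hgr, hg,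
      MonoidHom.mem_ker.2 (Units.ext (by simpa using hdet))⟩, hbig⟩
    rw [act_sieg hU haa hbb hab, (hfix s).1 hs]
    exact Submodule.sub_mem _ (Submodule.add_mem _ hx (ratVec_smul (F₀.mul_mem hs (hrat x hx b hb)) ha))
      (ratVec_smul (F₀.mul_mem hs (hrat x hx a ha)) hb)
  have hlt : Cfsg.Geo.subfieldSubgroup F₀ P ⊓ (uiso f ⊓ Cfsg.Geo.specialLinear ι F) <
      uiso f ⊓ Cfsg.Geo.specialLinear ι F := by
    refine lt_of_le_of_ne inf_le_right fun heq => ?_
    have C := (hctx (uiso f ⊓ Cfsg.Geo.specialLinear ι F) inf_le_right inf_le_left)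
    obtain ⟨c, hc0, hcs, hcF⟩ := exists_skew_unit C.base
    obtain ⟨l, hl, hll, -, hlout⟩ := sing_perp C.base (k := 0) (by omega) ![] (fun i => i.elim0)
    obtain ⟨z, hz, -, hzl, hlz⟩ := exists_pair C hl (fun h => hlout (h ▸ zero_mem _)) hll
    have hmem : utv hU l c ∈ uiso f ⊓ Cfsg.Geo.specialLinear ι F :=
      ⟨utv_mem hU hll (by rw [hcs, add_neg_cancel]), det_ptv hU (by rw [smul_right hU, hll, mul_zero])⟩
    obtain ⟨γ, hγ⟩ := exists_of_mem_subfieldSubgroup F₀ P ((inf_eq_right.1 heq) hmem)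
    obtain ⟨y, hy, ey⟩ := hγ l hl
    obtain ⟨y', hy', ey'⟩ := hγ z hz
    rw [act_utv hU hll, hll, mul_zero, zero_smul, add_zero] at ey
    rw [act_utv hU hll, hzl, mul_one] at ey'
    have e1 := congrArg (fun x => f x z) ey
    have e2 := congrArg (fun x => f x z) ey'
    simp only [add_left hU, smul_left hU, hlz, mul_one] at e1 e2
    have hγF : γ ∈ F₀ := by
      rw [eq_div_of_mul_eq (right_ne_zero_of_mul_eq_one e1.symm) e1.symm]
      exact F₀.div_mem F₀.one_mem (hrat y hy z hz)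
    refine hcF ?_
    rw [show c = γ * f y' z - f z z by linear_combination e2]
    exact F₀.sub_mem (F₀.mul_mem hγF (hrat y' hy' z hz)) (hrat z hz z hz)
  refine ⟨hlt, fun M hM1 hM2 => ?_⟩
  by_cases hsub : M ≤ Cfsg.Geo.subfieldSubgroup F₀ P
  · exact Or.inl (le_antisymm (le_inf hsub hM2) hM1)
  right
  obtain ⟨g, hg, hgn⟩ := SetLike.not_le_iff_exists.1 hsub
  have C := hctx M hM1 (hM2.trans inf_le_left)
  exact le_antisymm hM2 (su_le_of_utv_four hU hn.ge M
    (fun u c hu hc => (utv_all4 C (seed_of_not_mem4 C hg hgn) u hu).2 c hc))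

end Cfsg.Agent.MaxCl.UOrth4
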