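/-
Tori of hyperbolic pairs, and root subgroups of points from root elements of a totally singular line.
-/
import Cfsg.Agent.Lib.MaxCl.UnitaryRoot
import Cfsg.Agent.Lib.MaxCl.UnitarySmall

set_option autoImplicit false
set_option maxHeartbeats 800000

namespace Cfsg.Agent.MaxCl.Unit

variable {ι : Type} [Fintype ι] [DecidableEq ι] {F : Type*} [Field F] [Fintype F]
variable {σ : F ≃+* F} {f : (ι → F) → (ι → F) → F}
variable (hU : Cfsg.Geo.IsUnitaryForm σ f)
include hU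

/-- the torus of a hyperbolic pair -/
theorem exists_torus {a b : ι → F} (ha : f a a = 0) (hb : f b b = 0) (hab : f a b = 1) {μ : F} (hμ : σ μ = μ)
    (hμ0 : μ ≠ 0) : ∃ h ∈ uiso f ⊓ Cfsg.Geo.specialLinear ι F, act h a = μ • a ∧ act h b = μ⁻¹ • b ∧
      ∀ x, f x a = 0 → f x b = 0 → act h x = x := by
  obtain ⟨ζ, hζ0, hζ⟩ := exists_skew hU.ne_refl hU.involutive
  have hba : f b a = 1 := by rw [← herm' hU, hab, map_one]
  have hmem : ∀ u, f u u = 0 → ∀ c, c + σ c = 0 → utv hU u c ∈ uiso f ⊓ Cfsg.Geo.specialLinear ι F :=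
    fun u hu c hc => ⟨utv_mem hU hu hc, det_ptv hU (by rw [smul_right hU, hu, mul_zero])⟩
  have W : ∀ c, c ≠ 0 → c + σ c = 0 → ∃ w ∈ uiso f ⊓ Cfsg.Geo.specialLinear ι F,
      act w a = (-c⁻¹) • b ∧ act w b = c • a ∧ ∀ x, f x a = 0 → f x b = 0 → act w x = x := by
    intro c hc0 hc
    have hd : -c⁻¹ + σ (-c⁻¹) = 0 := by
      rw [map_neg, map_inv₀, eq_neg_of_add_eq_zero_right hc, inv_neg]; ring
    refine ⟨utv hU a c * utv hU b (-c⁻¹) * utv hU a c, mul_mem (mul_mem (hmem a ha c hc) (hmem b hb _ hd))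
      (hmem a ha c hc), ?_, ?_, fun x h1 h2 => ?_⟩
    · simp only [act_mul, act_utv hU ha, act_utv hU hb, add_left hU, smul_left hU, ha, hb, hab, hba]
      match_scalars <;> field_simp <;> ring
    · simp only [act_mul, act_utv hU ha, act_utv hU hb, add_left hU, smul_left hU, ha, hb, hab, hba]
      match_scalars <;> field_simp <;> ring
    · simp only [act_mul, act_utv hU ha, act_utv hU hb, h1, h2, mul_zero, zero_smul, add_zero]
  obtain ⟨w₁, hw₁, a₁, b₁, x₁⟩ := W (μ * ζ) (mul_ne_zero hμ0 hζ0)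
    (by rw [map_mul, hμ]; linear_combination μ * hζ)
  obtain ⟨w₂, hw₂, a₂, b₂, x₂⟩ := W (-ζ) (neg_ne_zero.2 hζ0) (by rw [map_neg]; linear_combination -hζ)
  refine ⟨w₁ * w₂, mul_mem hw₁ hw₂, ?_, ?_, fun x h1 h2 => by rw [act_mul, x₂ x h1 h2, x₁ x h1 h2]⟩
  · rw [act_mul, a₂, map_smul, b₁, smul_smul]; congr 1; field_simp
  · rw [act_mul, b₂, map_smul, a₁, smul_smul]; congr 1; field_simp

variable {M : Subgroup (GL ι F)}

omit hU in
/-- all skew elements from one linear expression -/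
theorem exists_skew_preimage {a c : F} (hi : ∀ x : F, σ (σ x) = x) (hne : σ ≠ RingEquiv.refl F) (ha : a ≠ 0)
    (hc : c + σ c = 0) : ∃ s : F, s * a - σ (s * a) = c := by
  obtain ⟨e, he⟩ := exists_trace_one hi hne
  refine ⟨c * e / a, ?_⟩
  rw [div_mul_cancel₀ _ ha, map_mul, eq_neg_of_add_eq_zero_right hc]
  linear_combination c * he

/-- a root group at a point of a line carrying root elements, by a unipotent element and a torus of the line -/
theorem rootIn_of_line {z w x y : ι → F} (hzz : f z z = 0) (hzw : f z w = 0) (hww : f w w = 0)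
    {x₁ x₂ y₁ y₂ : F} (hx : x = x₁ • z + x₂ • w) (hy : y = y₁ • z + y₂ • w) (hd : x₁ * y₂ - x₂ * y₁ ≠ 0)
    (hR : ∀ s : F, uroot hU x (s • y) ∈ M) {μ : F} (hμs : σ μ = μ) (hμ0 : μ ≠ 0) (hμ1 : μ * μ ≠ 1)
    (hh : ∀ t : F, σ t = t → ∃ h ∈ M, h ∈ uiso f ∧ act h z = z ∧ act h w = w + t • z)
    (hT : ∃ T ∈ M, T ∈ uiso f ∧ act T z = μ • z ∧ act T w = μ⁻¹ • w) : RootIn hU M z := by
  have hwz := eq_zero_symm hU hzw
  obtain ⟨T, hTM, hTi, hTz, hTw⟩ := hT
  have hiso : ∀ a b a' b' : F, f (a • z + b • w) (a' • z + b' • w) = 0 := fun a b a' b' => by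
    simp only [add_left hU, add_right hU, smul_left hU, smul_right hU, hzz, hzw, hwz, hww]; ring
  have hxy : ∀ s : F, f x (s • y) = 0 := fun s => by rw [hx, hy, smul_right hU, hiso, mul_zero]
  have hconj : ∀ {h u : GL ι F}, h ∈ M → u ∈ M → h * u * h⁻¹ ∈ M := fun hh hu =>
    M.mul_mem (M.mul_mem hh hu) (M.inv_mem hh)
  have key : ∀ s t : F, σ t = t → utv hU z ((1 - μ * μ) *
      (t * (σ (s * y₁) * x₂ + σ (s * y₂) * x₁ - σ x₂ * (s * y₁) - σ x₁ * (s * y₂))
        + t * t * (σ (s * y₂) * x₂ - σ x₂ * (s * y₂)))) ∈ M := by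
    intro s t ht
    obtain ⟨h, hhM, hhi, hhz, hhw⟩ := hh t ht
    have hsy : s • y = (s * y₁) • z + (s * y₂) • w := by rw [hy]; module
    have hhx : act h x = (x₁ + x₂ * t) • z + x₂ • w := by rw [hx, map_add, map_smul, map_smul, hhz, hhw]; module
    have hhy : act h (s • y) = (s * y₁ + s * y₂ * t) • z + (s * y₂) • w := by
      rw [hsy, map_add, map_smul, map_smul, hhz, hhw]; module
    have m₁ := hR s
    have m₂ := hconj hhM m₁
    rw [conj_uroot hU hhi (hxy s)] at m₂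
    have hxy' : f (act h x) (act h (s • y)) = 0 := by rw [mem_uiso.1 hhi, hxy]
    have m₃ := hconj hTM m₁
    rw [conj_uroot hU hTi (hxy s)] at m₃
    have m₄ := hconj hTM m₂
    rw [conj_uroot hU hTi hxy'] at m₄
    rw [hhx, hhy] at m₂ m₄
    rw [hx, hsy] at m₁ m₃
    simp only [map_add, map_smul, hTz, hTw, smul_smul] at m₃ m₄
    have e : uroot hU ((x₁ + x₂ * t) • z + x₂ • w) ((s * y₁ + s * y₂ * t) • z + (s * y₂) • w) *
        uroot hU ((x₁ * μ) • z + (x₂ * μ⁻¹) • w) ((s * y₁ * μ) • z + (s * y₂ * μ⁻¹) • w) =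
        utv hU z ((1 - μ * μ) *
          (t * (σ (s * y₁) * x₂ + σ (s * y₂) * x₁ - σ x₂ * (s * y₁) - σ x₁ * (s * y₂))
            + t * t * (σ (s * y₂) * x₂ - σ x₂ * (s * y₂)))) *
        (uroot hU (((x₁ + x₂ * t) * μ) • z + (x₂ * μ⁻¹) • w)
          (((s * y₁ + s * y₂ * t) * μ) • z + (s * y₂ * μ⁻¹) • w) *
        uroot hU (x₁ • z + x₂ • w) ((s * y₁) • z + (s * y₂) • w)) := by
      apply gl_ext; intro v
      simp only [act_mul, act_utv hU hzz, act_uroot hU (hiso _ _ _ _) (hiso _ _ _ _) (hiso _ _ _ _),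
        add_left hU, sub_left hU, add_right hU, smul_left hU, smul_right hU, map_add, map_mul, map_inv₀, hμs, ht,
        hzz, hzw, hwz, hww, mul_zero, add_zero, sub_zero]
      match_scalars <;> field_simp <;> ring
    exact (M.mul_mem_cancel_right (M.mul_mem m₄ m₁)).1 (e ▸ M.mul_mem m₂ m₃)
  -- some parameter gives a non-zero scalar
  have hμ' : 1 - μ * μ ≠ 0 := sub_ne_zero.2 (Ne.symm hμ1)
  obtain ⟨t, ht, hne⟩ : ∃ t, σ t = t ∧
      t * (σ x₁ * y₂ + σ x₂ * y₁) + t * t * (σ x₂ * y₂) ≠ 0 := by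
    by_contra hno; push Not at hno
    have e1 := hno 1 (map_one σ)
    have e2 := hno μ hμs
    have hμne : μ - 1 ≠ 0 := sub_ne_zero.2 fun h => hμ1 (by rw [h, mul_one])
    have q2 : σ x₂ * y₂ = 0 := by
      refine (mul_eq_zero.1 (show μ * (μ - 1) * (σ x₂ * y₂) = 0 by linear_combination e2 - μ * e1)).resolve_left
        (mul_ne_zero hμ0 hμne)
    have q1 : σ x₁ * y₂ + σ x₂ * y₁ = 0 := by linear_combination e1 - q2
    rcases mul_eq_zero.1 q2 with h | h
    · rw [h, zero_mul, add_zero] at q1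
      rw [(map_eq_zero σ).1 h] at hd
      rcases mul_eq_zero.1 q1 with h' | h'
      · exact hd (by rw [(map_eq_zero σ).1 h']; ring)
      · exact hd (by rw [h']; ring)
    · rw [h, mul_zero, zero_add] at q1
      rw [h] at hd
      rcases mul_eq_zero.1 q1 with h' | h'
      · exact hd (by rw [(map_eq_zero σ).1 h']; ring)
      · exact hd (by rw [h']; ring)
  refine ⟨hzz, fun c hc => ?_⟩
  obtain ⟨s, hs⟩ := exists_skew_preimage (σ := σ) hU.involutive hU.ne_refl hne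
    (show -c / (1 - μ * μ) + σ (-c / (1 - μ * μ)) = 0 by
      rw [map_div₀, map_neg, map_sub, map_mul, hμs, map_one, eq_neg_of_add_eq_zero_right hc]; ring)
  have hcv : c = (1 - μ * μ) * (t * (σ (s * y₁) * x₂ + σ (s * y₂) * x₁ - σ x₂ * (s * y₁) - σ x₁ * (s * y₂))
      + t * t * (σ (s * y₂) * x₂ - σ x₂ * (s * y₂))) := by
    rw [eq_div_iff hμ'] at hs
    simp only [map_mul, map_add, hU.involutive, ht] at hs ⊢
    linear_combination hs
  exact hcv ▸ key s t ht

/-- a root group at a point of a standard line carrying root elements -/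
theorem rootIn_of_standard_line {a v x y : ι → F} (haa : f a a = 0) (hav : f a v = 0) (hvv : f v v = 0)
    {x₁ x₂ y₁ y₂ : F} (hx : x = x₁ • a + x₂ • v) (hy : y = y₁ • a + y₂ • v) (hx0 : x₁ ≠ 0) (hy0 : y₁ ≠ 0)
    (hR : ∀ s : F, uroot hU x (s • y) ∈ M) (hA : ∀ G : F, uroot hU a (G • v) ∈ M) {μ : F} (hμs : σ μ = μ)
    (hμ1 : μ * μ ≠ 1) {T : GL ι F} (hTM : T ∈ M) (hTi : T ∈ uiso f) (hTa : act T a = μ • a)
    (hTv : act T v = v) : RootIn hU M a := by
  have hva := eq_zero_symm hU hav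
  have hiso : ∀ p q p' q' : F, f (p • a + q • v) (p' • a + q' • v) = 0 := fun p q p' q' => by
    simp only [add_left hU, add_right hU, smul_left hU, smul_right hU, haa, hav, hva, hvv]; ring
  have hμ' : μ * μ - 1 ≠ 0 := sub_ne_zero.2 hμ1
  refine ⟨haa, fun c hc => ?_⟩
  obtain ⟨s, hs⟩ := exists_skew_preimage (σ := σ) (a := σ x₁ * y₁) hU.involutive hU.ne_refl
    (mul_ne_zero ((map_ne_zero σ).2 hx0) hy0)
    (show -c / (μ * μ - 1) + σ (-c / (μ * μ - 1)) = 0 by
      rw [map_div₀, map_neg, map_sub, map_mul, hμs, map_one, eq_neg_of_add_eq_zero_right hc]; ring)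
  have hsy : s • y = (s * y₁) • a + (s * y₂) • v := by rw [hy]; module
  have m₁ := hR s
  rw [hx, hsy] at m₁
  have m₂ := M.mul_mem (M.mul_mem hTM m₁) (M.inv_mem hTM)
  rw [conj_uroot hU hTi (hiso _ _ _ _), map_add, map_add, map_smul, map_smul, map_smul, map_smul, hTa, hTv,
    smul_smul, smul_smul] at m₂
  obtain ⟨G, hG⟩ : ∃ G, G = σ ((μ - 1) * (σ (s * y₂) * x₁ - σ x₂ * (s * y₁))) := ⟨_, rfl⟩
  have hcv : c = (μ * μ - 1) * (σ (s * y₁) * x₁ - σ x₁ * (s * y₁)) := by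
    rw [eq_div_iff hμ'] at hs
    simp only [map_mul, hU.involutive] at hs ⊢
    linear_combination hs
  have e : uroot hU ((x₁ * μ) • a + x₂ • v) ((s * y₁ * μ) • a + (s * y₂) • v) =
      utv hU a c * uroot hU a (G • v) * uroot hU (x₁ • a + x₂ • v) ((s * y₁) • a + (s * y₂) • v) := by
    apply gl_ext; intro z
    simp only [act_mul, act_utv hU haa, act_uroot hU (hiso _ _ _ _) (hiso _ _ _ _) (hiso _ _ _ _),
      act_uroot hU haa (show f (G • v) (G • v) = 0 by rw [smul_left hU, smul_right hU, hvv]; ring)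
        (show f a (G • v) = 0 by rw [smul_right hU, hav, mul_zero]),
      add_left hU, sub_left hU, add_right hU, smul_left hU, smul_right hU, haa, hav, hva, hvv]
    simp only [hG, hcv, map_mul, map_sub, map_one, hU.involutive, hμs, mul_zero, add_zero, sub_zero, zero_add]
    match_scalars <;> ring
  rw [e] at m₂
  exact (M.mul_mem_cancel_right (hA G)).1 ((M.mul_mem_cancel_right m₁).1 m₂)

/-- a root group at a component from one at a point with non-orthogonal components -/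
theorem rootIn_component {p v : ι → F} (hp : f p p = 0) (hv : f v v = 0) (hne : f p v ≠ 0)
    {μ : F} (hμs : σ μ = μ) (hμ0 : μ ≠ 0) (hμ1 : μ * μ ≠ 1) {T : GL ι F} (hTM : T ∈ M) (hTi : T ∈ uiso f)
    (hTp : act T p = μ • p) (hTv : act T v = μ⁻¹ • v) (hR : RootIn hU M (p + v)) : RootIn hU M p := by
  have hiso := hR.1
  simp only [add_left hU, add_right hU, hp, hv, zero_add, add_zero] at hiso
  obtain ⟨δ, hδ⟩ : ∃ δ, δ = f p v := ⟨_, rfl⟩
  rw [← hδ] at hne hiso
  have hvp : f v p = -δ := eq_neg_of_add_eq_zero_right hiso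
  have hδs : σ δ = -δ := by rw [hδ, herm' hU, hvp, hδ]
  have hμ' : μ * μ - 1 ≠ 0 := sub_ne_zero.2 hμ1
  have hμ'' : μ ^ 2 - 1 ≠ 0 := by rwa [sq]
  have h3 := rootIn_conj hU hTM hTi hR
  rw [map_add, hTp, hTv] at h3
  have h4 := rootIn_add hU hR h3 (c := -1 / (δ * (μ * μ - 1))) (by
    rw [map_div₀, map_neg, map_one, map_mul, map_sub, map_mul, hμs, map_one, hδs, neg_mul, div_neg]
    ring)
  simp only [add_left hU, add_right hU, smul_left hU, hp, hv, ← hδ, hvp, mul_zero, zero_add, add_zero] at h4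
  have e : μ • p + μ⁻¹ • v + (-1 / (δ * (μ * μ - 1)) * (μ * δ + μ⁻¹ * -δ)) • (p + v) = (μ - μ⁻¹) • p := by
    match_scalars <;> field_simp <;> ring
  rw [e] at h4
  have h5 := rootIn_smul hU h4 (μ - μ⁻¹)⁻¹
  rwa [inv_smul_smul₀ (show μ - μ⁻¹ ≠ 0 from fun h => hμ1 (by field_simp at h; linear_combination h))] at h5

/-- from a point with orthogonal components to one with non-orthogonal components -/
theorem rootIn_skew_point {a a₂ b b' : ι → F} (ha : f a a = 0) (ha₂ : f a₂ a₂ = 0) (hb : f b b = 0)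
    (hb' : f b' b' = 0) (haa₂ : f a a₂ = 0) (hbb' : f b b' = 0) (hab : f a b = 0) (h₂b : f a₂ b = 1)
    (hab' : f a b' = 1) (h₂b' : f a₂ b' = 0) {μ : F} (hμs : σ μ = μ) (hμ0 : μ ≠ 0) (hμ1 : μ * μ ≠ 1)
    {T h : GL ι F} (hTM : T ∈ M) (hTi : T ∈ uiso f) (hTa : act T a = μ • a) (hTb' : act T b' = μ⁻¹ • b')
    (hT₂ : act T a₂ = a₂) (hTb : act T b = b) (hhM : h ∈ M) (hhi : h ∈ uiso f) (hha : act h a = a + a₂)
    (hhb : act h b = b - b') (hR : RootIn hU M (a + b)) :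
    ∃ k l : F, f ((μ + k) • a + a₂) (l • b + (-μ⁻¹) • b') ≠ 0 ∧
      RootIn hU M (((μ + k) • a + a₂) + (l • b + (-μ⁻¹) • b')) := by
  have h1 := rootIn_conj hU hhM hhi hR
  rw [map_add, hha, hhb] at h1
  have h2 := rootIn_conj hU hTM hTi h1
  rw [map_add, map_add, map_sub, hTa, hT₂, hTb, hTb'] at h2
  obtain ⟨c, hc0, hc⟩ := exists_skew hU.ne_refl hU.involutive
  have hba₂ : f b a₂ = 1 := by rw [← herm' hU, h₂b, map_one]
  have hb'a : f b' a = 1 := by rw [← herm' hU, hab', map_one]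
  have h3 := rootIn_add hU hR h2 hc
  simp only [add_left hU, sub_left hU, add_right hU, smul_left hU, ha, hb, haa₂, eq_zero_symm hU haa₂, hab,
    eq_zero_symm hU hab, hbb', eq_zero_symm hU hbb', h₂b, hb'a, mul_zero, zero_add, add_zero, sub_zero,
    zero_sub, mul_one] at h3
  refine ⟨c * (1 - μ⁻¹), 1 + c * (1 - μ⁻¹), ?_, ?_⟩
  · have e : f ((μ + c * (1 - μ⁻¹)) • a + a₂) ((1 + c * (1 - μ⁻¹)) • b + (-μ⁻¹) • b') =
        -(c * ((μ - 1) * (μ + 1)) * μ⁻¹ * μ⁻¹) := by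
      simp only [add_left hU, add_right hU, smul_left hU, smul_right hU, hab, hab', h₂b, h₂b', map_add, map_mul,
        map_sub, map_neg, map_one, map_inv₀, hμs, eq_neg_of_add_eq_zero_right hc]
      field_simp
      ring
    rw [e]
    refine neg_ne_zero.2 (mul_ne_zero (mul_ne_zero (mul_ne_zero hc0 ?_) (inv_ne_zero hμ0)) (inv_ne_zero hμ0))
    rw [show (μ - 1) * (μ + 1) = μ * μ - 1 by ring]; exact sub_ne_zero.2 hμ1
  · convert h3 using 1
    match_scalars <;> ring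

end Cfsg.Agent.MaxCl.Unit
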