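/-
Stabilisers of pairs of complementary totally singular lines are maximal in SU_4(q), q ≥ 4.
-/
import Cfsg.Agent.Lib.MaxCl.SU4.SingularPairBase
import Cfsg.Agent.Lib.MaxCl.SU4.Basic
import Cfsg.Agent.Lib.MaxCl.UnitaryGen

set_option autoImplicit false
set_option maxHeartbeats 3200000

namespace Cfsg.Agent.MaxCl.SU4

open Cfsg Cfsg.Agent.MaxCl Cfsg.Agent.MaxCl.Unit

/-- Stabilisers of pairs of complementary totally singular lines are maximal. -/
theorem singularPair_maximal_four {F : Type*} [Field F] [Fintype F] (q : ℕ) (hF : Fintype.card F = q ^ 2) (hq : 4 ≤ q) (D : Fin 2 → Submodule F (Fin 4 → F)) (hD : Cfsg.Geo.IsMDecomposition 2 D) (hts : ∀ i, Cfsg.Geo.IsTotallySingularFor (Cfsg.hermForm 4 F q) (D i)) : Cfsg.Geo.IsMaximalIn (Cfsg.GU 4 F q ⊓ Cfsg.Geo.specialLinear (Fin 4) F) (Cfsg.Geo.decompositionStabilizer D ⊓ (Cfsg.GU 4 F q ⊓ Cfsg.Geo.specialLinear (Fin 4) F)) := by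
  classical
  obtain ⟨τ, hτ, hf⟩ := hermForm_isUnitary 4 q hF
  set f := Cfsg.hermForm 4 F q
  change Cfsg.Geo.IsMaximalIn (uiso f ⊓ _) (_ ⊓ (uiso f ⊓ _))
  obtain ⟨ζ, hζ0, hζ⟩ := exists_skew hf.ne_refl hf.involutive
  have hdim := hD.finrank_eq
  have hU0 : ∀ u c, f u u = 0 → c + τ c = 0 → utv hf u c ∈ uiso f ⊓ Cfsg.Geo.specialLinear (Fin 4) F :=
    fun u c hu hc => ⟨utv_mem hf hu hc, det_ptv hf (by rw [smul_right hf, hu, mul_zero])⟩
  have hc : IsCompl (D 0) (D 1) := by
    refine ⟨hD.indep.pairwiseDisjoint (by decide : (0 : Fin 2) ≠ 1), codisjoint_iff.2 ?_⟩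
    rw [eq_top_iff, ← hD.iSup_eq_top, iSup_le_iff]
    intro i; fin_cases i
    · exact le_sup_left
    · exact le_sup_right
  have hother : ∀ i : Fin 2, ∃ j, j ≠ i ∧ ∀ l, l = i ∨ l = j := by decide
  have hsplit : ∀ i j : Fin 2, j ≠ i → IsCompl (D i) (D j) := by
    intro i j hij
    fin_cases i <;> fin_cases j <;> first | exact absurd rfl hij | exact hc | exact hc.symm
  have hrep : ∀ (i j : Fin 2), j ≠ i → ∀ v, ∃ p ∈ D i, ∃ q ∈ D j, p + q = v := by
    intro i j hij v
    refine Submodule.mem_sup.1 ?_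
    rw [(hsplit i j hij).sup_eq_top]; trivial
  have hdisj : ∀ (i j : Fin 2), j ≠ i → ∀ x, x ∈ D i → x ∈ D j → x = 0 := fun i j hij x hi hj =>
    Submodule.disjoint_def.1 (hsplit i j hij).disjoint x hi hj
  have hex : ∀ i, ∃ x ∈ D i, x ≠ 0 := fun i => Submodule.exists_mem_ne_zero_of_ne_bot (by
    intro h; have := hdim i; rw [h, finrank_bot] at this; omega)
  -- representing functionals on one member inside the other
  have hrepr : ∀ (i j : Fin 2), j ≠ i → ∀ φ : (Fin 4 → F) →ₗ[F] F, ∃ c ∈ D j, ∀ a ∈ D i, φ a = f a c := by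
    intro i j hij φ
    obtain ⟨w, hw⟩ := Unit.exists_repr hf φ
    obtain ⟨u, hu, c, hc', rfl⟩ := hrep i j hij w
    exact ⟨c, hc', fun a ha => by rw [hw a, Unit.add_right hf, hts i a ha u hu, zero_add]⟩
  have hdual : ∀ (i j : Fin 2), j ≠ i → ∀ a ∈ D i, ∀ p ∈ D i, p ∉ F ∙ a →
      ∃ c ∈ D j, f a c = 0 ∧ f p c = 1 := by
    intro i j hij a ha p hp hpa
    obtain ⟨φ, h0, h1⟩ := exists_dual _ hpa
    obtain ⟨c, hc', hc⟩ := hrepr i j hij φ
    exact ⟨c, hc', (hc a ha).symm.trans (h0 a (Submodule.mem_span_singleton_self a)),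
      (hc p hp).symm.trans h1⟩
  have hindep : ∀ {a p : Fin 4 → F}, a ≠ 0 → p ∉ F ∙ a → a ∉ F ∙ p := by
    intro a p ha hp h
    obtain ⟨s, rfl⟩ := Submodule.mem_span_singleton.1 h
    have hs : s ≠ 0 := by rintro rfl; simp at ha
    exact hp (Submodule.mem_span_singleton.2 ⟨s⁻¹, inv_smul_smul₀ hs p⟩)
  have hmem : ∀ (g : GL (Fin 4) F) (σ : Equiv.Perm (Fin 2)),
      (∀ i, ∀ x ∈ D i, act g x ∈ D (σ i)) → g ∈ Cfsg.Geo.decompositionStabilizer D := fun g σ h =>
    ⟨σ, fun i => Submodule.eq_of_le_of_finrank_eq (Submodule.map_le_iff_le_comap.2 (h i))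
      (by rw [toLin'_eq_act, finrank_map_act, hdim, hdim])⟩
  -- strictness
  refine ⟨lt_of_le_of_ne inf_le_right ?_, ?_⟩
  · intro heq
    obtain ⟨u, hu, hu0⟩ := hex 0
    obtain ⟨x, hx⟩ := (hf.nondegenerate u hu0).1
    obtain ⟨p, hp, w, hw, rfl⟩ := hrep 0 1 (by decide) x
    rw [add_left hf, hts 0 p hp u hu, zero_add] at hx
    obtain ⟨σ, hσ⟩ := (inf_eq_right.1 heq) (hU0 u ζ (hts 0 u hu u hu) hζ)
    have h1 : act (utv hf u ζ) w ∈ D (σ 1) := by rw [← hσ 1]; exact ⟨w, hw, rfl⟩
    rw [act_utv hf (hts 0 u hu u hu)] at h1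
    have hs : (ζ * f w u) • u ≠ 0 := smul_ne_zero (mul_ne_zero hζ0 hx) hu0
    have hw0 : w ≠ 0 := fun h => hx (by rw [h, zero_left hf])
    rcases (show σ 1 = 0 ∨ σ 1 = 1 from (by omega)) with h | h <;> rw [h] at h1
    · exact hw0 (hdisj 0 1 (by decide) w (((D 0).add_mem_iff_left ((D 0).smul_mem _ hu)).1 h1) hw)
    · exact hs (hdisj 0 1 (by decide) _ ((D 0).smul_mem _ hu) (((D 1).add_mem_iff_right hw).1 h1))
  intro M hM1 hM2
  by_cases hsub : M ≤ Cfsg.Geo.decompositionStabilizer D
  · exact Or.inl (le_antisymm (le_inf hsub hM2) hM1)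
  right
  obtain ⟨g, hgM, hg⟩ := SetLike.not_le_iff_exists.1 hsub
  have hgf : g ∈ uiso f := (hM2 hgM).1
  have hconj : ∀ {h u : GL (Fin 4) F}, h ∈ M → u ∈ M → h * u * h⁻¹ ∈ M := fun hh hu =>
    M.mul_mem (M.mul_mem hh hu) (M.inv_mem hh)
  have hrootH : ∀ (i j : Fin 2), j ≠ i → ∀ a ∈ D i, ∀ b ∈ D j, f a b = 0 → uroot hf a b ∈ M := by
    intro i j hij a ha b hb hab
    have haa := hts i a ha a ha
    have hbb := hts j b hb b hb
    refine hM1 ⟨hmem _ 1 fun l z hz => ?_, uroot_mem hf haa hbb hab⟩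
    rw [act_uroot hf haa hbb hab, Equiv.Perm.one_apply]
    have hl : l = i ∨ l = j := by omega
    rcases hl with rfl | rfl
    · rw [hts l z hz a ha, zero_smul, sub_zero]; exact (D l).add_mem hz ((D l).smul_mem _ ha)
    · rw [hts l z hz b hb, zero_smul, add_zero]; exact (D l).sub_mem hz ((D l).smul_mem _ hb)
  have hskew : ∀ c, c + τ c = 0 → ∃ μ, μ - τ μ = c := by
    intro c hc
    obtain ⟨e, he⟩ := exists_trace_one hf.involutive hf.ne_refl
    refine ⟨c * e, ?_⟩
    rw [map_mul, eq_neg_of_add_eq_zero_right hc]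
    linear_combination c * he
  -- a root group from one adapted root element
  have key : ∀ (i j : Fin 2), j ≠ i → ∀ y ∈ D i, ∀ p ∈ D i, p ∉ F ∙ y → ∀ u ∈ D j,
      f (p + u) (p + u) = 0 → f (p + u) y = 0 → uroot hf (p + u) y ∈ M → RootIn hf M y := by
    intro i j hij y hy p hp hpy u hu hxx hxy hR
    have hyy := hts i y hy y hy
    refine ⟨hyy, fun c hc => ?_⟩
    obtain ⟨μ, rfl⟩ := hskew c hc
    obtain ⟨b, hb, hyb, hpb⟩ := hdual i j hij y hy p hp hpy
    have hyb' : f y (τ μ • b) = 0 := by rw [smul_right hf, hyb, mul_zero]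
    have hbb : f (τ μ • b) (τ μ • b) = 0 := hts j _ ((D j).smul_mem _ hb) _ ((D j).smul_mem _ hb)
    have hh := hrootH i j hij y hy _ ((D j).smul_mem (τ μ) hb) hyb'
    have hxb : f (p + u) b = 1 := by rw [add_left hf, hpb, hts j u hu b hb, add_zero]
    have hmv1 : act (uroot hf y (τ μ • b)) y = y := by
      rw [act_uroot hf hyy hbb hyb', hyy, hyb', zero_smul, zero_smul, add_zero, sub_zero]
    have hmv2 : act (uroot hf y (τ μ • b)) (p + u) = p + u + μ • y := by
      rw [act_uroot hf hyy hbb hyb', hxy, smul_right hf, hxb, hf.involutive, mul_one, zero_smul, sub_zero]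
    have hR' := hconj hh hR
    rw [conj_uroot hf (uroot_mem hf hyy hbb hyb').1 hxy, hmv1, hmv2] at hR'
    have e : uroot hf (p + u + μ • y) y = uroot hf (p + u) y * utv hf y (μ - τ μ) := by
      generalize p + u = x at hxx hxy hR hR' hxb hmv2
      have hyx := eq_zero_symm hf hxy
      apply gl_ext; intro z
      rw [act_uroot hf (by
        simp only [add_left hf, add_right hf, smul_left hf, smul_right hf, hxx, hxy, hyx, hyy]; ring) hyy
        (by rw [add_left hf, smul_left hf, hxy, hyy]; ring), act_mul, act_utv hf hyy,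
        act_uroot hf hxx hyy hxy]
      simp only [add_left hf, add_right hf, smul_left hf, smul_right hf, hxy, hyx, hyy]
      match_scalars <;> ring
    rw [e] at hR'
    exact (mul_mem_cancel_left hR).1 hR'
  have key2 : ∀ (i j : Fin 2), j ≠ i → ∀ y ∈ D i, y ≠ 0 → ∀ α : F, α ≠ 0 → ∀ u ∈ D j,
      f (α • y + u) y = 0 → (∀ s : F, uroot hf (α • y + u) (s • y) ∈ M) → RootIn hf M y := by
    intro i j hij y hy hy0 α hα u hu hxy hR
    have hyy := hts i y hy y hy
    have huu := hts j u hu u hu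
    have huy : f u y = 0 := by rwa [add_left hf, smul_left hf, hyy, mul_zero, zero_add] at hxy
    refine ⟨hyy, fun c hc => ?_⟩
    obtain ⟨μ, rfl⟩ := hskew c hc
    obtain ⟨s, hs⟩ : ∃ s, s = τ (μ / α) := ⟨_, rfl⟩
    have hsa : τ s * α = μ := by rw [hs, hf.involutive, div_mul_cancel₀ _ hα]
    have hus : f u (s • y) = 0 := by rw [smul_right hf, huy, mul_zero]
    have hyu := eq_zero_symm hf huy
    have e : uroot hf (α • y + u) (s • y) = uroot hf u (s • y) * utv hf y (μ - τ μ) := by
      apply gl_ext; intro z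
      rw [act_uroot hf (by
          simp only [add_left hf, add_right hf, smul_left hf, smul_right hf, hyy, huu, huy, hyu]; ring)
        (by rw [smul_left hf, smul_right hf, hyy]; ring)
        (by rw [add_left hf, smul_left hf, smul_right hf, smul_right hf, hyy, huy]; ring),
        act_mul, act_utv hf hyy, act_uroot hf huu (by rw [smul_left hf, smul_right hf, hyy]; ring) hus,
        ← hsa, map_mul, hf.involutive]
      simp only [add_left hf, add_right hf, smul_left hf, smul_right hf, hyy, hyu]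
      match_scalars <;> ring
    have h1 := hR s
    rw [e] at h1
    exact (mul_mem_cancel_left (hrootH j i hij.symm u hu _ ((D i).smul_mem s hy) hus)).1 h1
  have keyD : ∀ (i j : Fin 2), j ≠ i → ∀ y ∈ D i, y ≠ 0 → ∀ x, x ∉ D j → f x x = 0 → f x y = 0 →
      (∀ s : F, uroot hf x (s • y) ∈ M) → RootIn hf M y := by
    intro i j hij y hy hy0 x hx hxx hxy hR
    obtain ⟨p, hp, u, hu, rfl⟩ := hrep i j hij x
    by_cases hdep : p ∈ F ∙ y
    · obtain ⟨a, rfl⟩ := Submodule.mem_span_singleton.1 hdep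
      have ha : a ≠ 0 := by rintro rfl; exact hx (by simpa using hu)
      exact key2 i j hij y hy hy0 a ha u hu hxy hR
    · exact key i j hij y hy p hp hdep u hu hxx hxy (by simpa using hR 1)
  obtain ⟨μ, hμs, hμ0, -, hμ4⟩ := exists_fixed_ne hF (by omega) hτ
  have hμ1 : μ * μ ≠ 1 := hμ4 hq
  have hμne : μ - 1 ≠ 0 := sub_ne_zero.2 fun h => hμ1 (by rw [h, mul_one])
  -- tori in the stabiliser
  have torus : ∀ (i j : Fin 2), j ≠ i → ∀ a ∈ D i, ∀ b ∈ D j, f a b = 1 → ∀ ν : F, τ ν = ν → ν ≠ 0 →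
      ∃ T ∈ M, T ∈ uiso f ∧ act T a = ν • a ∧ act T b = ν⁻¹ • b ∧ ∀ x, f x a = 0 → f x b = 0 → act T x = x := by
    intro i j hij a ha b hb hab ν hν hν0
    have haa := hts i a ha a ha
    have hbb := hts j b hb b hb
    obtain ⟨T, hT, hTa, hTb, hTfix⟩ := exists_torus hf haa hbb hab hν hν0
    refine ⟨T, hM1 ⟨hmem T 1 fun l z hz => ?_, hT⟩, hT.1, hTa, hTb, hTfix⟩
    rw [Equiv.Perm.one_apply]
    have hba : f b a = 1 := by rw [← herm' hf, hab, map_one]
    rcases (show l = i ∨ l = j by omega) with rfl | rfl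
    · have e : z = (z - f z b • a) + f z b • a := by abel
      rw [e, map_add, map_smul, hTa, hTfix _ (by rw [sub_left hf, smul_left hf, hts l z hz a ha, haa]; ring)
        (by rw [sub_left hf, smul_left hf, hab]; ring)]
      exact (D l).add_mem ((D l).sub_mem hz ((D l).smul_mem _ ha)) ((D l).smul_mem _ ((D l).smul_mem _ ha))
    · have e : z = (z - f z a • b) + f z a • b := by abel
      rw [e, map_add, map_smul, hTb, hTfix _ (by rw [sub_left hf, smul_left hf, hba]; ring)
        (by rw [sub_left hf, smul_left hf, hts l z hz b hb, hbb]; ring)]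
      exact (D l).add_mem ((D l).sub_mem hz ((D l).smul_mem _ hb)) ((D l).smul_mem _ ((D l).smul_mem _ hb))
  -- lines meeting a member
  have point : ∀ (i j : Fin 2), j ≠ i → ∀ p ∈ D i, p ≠ 0 → ∀ v ∈ D j, v ≠ 0 → ∀ r ∈ D i, r ≠ 0 → ∀ m : F,
      f (p + v) (p + v) = 0 → f (p + v) (r + m • v) = 0 → r + m • v ∉ F ∙ (p + v) →
      (∀ s : F, uroot hf (p + v) (s • (r + m • v)) ∈ M) → ∃ a ∈ D i, a ≠ 0 ∧ RootIn hf M a := by
    intro i j hij p hp hp0 v hv hv0 r hr hr0 m hxx hxy hyx hR
    obtain ⟨a, hadef⟩ : ∃ a, a = r - m • p := ⟨_, rfl⟩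
    have ha : a ∈ D i := hadef ▸ (D i).sub_mem hr ((D i).smul_mem _ hp)
    have ha0 : a ≠ 0 := fun h => hyx (Submodule.mem_span_singleton.2 ⟨m, by
      rw [hadef, sub_eq_zero] at h; rw [h, smul_add]⟩)
    have haa := hts i a ha a ha
    have hpp := hts i p hp p hp
    have hrp := hts i r hr p hp
    have hvv := hts j v hv v hv
    have hva : f v a = 0 := by
      have h1 := eq_zero_symm hf hxy
      simp only [add_left hf, add_right hf, smul_left hf, hrp, hvv, mul_zero, zero_add, add_zero] at h1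
      simp only [add_left hf, add_right hf, hpp, hvv, zero_add, add_zero] at hxx
      apply eq_zero_symm hf
      rw [hadef, sub_left hf, smul_left hf]
      linear_combination h1 - m * hxx
    have hav := eq_zero_symm hf hva
    have hxa : f (p + v) a = 0 := by rw [add_left hf, hts i p hp a ha, hva, add_zero]
    refine ⟨a, ha, ha0, ?_⟩
    by_cases hpa : p ∈ F ∙ a
    · obtain ⟨c, rfl⟩ := Submodule.mem_span_singleton.1 hpa
      have hc0 : c ≠ 0 := left_ne_zero_of_smul hp0
      have hr' : r = (m * c + 1) • a := by linear_combination (norm := module) -hadef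
      have hmc : m * c + 1 ≠ 0 := fun h => hr0 (by rw [hr', h, zero_smul])
      obtain ⟨p', hp', hpa'⟩ := SetLike.not_le_iff_exists.1 (show ¬ D i ≤ F ∙ a by
        intro hle
        have := Submodule.finrank_mono hle
        rw [finrank_span_singleton ha0, hdim] at this
        omega)
      obtain ⟨b, hb, -, hab⟩ := hdual i j hij p' hp' a ha (hindep ha0 hpa')
      obtain ⟨T, hTM, hTi, hTa, -, hTfix⟩ := torus i j hij a ha b hb hab μ hμs hμ0
      refine rootIn_of_standard_line hf haa hav hvv (x₁ := c) (x₂ := 1) (y₁ := m * c + 1) (y₂ := m)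
        (by rw [one_smul]) (by rw [hr']) hc0 hmc hR (fun G => hrootH i j hij a ha _ ((D j).smul_mem G hv)
          (by rw [smul_right hf, hav, mul_zero])) hμs hμ1 hTM hTi hTa (hTfix v hva (hts j v hv b hb))
    · obtain ⟨b, hb, hpb, hab⟩ := hdual i j hij p hp a ha (hindep ha0 hpa)
      obtain ⟨T, hTM, hTi, hTa, -, hTfix⟩ := torus i j hij a ha b hb hab μ hμs hμ0
      have hTx : act T (p + v) = p + v := by
        rw [map_add, hTfix p (hts i p hp a ha) hpb, hTfix v hva (hts j v hv b hb)]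
      refine keyD i j hij a ha ha0 (p + v) (fun h => hp0 (hdisj i j hij p hp
        (((D j).add_mem_iff_left hv).1 h))) hxx hxa fun s => ?_
      obtain ⟨t, ht⟩ : ∃ t, t = s / (μ - 1) := ⟨_, rfl⟩
      have e0 : t • (r + m • v) = (t * m) • (p + v) + t • a := by rw [hadef]; module
      have m₁ := hR t
      have hxy' : f (p + v) (t • (r + m • v)) = 0 := by rw [smul_right hf, hxy, mul_zero]
      have m₂ := hconj hTM m₁
      rw [conj_uroot hf hTi hxy', hTx, e0, map_add, map_smul, map_smul, hTx, hTa, smul_smul] at m₂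
      rw [e0] at m₁
      have e : uroot hf (p + v) ((t * m) • (p + v) + (t * μ) • a) =
          uroot hf (p + v) ((t * m) • (p + v) + t • a) * uroot hf (p + v) (s • a) := by
        have hs : s = t * μ - t := by rw [ht]; field_simp
        generalize p + v = x at hxx hxa
        have hax := eq_zero_symm hf hxa
        have h1 : ∀ k l : F, f (k • x + l • a) (k • x + l • a) = 0 ∧ f x (k • x + l • a) = 0 := fun k l => by
          simp only [add_left hf, add_right hf, smul_left hf, smul_right hf, hxx, hxa, hax, haa]; simp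
        apply gl_ext; intro z
        rw [act_mul, act_uroot hf hxx (h1 _ _).1 (h1 _ _).2, act_uroot hf hxx (h1 _ _).1 (h1 _ _).2,
          act_uroot hf hxx (by rw [smul_left hf, smul_right hf, haa]; ring) (by rw [smul_right hf, hxa, mul_zero])]
        simp only [add_left hf, sub_left hf, add_right hf, smul_left hf, smul_right hf, hxx, hxa, hax, haa, hs,
          map_sub, map_mul, hμs]
        match_scalars <;> ring
      rw [e] at m₂
      exact (mul_mem_cancel_left m₁).1 m₂
  -- lines meeting neither member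
  have graph : ∀ p ∈ D 0, p ≠ 0 → ∀ v ∈ D 1, v ≠ 0 → ∀ r ∈ D 0, ∀ u ∈ D 1, r ∉ F ∙ p → u ∉ F ∙ v →
      f (p + v) (p + v) = 0 → f (r + u) (r + u) = 0 → f (p + v) (r + u) = 0 →
      (∀ s : F, uroot hf (p + v) (s • (r + u)) ∈ M) → ∃ a ∈ D 0, a ≠ 0 ∧ RootIn hf M a := by
    intro p hp hp0 v hv hv0 r hr u hu hrp huv hxx hyy hxy hR
    have hpp := hts 0 p hp p hp
    have hrr := hts 0 r hr r hr
    have hrp' := hts 0 r hr p hp
    have hpr' := hts 0 p hp r hr
    have hvv := hts 1 v hv v hv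
    have huu := hts 1 u hu u hu
    have huv' := hts 1 u hu v hv
    have hvu' := hts 1 v hv u hu
    have ex := hxx
    have ey := hyy
    have exy := eq_zero_symm hf hxy
    simp only [add_left hf, add_right hf, hpp, hrr, hrp', hvv, huu, huv', zero_add, add_zero] at ex ey exy
    obtain ⟨c₁, c₂, hc, hc0⟩ : ∃ c₁ c₂ : F, f (c₁ • p + c₂ • r) (c₁ • v + c₂ • u) = 0 ∧ (c₁ ≠ 0 ∨ c₂ ≠ 0) := by
      by_cases hδ : f p v = 0
      · exact ⟨1, 0, by rw [zero_smul, zero_smul, add_zero, add_zero, one_smul, one_smul, hδ], Or.inl one_ne_zero⟩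
      obtain ⟨δ, hδdef⟩ : ∃ δ, δ = f p v := ⟨_, rfl⟩
      rw [← hδdef] at hδ
      have hvp : f v p = -δ := by rw [hδdef]; linear_combination ex
      have hδs : τ δ = -δ := by rw [hδdef, herm' hf, hvp, hδdef]
      have hru : τ (f r u) = -f r u := by rw [herm' hf]; linear_combination ey
      have hX : τ (f r v) = -f p u := by
        have e1 : f v r = τ (f r v) := (herm' hf r v).symm
        have e2 : f u p = τ (f p u) := (herm' hf p u).symm
        have e3 : f r v + τ (f p u) = 0 := by rw [← e2]; exact exy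
        rw [eq_neg_of_add_eq_zero_left e3, map_neg, hf.involutive]
      have hY : τ (f p u) = -f r v := by
        have := congrArg τ hX; rw [hf.involutive, map_neg] at this; linear_combination this
      obtain ⟨b₀, hb₀⟩ := exists_norm hf.involutive hf.ne_refl (-(f r u - f r v * f p u / δ) / δ) (by
        rw [map_div₀, map_neg, map_sub, map_div₀, map_mul, hru, hX, hY, hδs]; field_simp; ring)
      refine ⟨b₀ - f r v / δ, 1, ?_, Or.inr one_ne_zero⟩
      simp only [add_left hf, add_right hf, smul_left hf, smul_right hf, map_sub, map_div₀, map_one, hX, hδs,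
        ← hδdef]
      have e := hb₀
      rw [eq_div_iff hδ] at e
      field_simp at e ⊢
      linear_combination e
    obtain ⟨a, hadef⟩ : ∃ a, a = c₁ • p + c₂ • r := ⟨_, rfl⟩
    obtain ⟨b, hbdef⟩ : ∃ b, b = c₁ • v + c₂ • u := ⟨_, rfl⟩
    rw [← hadef, ← hbdef] at hc
    have ha : a ∈ D 0 := hadef ▸ (D 0).add_mem ((D 0).smul_mem _ hp) ((D 0).smul_mem _ hr)
    have hb : b ∈ D 1 := hbdef ▸ (D 1).add_mem ((D 1).smul_mem _ hv) ((D 1).smul_mem _ hu)
    have hb0 : b ≠ 0 := fun h => by
      rw [hbdef] at h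
      by_cases h2 : c₂ = 0
      · subst h2
        rw [zero_smul, add_zero, smul_eq_zero] at h
        exact hv0 (h.resolve_left (hc0.resolve_right (not_not.2 rfl)))
      · refine huv (Submodule.mem_span_singleton.2 ⟨-(c₁ / c₂), ?_⟩)
        apply smul_right_injective _ h2
        show c₂ • _ = c₂ • u
        rw [smul_smul, mul_neg, mul_div_cancel₀ _ h2]
        linear_combination (norm := module) -h
    have ha0 : a ≠ 0 := fun h => by
      rw [hadef] at h
      by_cases h2 : c₂ = 0
      · subst h2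
        rw [zero_smul, add_zero, smul_eq_zero] at h
        exact hp0 (h.resolve_left (hc0.resolve_right (not_not.2 rfl)))
      · refine hrp (Submodule.mem_span_singleton.2 ⟨-(c₁ / c₂), ?_⟩)
        apply smul_right_injective _ h2
        show c₂ • _ = c₂ • r
        rw [smul_smul, mul_neg, mul_div_cancel₀ _ h2]
        linear_combination (norm := module) -h
    -- the second pair
    obtain ⟨d₁, d₂, hd⟩ : ∃ d₁ d₂ : F, f (d₁ • p + d₂ • r) b = 1 := by
      by_cases h1 : f p b = 0
      · by_cases h2 : f r b = 0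
        · exfalso
          have htop : D 0 ≤ Submodule.span F {p, r} := by
            refine ge_of_eq (Submodule.eq_of_le_of_finrank_le ?_ ?_)
            · rw [Submodule.span_le, Set.insert_subset_iff, Set.singleton_subset_iff]; exact ⟨hp, hr⟩
            · rw [hdim]
              have hli : LinearIndependent F ![p, r] := (LinearIndependent.pair_iff' hp0).2 fun k hk =>
                hrp (Submodule.mem_span_singleton.2 ⟨k, hk⟩)
              have := finrank_span_eq_card hli
              rw [Fintype.card_fin] at this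
              rw [show ({p, r} : Set (Fin 4 → F)) = Set.range ![p, r] by
                simp [Matrix.range_cons, Matrix.range_empty, Set.pair_comm], this]
          obtain ⟨z, hz⟩ := (hf.nondegenerate b hb0).1
          obtain ⟨z₀, hz₀, z₁, hz₁, rfl⟩ := hrep 0 1 (by decide) z
          obtain ⟨k, l, rfl⟩ := Submodule.mem_span_pair.1 (htop hz₀)
          apply hz
          simp only [add_left hf, smul_left hf, h1, h2, hts 1 z₁ hz₁ b hb, mul_zero, add_zero]
        · exact ⟨0, (f r b)⁻¹, by rw [zero_smul, zero_add, smul_left hf, inv_mul_cancel₀ h2]⟩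
      · exact ⟨(f p b)⁻¹, 0, by rw [zero_smul, add_zero, smul_left hf, inv_mul_cancel₀ h1]⟩
    obtain ⟨a', ha'def⟩ : ∃ a', a' = d₁ • p + d₂ • r := ⟨_, rfl⟩
    obtain ⟨b', hb'def⟩ : ∃ b', b' = d₁ • v + d₂ • u := ⟨_, rfl⟩
    rw [← ha'def] at hd
    have ha' : a' ∈ D 0 := ha'def ▸ (D 0).add_mem ((D 0).smul_mem _ hp) ((D 0).smul_mem _ hr)
    have hb' : b' ∈ D 1 := hb'def ▸ (D 1).add_mem ((D 1).smul_mem _ hv) ((D 1).smul_mem _ hu)
    have hL : ∀ k l k' l' : F,
        f (k • (p + v) + l • (r + u)) (k' • (p + v) + l' • (r + u)) = 0 := fun k l k' l' => by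
      simp only [add_left hf (k • (p + v)), add_right hf _ (k' • (p + v)), smul_left hf, smul_right hf, hxx, hxy,
        eq_zero_symm hf hxy, hyy]
      ring
    have hlin : ∀ k l : F, k • (p + v) + l • (r + u) = (k • p + l • r) + (k • v + l • u) := fun k l => by module
    have hab' : f a b' = -1 := by
      have h := hL c₁ c₂ d₁ d₂
      rw [hlin, hlin, ← hadef, ← hbdef, ← ha'def, ← hb'def, add_left hf, add_right hf, add_right hf,
        hts 0 a ha a' ha', hts 1 b hb b' hb', zero_add, add_zero, ← herm' hf a' b, hd, map_one] at h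
      linear_combination h
    have hdd : f a' b' + τ (f a' b') = 0 := by
      have h := hL d₁ d₂ d₁ d₂
      rw [hlin, ← ha'def, ← hb'def, add_left hf, add_right hf, add_right hf,
        hts 0 a' ha' a' ha', hts 1 b' hb' b' hb', zero_add, add_zero, ← herm' hf a' b'] at h
      exact h
    obtain ⟨κ, hκ⟩ := hskew _ hdd
    obtain ⟨a₂, ha₂def⟩ : ∃ a₂, a₂ = a' + κ • a := ⟨_, rfl⟩
    obtain ⟨b₂, hb₂def⟩ : ∃ b₂, b₂ = b' + κ • b := ⟨_, rfl⟩
    have ha₂ : a₂ ∈ D 0 := ha₂def ▸ (D 0).add_mem ha' ((D 0).smul_mem _ ha)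
    have hb₂ : b₂ ∈ D 1 := hb₂def ▸ (D 1).add_mem hb' ((D 1).smul_mem _ hb)
    have h₂b : f a₂ b = 1 := by rw [ha₂def, add_left hf, smul_left hf, hc, hd, mul_zero, add_zero]
    have hab₂ : f a (-b₂) = 1 := by
      rw [neg_right' hf, hb₂def, add_right hf, smul_right hf, hc, hab', mul_zero, add_zero, neg_neg]
    have h₂b₂ : f a₂ (-b₂) = 0 := by
      rw [neg_right' hf, ha₂def, hb₂def, add_left hf, add_right hf, add_right hf, smul_left hf, smul_left hf,
        smul_right hf, smul_right hf, hd, hab', hc]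
      linear_combination hκ
    have hb₂' : -b₂ ∈ D 1 := (D 1).neg_mem hb₂
    have haa := hts 0 a ha a ha
    have ha₂a₂ := hts 0 a₂ ha₂ a₂ ha₂
    have hbb := hts 1 b hb b hb
    have hb₂b₂ := hts 1 _ hb₂' _ hb₂'
    have haa₂ := hts 0 a ha a₂ ha₂
    have hba₂ : f b a₂ = 1 := by rw [← herm' hf, h₂b, map_one]
    have hb₂a : f (-b₂) a = 1 := by rw [← herm' hf, hab₂, map_one]
    have hb₂a₂ : f b₂ a₂ = 0 := by
      have h := eq_zero_symm hf h₂b₂; rwa [neg_left' hf, neg_eq_zero] at h
    have hb₂a' : f b₂ a = -1 := by rw [neg_left' hf] at hb₂a; linear_combination -hb₂a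
    obtain ⟨T₁, hT₁M, hT₁i, hT₁a, hT₁b, hT₁fix⟩ := torus 0 1 (by decide) a ha _ hb₂' hab₂ μ hμs hμ0
    obtain ⟨T₂, hT₂M, hT₂i, hT₂a, hT₂b, hT₂fix⟩ := torus 0 1 (by decide) a₂ ha₂ b hb h₂b μ⁻¹
      (by rw [map_inv₀, hμs]) (inv_ne_zero hμ0)
    have hT₁a₂ : act T₁ a₂ = a₂ := hT₁fix a₂ (hts 0 a₂ ha₂ a ha) h₂b₂
    have hT₁b' : act T₁ b = b := hT₁fix b (eq_zero_symm hf hc) (hts 1 b hb _ hb₂')
    have hT₂a' : act T₂ a = a := hT₂fix a haa₂ hc
    have hT₂b₂ : act T₂ b₂ = b₂ := hT₂fix b₂ hb₂a₂ (hts 1 b₂ hb₂ b hb)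
    rw [map_neg] at hT₁b
    obtain ⟨det', hdet'⟩ : ∃ k, k = c₁ * (d₂ + κ * c₂) - c₂ * (d₁ + κ * c₁) := ⟨_, rfl⟩
    have hdet0 : det' ≠ 0 := by
      intro h
      rw [hdet'] at h
      rcases hc0 with h1 | h2
      · have e : c₁ • a₂ = (d₁ + κ * c₁) • a := by
          rw [ha₂def, ha'def, hadef]
          match_scalars
          · ring
          · linear_combination h
        have := congrArg (f · b) e
        simp only [smul_left hf, h₂b, hc, mul_zero, mul_one] at this
        exact h1 this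
      · have e : c₂ • a₂ = (d₂ + κ * c₂) • a := by
          rw [ha₂def, ha'def, hadef]
          match_scalars
          · linear_combination -h
          · ring
        have := congrArg (f · b) e
        simp only [smul_left hf, h₂b, hc, mul_zero, mul_one] at this
        exact h2 this
    have hz : RootIn hf M (a + b) := by
      refine rootIn_of_line hf (w := a₂ + b₂) (x := p + v) (y := r + u)
        (x₁ := (d₂ + κ * c₂) / det') (x₂ := -c₂ / det') (y₁ := -(d₁ + κ * c₁) / det') (y₂ := c₁ / det')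
        ?_ ?_ ?_ ?_ ?_ ?_ hR hμs hμ0 hμ1 (fun t ht => ?_) ?_
      · simp only [add_left hf, add_right hf, haa, hbb, hc, eq_zero_symm hf hc]; simp
      · rw [neg_right' hf] at hab₂
        simp only [add_left hf, add_right hf, haa₂, hts 1 b hb b₂ hb₂, hba₂]
        linear_combination -hab₂
      · simp only [add_left hf, add_right hf, ha₂a₂, hts 1 b₂ hb₂ b₂ hb₂, hb₂a₂, eq_zero_symm hf hb₂a₂]; simp
      · rw [hadef, hbdef, ha₂def, hb₂def, ha'def, hb'def, hadef, hbdef]
        match_scalars <;> field_simp <;> rw [hdet'] <;> ring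
      · rw [hadef, hbdef, ha₂def, hb₂def, ha'def, hb'def, hadef, hbdef]
        match_scalars <;> field_simp <;> rw [hdet'] <;> ring
      · rw [show (d₂ + κ * c₂) / det' * (c₁ / det') - -c₂ / det' * (-(d₁ + κ * c₁) / det') = 1 / det' by
          field_simp; rw [hdet']; ring]
        exact one_div_ne_zero hdet0
      · have htb : f a (t • b) = 0 := by rw [smul_right hf, hc, mul_zero]
        have hbt : f (t • b) (t • b) = 0 := by rw [smul_left hf, smul_right hf, hbb]; ring
        refine ⟨uroot hf a (t • b), hrootH 0 1 (by decide) a ha _ ((D 1).smul_mem t hb) htb,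
          (uroot_mem hf haa hbt htb).1, ?_, ?_⟩
        · rw [map_add, act_uroot hf haa hbt htb, act_uroot hf haa hbt htb, smul_right hf, smul_right hf, haa, hc,
            hbb, eq_zero_symm hf hc]
          simp
        · rw [map_add, act_uroot hf haa hbt htb, act_uroot hf haa hbt htb, smul_right hf, smul_right hf, h₂b,
            hts 0 a₂ ha₂ a ha, hts 1 b₂ hb₂ b hb, hb₂a', ht]
          module
      · refine ⟨T₁ * T₂, M.mul_mem hT₁M hT₂M, mul_mem hT₁i hT₂i, ?_, ?_⟩
        · rw [map_add, act_mul, act_mul, hT₂a', hT₁a, hT₂b, inv_inv, map_smul, hT₁b', smul_add]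
        · rw [map_add, act_mul, act_mul, hT₂a, map_smul, hT₁a₂, hT₂b₂, smul_add]
          have := congrArg Neg.neg hT₁b
          rw [neg_neg, smul_neg, neg_neg] at this
          rw [this]
    -- a point with non-orthogonal components, then a component
    have hhb : f a₂ (-b₂) = 0 := h₂b₂
    have hhi := uroot_mem hf ha₂a₂ hb₂b₂ hhb
    obtain ⟨k, l, hne, hpv⟩ := rootIn_skew_point hf haa ha₂a₂ hbb hb₂b₂ haa₂ (hts 1 b hb _ hb₂') hc h₂b hab₂
      h₂b₂ hμs hμ0 hμ1 hT₁M hT₁i hT₁a (by rw [map_neg]; exact hT₁b) hT₁a₂ hT₁b'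
      (hrootH 0 1 (by decide) a₂ ha₂ _ hb₂' hhb) hhi.1
      (by rw [act_uroot hf ha₂a₂ hb₂b₂ hhb, hab₂, haa₂]; simp)
      (by rw [act_uroot hf ha₂a₂ hb₂b₂ hhb, hts 1 b hb _ hb₂', hba₂]; simp) hz
    have hP : (μ + k) • a + a₂ ∈ D 0 := (D 0).add_mem ((D 0).smul_mem _ ha) ha₂
    have hV : l • b + (-μ⁻¹) • -b₂ ∈ D 1 := (D 1).add_mem ((D 1).smul_mem _ hb) ((D 1).smul_mem _ hb₂')
    generalize (μ + k) • a + a₂ = P at hne hpv hP
    generalize l • b + (-μ⁻¹) • -b₂ = V at hne hpv hV
    obtain ⟨T, hTM, hTi, hTP, hTV, -⟩ := torus 0 1 (by decide) P hP _ ((D 1).smul_mem (τ (f P V))⁻¹ hV)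
      (by rw [smul_right hf, map_inv₀, hf.involutive, inv_mul_cancel₀ hne]) μ hμs hμ0
    rw [map_smul, smul_comm] at hTV
    refine ⟨P, hP, fun h => hne (by rw [h, zero_left hf]), rootIn_component hf (hts 0 P hP P hP)
      (hts 1 V hV V hV) hne hμs hμ0 hμ1 hTM hTi hTP ?_ hpv⟩
    exact smul_right_injective _ (inv_ne_zero ((map_ne_zero τ).2 hne)) hTV
  -- a root group in a member
  obtain ⟨i, y, hy, hy0, hyM⟩ : ∃ (i : Fin 2) (y : Fin 4 → F), y ∈ D i ∧ y ≠ 0 ∧ RootIn hf M y := by
    obtain ⟨x, y, hxx, hyy, hxy, hR, hx0, hy0, hyx, hna⟩ : ∃ x y, f x x = 0 ∧ f y y = 0 ∧ f x y = 0 ∧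
        (∀ s : F, uroot hf x (s • y) ∈ M) ∧ x ≠ 0 ∧ y ≠ 0 ∧ y ∉ F ∙ x ∧ ∀ i j : Fin 2, j ≠ i → ¬ (x ∈ D i ∧ y ∈ D j) := by
      by_contra hno; push Not at hno
      have hin : ∀ i, ∀ a ∈ D i, ∃ l, act g a ∈ D l := by
        intro i a ha
        rcases eq_or_ne a 0 with rfl | ha0
        · exact ⟨0, by simp⟩
        obtain ⟨j, hij, -⟩ := hother i
        obtain ⟨p, hp, hpa⟩ := SetLike.not_le_iff_exists.1 (show ¬ D i ≤ F ∙ a by
          intro hle
          have := Submodule.finrank_mono hle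
          rw [finrank_span_singleton ha0, hdim] at this
          omega)
        obtain ⟨b, hb, hab, hpb⟩ := hdual i j hij a ha p hp hpa
        obtain ⟨l, l', -, h1, -⟩ := hno (act g a) (act g b)
          (by rw [mem_uiso.1 hgf]; exact hts i a ha a ha) (by rw [mem_uiso.1 hgf]; exact hts j b hb b hb)
          (by rw [mem_uiso.1 hgf]; exact hab)
          (fun s => by
            have h := hconj hgM (hrootH i j hij a ha _ ((D j).smul_mem s hb) (by
              rw [smul_right hf, hab, mul_zero]))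
            rwa [conj_uroot hf hgf (by rw [smul_right hf, hab, mul_zero]), map_smul] at h)
          (fun h => ha0 (act_injective g (h.trans (map_zero _).symm)))
          (fun h => by
            have := act_injective g (h.trans (map_zero _).symm)
            rw [this, zero_right hf] at hpb; exact zero_ne_one hpb)
          (fun h => by
            obtain ⟨k, hk⟩ := Submodule.mem_span_singleton.1 h
            have hb' : b = k • a := act_injective g (by rw [map_smul, hk])
            have := hdisj i j hij b (hb' ▸ (D i).smul_mem k ha) hb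
            rw [this, zero_right hf] at hpb; exact zero_ne_one hpb)
        exact ⟨l, h1⟩
      have hto : ∀ i, ∃ l, ∀ a ∈ D i, act g a ∈ D l := by
        intro i
        by_contra h; push Not at h
        obtain ⟨a, ha, ha'⟩ := h 0
        obtain ⟨b, hb, hb'⟩ := h 1
        obtain ⟨l, hl⟩ := hin i (a + b) ((D i).add_mem ha hb)
        obtain ⟨la, hla⟩ := hin i a ha
        obtain ⟨lb, hlb⟩ := hin i b hb
        have ea : la = 1 := by
          by_contra hne; exact ha' ((show la = 0 by omega) ▸ hla)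
        have eb : lb = 0 := by
          by_contra hne; exact hb' ((show lb = 1 by omega) ▸ hlb)
        subst ea eb
        rw [map_add] at hl
        rcases (show l = 0 ∨ l = 1 by omega) with rfl | rfl
        · exact ha' (((D 0).add_mem_iff_left hlb).1 hl)
        · exact hb' (((D 1).add_mem_iff_right hla).1 hl)
      choose σ hσ using hto
      refine hg (hmem g (Equiv.ofBijective σ (Finite.injective_iff_bijective.1 ?_)) hσ)
      intro a b hab
      by_contra hne
      obtain ⟨u, hu, hu0⟩ := hex a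
      have e2 : (D b).map (act g) = D (σ b) :=
        Submodule.eq_of_le_of_finrank_eq (Submodule.map_le_iff_le_comap.2 (hσ b))
          (by rw [finrank_map_act, hdim, hdim])
      have hgu : act g u ∈ (D b).map (act g) := by rw [e2, ← hab]; exact hσ a u hu
      obtain ⟨w, hw, hwu⟩ := hgu
      rw [act_injective g hwu] at hw
      exact hu0 (hdisj a b (Ne.symm hne) u hu hw)
    by_cases hy' : ∃ i, y ∈ D i
    · obtain ⟨i, hi⟩ := hy'
      obtain ⟨j, hij, -⟩ := hother i
      exact ⟨i, y, hi, hy0, keyD i j hij y hi hy0 x (fun h => hna j i hij.symm ⟨h, hi⟩) hxx hxy hR⟩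
    by_cases hx' : ∃ i, x ∈ D i
    · obtain ⟨i, hi⟩ := hx'
      obtain ⟨j, hij, -⟩ := hother i
      refine ⟨i, x, hi, hx0, keyD i j hij x hi hx0 y (fun h => hna i j hij ⟨hi, h⟩) hyy
        (eq_zero_symm hf hxy) fun s => ?_⟩
      have h := hR (-τ s)
      rwa [neg_smul, ← smul_neg, ← uroot_smul hf hxx (by rw [neg_left' hf, neg_right' hf, hyy]; simp)
        (by rw [neg_right' hf, hxy, neg_zero]), ← uroot_swap hf hyy
        (by rw [smul_left hf, smul_right hf, hxx]; ring)
        (by rw [smul_right hf, eq_zero_symm hf hxy, mul_zero])] at h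
    push Not at hx' hy'
    obtain ⟨p, hp, v, hv, rfl⟩ := hrep 0 1 (by decide) x
    obtain ⟨r, hr, u, hu, rfl⟩ := hrep 0 1 (by decide) y
    have hp0 : p ≠ 0 := fun h => hx' 1 (by rw [h, zero_add]; exact hv)
    have hr0 : r ≠ 0 := fun h => hy' 1 (by rw [h, zero_add]; exact hu)
    have hv0 : v ≠ 0 := fun h => hx' 0 (by rw [h, add_zero]; exact hp)
    have hu0 : u ≠ 0 := fun h => hy' 0 (by rw [h, add_zero]; exact hr)
    by_cases hvu : u ∈ F ∙ v
    · obtain ⟨m, rfl⟩ := Submodule.mem_span_singleton.1 hvu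
      obtain ⟨a, ha, ha0, haM⟩ := point 0 1 (by decide) p hp hp0 v hv hv0 r hr hr0 m hxx hxy hyx hR
      exact ⟨0, a, ha, ha0, haM⟩
    by_cases hpr : r ∈ F ∙ p
    · obtain ⟨m, rfl⟩ := Submodule.mem_span_singleton.1 hpr
      obtain ⟨a, ha, ha0, haM⟩ := point 1 0 (by decide) v hv hv0 p hp hp0 u hu hu0 m
        (by rw [add_comm v p]; exact hxx) (by rw [add_comm v p, add_comm u]; exact hxy)
        (by rw [add_comm v p, add_comm u]; exact hyx)
        (fun s => by rw [add_comm v p, add_comm u]; exact hR s)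
      exact ⟨1, a, ha, ha0, haM⟩
    obtain ⟨a, ha, ha0, haM⟩ := graph p hp hp0 v hv hv0 r hr u hu hpr hvu hxx hyy hxy hR
    exact ⟨0, a, ha, ha0, haM⟩
  obtain ⟨j, hij, hcov⟩ := hother i
  -- all of `D i`
  have hstep : ∀ u ∈ D i, ∀ w ∈ D i, u ≠ 0 → w ∉ F ∙ u → RootIn hf M u → RootIn hf M w := by
    intro u hu w hw hu0 hwu hM
    have hd : w - u ∈ D i := (D i).sub_mem hw hu
    have hn : u ∉ F ∙ (w - u) := by
      intro h
      obtain ⟨s, hs⟩ := Submodule.mem_span_singleton.1 h
      have hs0 : s ≠ 0 := by rintro rfl; rw [zero_smul] at hs; exact hu0 hs.symm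
      apply hwu
      refine Submodule.mem_span_singleton.2 ⟨s⁻¹ + 1, ?_⟩
      have h8 : w - u = s⁻¹ • u := by rw [← inv_smul_smul₀ hs0 (w - u), hs]
      rw [add_smul, one_smul, ← h8, sub_add_cancel]
    obtain ⟨b, hb, hab, hub⟩ := hdual i j hij (w - u) hd u hu hn
    have hh := hrootH i j hij _ hd b hb hab
    have hdd := hts i _ hd _ hd
    have hbb := hts j b hb b hb
    have := rootIn_conj hf hh (uroot_mem hf hdd hbb hab).1 hM
    rwa [act_uroot hf hdd hbb hab, hts i u hu _ hd, hub, zero_smul, sub_zero, one_smul, add_sub_cancel] at this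
  have hR0 : RootIn hf M (0 : Fin 4 → F) := by simpa using rootIn_smul hf hyM 0
  have hall : ∀ w ∈ D i, RootIn hf M w := by
    intro w hw
    rcases eq_or_ne w 0 with rfl | hw0
    · exact hR0
    by_cases h : w ∈ F ∙ y
    · obtain ⟨z, hz, hzy⟩ := SetLike.not_le_iff_exists.1 (show ¬ D i ≤ F ∙ y by
        intro hle
        have := Submodule.finrank_mono hle
        rw [finrank_span_singleton hy0, hdim] at this
        omega)
      have hz0 : z ≠ 0 := fun h => hzy (by rw [h]; exact Submodule.zero_mem _)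
      refine hstep z hz w hw hz0 (fun hwz => ?_) (hstep y hy z hz hy0 hzy hyM)
      obtain ⟨s, rfl⟩ := Submodule.mem_span_singleton.1 hwz
      have hs : s ≠ 0 := by rintro rfl; simp at hw0
      exact hzy ((Submodule.smul_mem_iff _ hs).1 h)
    · exact hstep y hy w hw hy0 h hyM
  -- the exchange of the two subspaces
  obtain ⟨h, hhf, hhi, hhj⟩ : ∃ h ∈ uiso f ⊓ Cfsg.Geo.specialLinear (Fin 4) F,
      (∀ a ∈ D i, act h a ∈ D j) ∧ ∀ b ∈ D j, act h b ∈ D i := by
    let B := Module.finBasis F (D i)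
    have hw : ∀ l, ∃ w ∈ D j, ∀ m, f (B m : Fin 4 → F) w = if m = l then 1 else 0 := by
      intro l
      obtain ⟨φ, hφ⟩ := (B.coord l).exists_extend
      obtain ⟨w, hw, hwφ⟩ := hrepr i j hij φ
      refine ⟨w, hw, fun m => ?_⟩
      rw [← hwφ _ (B m).2, show φ (B m : Fin 4 → F) = B.coord l (B m) from LinearMap.congr_fun hφ (B m)]
      simp [Finsupp.single_apply]
    choose w hwj hwB using hw
    have hwB' : ∀ m l, f (w l) (B m : Fin 4 → F) = if m = l then 1 else 0 := by
      intro m l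
      rw [← herm' hf, hwB]; split <;> simp
    have hspan : ∀ x ∈ D j, x = ∑ l, f x (B l : Fin 4 → F) • w l := by
      intro x hx
      by_contra hne
      obtain ⟨d, hd⟩ : ∃ d, d = x - ∑ l, f x (B l : Fin 4 → F) • w l := ⟨_, rfl⟩
      have hd0 : d ≠ 0 := hd ▸ sub_ne_zero.2 hne
      have hdj : d ∈ D j := hd ▸ (D j).sub_mem hx ((D j).sum_mem fun l _ => (D j).smul_mem _ (hwj l))
      have hker : ∀ a ∈ D i, f a d = 0 := by
        have h1 : ∀ m, f d (B m : Fin 4 → F) = 0 := by
          intro m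
          rw [hd, ← flinU_apply hf, map_sub, map_sum]
          simp [flinU_apply, hwB']
        intro a ha
        have e : a = ∑ m, B.repr ⟨a, ha⟩ m • (B m : Fin 4 → F) := by
          simpa only [map_sum, map_smul, Submodule.subtype_apply] using (congrArg (D i).subtype (B.sum_repr ⟨a, ha⟩)).symm
        rw [e, ← flinU_apply hf, map_sum]
        exact Finset.sum_eq_zero fun m _ => by rw [map_smul, flinU_apply, eq_zero_symm hf (h1 m), smul_zero]
      obtain ⟨z, hz⟩ := (hf.nondegenerate d hd0).1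
      obtain ⟨a, ha, b, hb, rfl⟩ := hrep i j hij z
      exact hz (by rw [add_left hf, hker a ha, hts j b hb d hdj, add_zero])
    have hBB : ∀ l m, f (B l : Fin 4 → F) (B m : Fin 4 → F) = 0 := fun l m => hts i _ (B l).2 _ (B m).2
    have hww : ∀ l m, f (w l) (w m) = 0 := fun l m => hts j _ (hwj l) _ (hwj m)
    have hζ' : (-ζ⁻¹) + τ (-ζ⁻¹) = 0 := by
      rw [map_neg, map_inv₀, eq_neg_of_add_eq_zero_right hζ, inv_neg]; ring
    have ind : ∀ s : Finset (Fin (Module.finrank F (D i))), ∃ h ∈ uiso f ⊓ Cfsg.Geo.specialLinear (Fin 4) F,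
        ∀ l, (l ∈ s → act h (B l : Fin 4 → F) = (-ζ⁻¹) • w l ∧ act h (w l) = ζ • (B l : Fin 4 → F)) ∧
          (l ∉ s → act h (B l : Fin 4 → F) = (B l : Fin 4 → F) ∧ act h (w l) = w l) := by
      intro s
      induction s using Finset.induction_on with
      | empty => exact ⟨1, one_mem _, fun l => ⟨fun h => absurd h (Finset.notMem_empty l),
          fun _ => by simp [act_one]⟩⟩
      | insert a s has ih =>
        obtain ⟨h, hh, hl⟩ := ih
        obtain ⟨T, hT⟩ : ∃ T, T = utv hf (B a : Fin 4 → F) ζ * utv hf (w a) (-ζ⁻¹) *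
            utv hf (B a : Fin 4 → F) ζ := ⟨_, rfl⟩
        have hTmem : T ∈ uiso f ⊓ Cfsg.Geo.specialLinear (Fin 4) F := hT ▸ mul_mem (mul_mem
          (hU0 _ _ (hBB a a) hζ) (hU0 _ _ (hww a a) hζ')) (hU0 _ _ (hBB a a) hζ)
        have hTB : act T (B a : Fin 4 → F) = (-ζ⁻¹) • w a := by
          simp only [hT, act_mul, act_utv hf (hBB a a), act_utv hf (hww a a), add_left hf, smul_left hf,
            hBB, hwB, hwB', if_true]
          match_scalars <;> field_simp <;> ring
        have hTw : act T (w a) = ζ • (B a : Fin 4 → F) := by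
          simp only [hT, act_mul, act_utv hf (hBB a a), act_utv hf (hww a a), add_left hf, smul_left hf,
            hBB, hww, hwB, hwB', if_true]
          match_scalars <;> field_simp <;> ring
        have hTfix : ∀ l, l ≠ a → act T (B l : Fin 4 → F) = (B l : Fin 4 → F) ∧ act T (w l) = w l := by
          intro l hla
          constructor <;>
          · simp only [hT, act_mul, act_utv hf (hBB a a), act_utv hf (hww a a), hBB, hww, hwB, hwB',
              if_neg hla, if_neg (Ne.symm hla), mul_zero, zero_smul, add_zero]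
        refine ⟨T * h, mul_mem hTmem hh, fun l => ⟨fun hm => ?_, fun hm => ?_⟩⟩
        · rcases Finset.mem_insert.1 hm with rfl | hm
          · rw [act_mul, act_mul, ((hl l).2 has).1, ((hl l).2 has).2]; exact ⟨hTB, hTw⟩
          · have hla : l ≠ a := fun e => has (e ▸ hm)
            rw [act_mul, act_mul, ((hl l).1 hm).1, ((hl l).1 hm).2, map_smul, map_smul, (hTfix l hla).1,
              (hTfix l hla).2]
            exact ⟨rfl, rfl⟩
        · rw [Finset.mem_insert, not_or] at hm
          rw [act_mul, act_mul, ((hl l).2 hm.2).1, ((hl l).2 hm.2).2]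
          exact hTfix l hm.1
    obtain ⟨h, hh, hl⟩ := ind Finset.univ
    refine ⟨h, hh, fun a ha => ?_, fun b hb => ?_⟩
    · have e : a = ∑ m, B.repr ⟨a, ha⟩ m • (B m : Fin 4 → F) := by
        simpa only [map_sum, map_smul, Submodule.subtype_apply] using (congrArg (D i).subtype (B.sum_repr ⟨a, ha⟩)).symm
      rw [e, map_sum]
      exact (D j).sum_mem fun m _ => by
        rw [map_smul, ((hl m).1 (Finset.mem_univ m)).1]; exact (D j).smul_mem _ ((D j).smul_mem _ (hwj m))
    · rw [hspan b hb, map_sum]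
      exact (D i).sum_mem fun m _ => by
        rw [map_smul, ((hl m).1 (Finset.mem_univ m)).2]; exact (D i).smul_mem _ ((D i).smul_mem _ (B m).2)
  have hhM : h ∈ M := by
    refine hM1 ⟨hmem h (Equiv.swap i j) fun l z hz => ?_, hhf⟩
    rcases hcov l with rfl | rfl
    · rw [Equiv.swap_apply_left]; exact hhi z hz
    · rw [Equiv.swap_apply_right]; exact hhj z hz
  have hfullj : ∀ w ∈ D j, RootIn hf M w := by
    intro w hw
    have hmap : (D i).map (act h) = D j :=
      Submodule.eq_of_le_of_finrank_eq (Submodule.map_le_iff_le_comap.2 hhi)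
        (by rw [finrank_map_act, hdim, hdim])
    obtain ⟨a, ha, rfl⟩ : w ∈ (D i).map (act h) := hmap ▸ hw
    exact rootIn_conj hf hhM hhf.1 (hall a ha)
  refine le_antisymm hM2 (su_le_of_utv_four hf (by rw [Fintype.card_fin]) M fun v c hv hc => ?_)
  suffices h : RootIn hf M v from h.2 c hc
  obtain ⟨p, hp, w, hw, rfl⟩ := hrep i j hij v
  have hpw : f p w + τ (f p w) = 0 := by
    rw [herm' hf]
    rwa [add_left hf, add_right hf, add_right hf, hts i p hp p hp, hts j w hw w hw, zero_add, add_zero] at hv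
  -- adding a vector of `D j` along a skew product
  have hadd : ∀ x z, RootIn hf M x → z ∈ D j → f x z ≠ 0 → f x z + τ (f x z) = 0 → RootIn hf M (x + z) := by
    intro x z hx hz hne hsk
    have := rootIn_add hf (hfullj z hz) hx (c := (f x z)⁻¹) (by
      rw [map_inv₀, eq_neg_of_add_eq_zero_right hsk, inv_neg, add_neg_cancel])
    rwa [inv_mul_cancel₀ hne, one_smul] at this
  by_cases h0 : f p w = 0
  · rcases eq_or_ne p 0 with rfl | hp0
    · rw [zero_add]; exact hfullj w hw
    obtain ⟨φ, -, hφ⟩ := exists_dual (⊥ : Submodule F (Fin 4 → F)) (by simpa using hp0)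
    obtain ⟨z, hz, hzφ⟩ := hrepr i j hij (ζ • φ)
    have hpz : f p z = ζ := by rw [← hzφ p hp, LinearMap.smul_apply, hφ, smul_eq_mul, mul_one]
    have h1 := hadd p z (hall p hp) hz (by rw [hpz]; exact hζ0) (by rw [hpz]; exact hζ)
    have e : f (p + z) (w - z) = -ζ := by
      rw [add_left hf, sub_right hf, sub_right hf, h0, hpz, hts j z hz w hw, hts j z hz z hz]; ring
    have h2 := hadd (p + z) (w - z) h1 ((D j).sub_mem hw hz) (by rw [e]; exact neg_ne_zero.2 hζ0)
      (by rw [e, map_neg]; linear_combination -hζ)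
    convert h2 using 1; abel
  · exact hadd p w (hall p hp) hw h0 hpw

end Cfsg.Agent.MaxCl.SU4
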