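/-
Subfield subgroups of SU_4(q) are maximal: odd index, and index two of orthogonal type.
-/
import Cfsg.Agent.Lib.MaxCl.UnitarySubfield
import Cfsg.Agent.Lib.MaxCl.SU4.OrthSubfield
import Cfsg.Agent.Lib.MaxCl.SU4.Basic

set_option autoImplicit false

namespace Cfsg.Agent.MaxCl.SU4

open Cfsg

/-- Subfield groups of odd prime index are maximal. -/
theorem subfield_maximal_four {F : Type*} [Field F] [Fintype F] (q : ℕ) (hF : Fintype.card F = q ^ 2) (F₀ : Subfield F) (r : ℕ) (hr : r.Prime) (hro : Odd r) (hcard : Fintype.card F = Nat.card F₀ ^ r) (P : Matrix.GeneralLinearGroup (Fin 4) F) (hP : Cfsg.Geo.IsFormRationalStructure (Cfsg.hermForm 4 F q) F₀ 1 P) : Cfsg.Geo.IsMaximalIn (Cfsg.GU 4 F q ⊓ Cfsg.Geo.specialLinear (Fin 4) F) (Cfsg.Geo.subfieldSubgroup F₀ P ⊓ (Cfsg.GU 4 F q ⊓ Cfsg.Geo.specialLinear (Fin 4) F)) := by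
  classical
  obtain ⟨τ, hτ, hf⟩ := Cfsg.Agent.MaxCl.Unit.hermForm_isUnitary 4 q hF
  change Cfsg.Geo.IsMaximalIn (Cfsg.Agent.MaxCl.Unit.uiso (Cfsg.hermForm 4 F q) ⊓ _)
    (_ ⊓ (Cfsg.Agent.MaxCl.Unit.uiso (Cfsg.hermForm 4 F q) ⊓ _))
  refine Cfsg.Agent.MaxCl.USub.subfield_maximal hf (by rw [Fintype.card_fin]) F₀ P ?_ ?_ ?_ hr hro
    (by rw [Nat.card_eq_fintype_card, hcard])
  · rintro _ ⟨u, hu, rfl⟩ _ ⟨v, hv, rfl⟩
    have := hP u v hu hv
    rwa [one_mul, ← Cfsg.Agent.MaxCl.act_apply, ← Cfsg.Agent.MaxCl.act_apply] at this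
  · intro a ha
    rw [hτ]
    exact pow_mem ha q
  · by_contra hno
    push Not at hno
    haveI : Fintype F₀ := Fintype.ofFinite _
    obtain ⟨p, hp⟩ := CharP.exists F
    haveI : CharP F₀ p := (RingHom.charP_iff (F₀.subtype) Subtype.val_injective p).2 hp
    obtain ⟨a, hpp, ha⟩ := FiniteField.card F₀ p
    obtain ⟨k, -, hk⟩ := FiniteField.card F p
    -- every element of `F₀` is fixed, so its order is at most `q`
    have hq2 : 2 ≤ q := by
      rcases Nat.lt_or_ge q 2 with h | h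
      · have := Fintype.one_lt_card (α := F)
        rw [hF] at this
        interval_cases q <;> simp at this
      · exact h
    have hfix : ∀ x : F₀, x ^ q = x := fun x => Subtype.ext (by
      rw [SubmonoidClass.coe_pow, ← hτ]; exact hno _ x.2)
    obtain ⟨g, hg⟩ := IsCyclic.exists_generator (α := F₀ˣ)
    have hg1 : g ^ (q - 1) = 1 := by
      have : g ^ q = g := Units.ext (hfix g)
      rw [← mul_left_inj g, ← pow_succ, Nat.sub_add_cancel (by omega), this, one_mul]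
    have hdvd := orderOf_dvd_of_pow_eq_one hg1
    rw [orderOf_eq_card_of_forall_mem_zpowers hg, Nat.card_units, Nat.card_eq_fintype_card, ha] at hdvd
    have hpa : (p : ℕ) ^ (k : ℕ) = p ^ ((a : ℕ) * r) := by
      rw [← hk, hcard, Nat.card_eq_fintype_card, ha, pow_mul]
    have hka := Nat.pow_right_injective hpp.two_le hpa
    obtain ⟨j, -, hj⟩ := (Nat.dvd_prime_pow hpp).1 (hk ▸ hF ▸ dvd_pow_self q two_ne_zero)
    have hkj : (k : ℕ) = j * 2 := Nat.pow_right_injective hpp.two_le (show (p : ℕ) ^ (k : ℕ) = p ^ (j * 2) by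
      rw [← hk, hF, hj, pow_mul])
    rw [hj] at hdvd
    have haj : (a : ℕ) ∣ j := by
      have h1 := Nat.pow_sub_one_gcd_pow_sub_one p (a : ℕ) j
      rw [Nat.gcd_eq_left hdvd] at h1
      have h2 : p ^ (a : ℕ) = p ^ Nat.gcd a j := by
        have := Nat.one_le_pow (a : ℕ) p hpp.pos
        have := Nat.one_le_pow (Nat.gcd (a : ℕ) j) p hpp.pos
        omega
      rw [Nat.pow_right_injective hpp.two_le h2]
      exact Nat.gcd_dvd_right _ _
    obtain ⟨m, hm⟩ := haj
    have hr2 : r = m * 2 := Nat.eq_of_mul_eq_mul_left a.pos (by rw [← hka, hkj, hm]; ring)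
    exact (Nat.not_even_iff_odd.2 hro) ⟨m, by omega⟩

/-- Subfield groups of orthogonal type are maximal. -/
theorem orthSubfield_maximal_four {F : Type*} [Field F] [Fintype F] (q : ℕ) (hF : Fintype.card F = q ^ 2) (hodd : Odd q) (hq5 : 5 ≤ q) (F₀ : Subfield F) (hcard : Fintype.card F = Nat.card F₀ ^ 2) (P : Matrix.GeneralLinearGroup (Fin 4) F) (hP : Cfsg.Geo.IsFormRationalStructure (Cfsg.hermForm 4 F q) F₀ 1 P) : Cfsg.Geo.IsMaximalIn (Cfsg.GU 4 F q ⊓ Cfsg.Geo.specialLinear (Fin 4) F) (Cfsg.Geo.subfieldSubgroup F₀ P ⊓ (Cfsg.GU 4 F q ⊓ Cfsg.Geo.specialLinear (Fin 4) F)) := by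
  classical
  obtain ⟨τ, hτ, hf⟩ := Cfsg.Agent.MaxCl.Unit.hermForm_isUnitary 4 q hF
  change Cfsg.Geo.IsMaximalIn (Cfsg.Agent.MaxCl.Unit.uiso (Cfsg.hermForm 4 F q) ⊓ _)
    (_ ⊓ (Cfsg.Agent.MaxCl.Unit.uiso (Cfsg.hermForm 4 F q) ⊓ _))
  haveI : Fintype F₀ := Fintype.ofFinite _
  have hq : Fintype.card F₀ = q := by
    rw [hF, Nat.card_eq_fintype_card (α := F₀)] at hcard
    exact ((pow_left_inj₀ (Nat.zero_le _) (Nat.zero_le _) (two_ne_zero)).1 hcard).symm
  have hq1 : 1 < q := hq ▸ Fintype.one_lt_card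
  have hfix : ∀ a : F, a ∈ F₀ ↔ τ a = a := by
    intro a
    constructor
    · intro ha
      rw [hτ, ← hq]
      exact congrArg Subtype.val (FiniteField.pow_card (⟨a, ha⟩ : F₀))
    · intro ha
      let p : Polynomial F := Polynomial.X ^ q - Polynomial.X
      have hne : p ≠ 0 := FiniteField.X_pow_card_sub_X_ne_zero F hq1
      have hroot : ∀ x : F, τ x = x → x ∈ p.roots.toFinset := by
        intro x hx
        rw [Multiset.mem_toFinset, Polynomial.mem_roots hne]
        simp [p, ← hτ, hx]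
      have hsub : (Finset.univ.image fun x : F₀ => (x : F)) = p.roots.toFinset := by
        refine Finset.eq_of_subset_of_card_le (fun x hx => ?_) ?_
        · obtain ⟨y, -, rfl⟩ := Finset.mem_image.1 hx
          apply hroot
          rw [hτ, ← hq]
          exact congrArg Subtype.val (FiniteField.pow_card y)
        · rw [Finset.card_image_of_injective _ Subtype.val_injective, Finset.card_univ, hq]
          refine ((Multiset.toFinset_card_le _).trans (Polynomial.card_roots' p)).trans ?_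
          simp only [p]; rw [FiniteField.X_pow_card_sub_X_natDegree_eq F hq1]
      have := hroot a ha
      rw [← hsub] at this
      obtain ⟨y, -, rfl⟩ := Finset.mem_image.1 this
      exact y.2
  refine Cfsg.Agent.MaxCl.UOrth4.orth4_maximal hf (Fintype.card_fin 4) F₀ P ?_ hfix ?_ ?_
  · rintro _ ⟨u, hu, rfl⟩ _ ⟨v, hv, rfl⟩
    have := hP u v hu hv
    rwa [one_mul, ← Cfsg.Agent.MaxCl.act_apply, ← Cfsg.Agent.MaxCl.act_apply] at this
  · refine Ring.two_ne_zero fun hc => ?_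
    have h0 := FiniteField.even_card_iff_char_two.1 hc
    obtain ⟨k, hk⟩ := hodd
    rw [hF, hk, pow_two] at h0
    simp [Nat.add_mod, Nat.mul_mod] at h0
  · obtain ⟨μ, hμs, hμ0, -, hμ4⟩ := Cfsg.Agent.MaxCl.Unit.exists_fixed_ne hF (by omega) hτ
    exact ⟨μ, (hfix μ).2 hμs, hμ0, hμ4 (by omega)⟩

end Cfsg.Agent.MaxCl.SU4
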